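import Cfsg.Agent.UM.K1
import Cfsg.Agent.Class.HermMaxND

/-!
# Standard subgroups of type `U_m(2ⁿ)`: transitivity
-/

set_option autoImplicit false
set_option linter.unusedSectionVars false

namespace Cfsg.Lib.UM

open Subgroup Module Cfsg.Lib.Trans Cfsg.Lib.Gold Cfsg.Lib.Class.Form Cfsg.Lib.Class.FAut
open Cfsg.Lib.Class (spanL mem_spanL_singleton mem_spanL_pair)

variable {E M : Type*} [Field E] [Finite E] [AddCommGroup M] [Module E M] [FiniteDimensional E M]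
  {σ : E →+* E} {B : M →ₛₗ[σ] M →ₗ[E] E}

theorem Mo.witt (h : Mo B) {ι : Type*} [Fintype ι] {x y : ι → M} (hx : LinearIndependent E x)
    (hy : LinearIndependent E y) (hB : ∀ i j, B (y i) (y j) = B (x i) (x j))
    (hd : ∃ d, B d d ≠ 0 ∧ ∀ i, B (y i) d = 0) : ∃ g : sIsom B, ∀ i, lin g (x i) = y i := by
  obtain ⟨d, hd, hd'⟩ := hd
  obtain ⟨g, hg⟩ := h.toGood.witt_family hx hy hB
  obtain ⟨μ, hμ, e⟩ := h.toHerm.exists_mul_qrefl_mem hd g⁻¹
  refine ⟨(⟨_, e⟩ : sIsom B)⁻¹, fun i => ?_⟩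
  have : lin (⟨_, e⟩ : sIsom B) (y i) = x i := by
    rw [lin_mk, isom_mul_apply, h.toHerm.qrefl_apply_of_orth hd μ hμ (h.swap (hd' i)), ← hg,
      isom_inv_apply]
  rw [← this, lin_inv_lin]

theorem Mo.nonis (h : Mo B) {ι : Type*} [Fintype ι] (y : ι → M) (hc : Fintype.card ι ≤ 2) :
    ∃ d, B d d ≠ 0 ∧ ∀ i, B (y i) d = 0 := by
  have := h.six
  have h1 := finrank_range_le_card (R := E) y
  obtain ⟨d, h2, h3⟩ := h.toHerm.exists_nonisotropic_orth_of_lt
    (W := Submodule.span E (Set.range y)) (by unfold Set.finrank at h1; omega)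
  exact ⟨d, h3, fun i => mem_orth_span.1 h2 _ ⟨i, rfl⟩⟩

theorem Mo.tr1 (h : Mo B) {u w : M} (hu : B u u = 0) (u0 : u ≠ 0) (hw : B w w = 0) (w0 : w ≠ 0) :
    ∃ g : sIsom B, lin g u = w := by
  obtain ⟨g, hg⟩ := h.witt (x := fun _ : Unit => u) (y := fun _ => w)
    (linearIndependent_unique_iff.2 u0) (linearIndependent_unique_iff.2 w0)
    (fun _ _ => hw.trans hu.symm) (h.nonis _ (by simp))
  exact ⟨g, hg ()⟩

theorem Mo.tT_conj' (h : Mo B) {u w : M} (hu : B u u = 0) (u0 : u ≠ 0) (hw : B w w = 0) (w0 : w ≠ 0)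
    {c d : E} (hc : σ c = c) (c0 : c ≠ 0) (hd : σ d = d) (d0 : d ≠ 0) :
    ∃ g, g * tT B u c * g⁻¹ = tT B w d := by
  obtain ⟨a, ha, e1⟩ := h.tT_nm hu hc
  obtain ⟨b, hb, e2⟩ := h.tT_nm hw hd
  have k1 : B (a • u) (a • u) = 0 := by simp [hu]
  obtain ⟨g, hg⟩ := h.tr1 k1 (smul_ne_zero (by rintro rfl; exact c0 (by simpa using ha.symm)) u0)
    (w := b • w) (by simp [hw]) (smul_ne_zero (by rintro rfl; exact d0 (by simpa using hb.symm)) w0)
  exact ⟨g, by rw [e1, e2, h.tT_conj g k1 (map_one σ), hg]⟩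

theorem Mo.tr2 (h : Mo B) {u w u' w' : M} (k : I2 B u w) (li : LinearIndependent E ![u, w])
    (k' : I2 B u' w') (li' : LinearIndependent E ![u', w']) :
    ∃ g : sIsom B, lin g u = u' ∧ lin g w = w' := by
  obtain ⟨g, hg⟩ := h.witt li li' (fun i j => by
    fin_cases i <;> fin_cases j <;>
      simp [k.uu, k.ww, k.uw, h.swap k.uw, k'.uu, k'.ww, k'.uw, h.swap k'.uw]) (h.nonis _ (by simp))
  exact ⟨g, hg 0, hg 1⟩

theorem Mo.trW (h : Mo B) {W W' : Submodule E M} (hW : Mx B W) (hW' : Mx B W') :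
    ∃ g : sIsom B, ∀ x, x ∈ W ↔ lin g x ∈ W' := by
  have := h.six
  obtain ⟨g, hg⟩ := h.toGood.exists_map_eq_of_totIso hW.ti hW'.ti (hW.dim.trans hW'.dim.symm)
  obtain ⟨s, hs, e⟩ := h.toHerm.exists_mem_stab_det (by omega) hW.ti (h.toHerm.norm_det g⁻¹)
  refine ⟨⟨g * s, ?_⟩, fun x => ?_⟩
  · rw [mem_sIsom', Subgroup.coe_mul, map_mul, Units.val_mul, e, Subgroup.coe_inv, map_inv,
      Units.mul_inv]
  · rw [lin_mk, isom_mul_apply, mem_stab.1 hs x, ← hg]
    exact (Submodule.mem_map_equiv _ (e := (g : M ≃ₗ[E] M))).trans (by simp) |>.symm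

theorem Mo.exists_iso (h : Mo B) : ∃ u : M, u ≠ 0 ∧ B u u = 0 :=
  h.toHerm.exists_isotropic (by have := h.six; omega)

theorem Mo.ext2 (h : Mo B) {u : M} (hu : B u u = 0) (u0 : u ≠ 0) :
    ∃ w, I2 B u w ∧ LinearIndependent E ![u, w] := by
  have := h.six
  obtain ⟨w, -, h1, h2, h3⟩ := h.toHerm.exists_iso_in ⊤ [B u] [u] (by simp; omega)
  exact ⟨w, ⟨hu, h3, h1 _ (by simp)⟩, (LinearIndependent.pair_iff' u0).2 fun a ha =>
    h2 (mem_spanL_singleton.2 ⟨a, ha⟩)⟩

theorem Mo.ext3 (h : Mo B) {u w : M} (k : I2 B u w) (li : LinearIndependent E ![u, w]) :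
    ∃ x, I3 B u w x ∧ LinearIndependent E ![u, w, x] := by
  have := h.six
  obtain ⟨x, -, h1, h2, h3⟩ := h.toHerm.exists_iso_in ⊤ [B u, B w] [u, w] (by simp; omega)
  refine ⟨x, ⟨k, h3, h1 _ (by simp), h1 _ (by simp)⟩, ?_⟩
  have := linearIndependent_finSnoc.2 ⟨li, fun e => h2 (mem_spanL_pair.2 (by
    simpa [Matrix.range_cons, Matrix.range_empty, Set.pair_comm w, Submodule.mem_span_pair]
      using e))⟩
  convert this using 1
  ext i
  fin_cases i <;> rfl

theorem Mo.dual (h : Mo B) {ι κ : Type*} [Fintype ι] [DecidableEq ι] {e : ι → M} {s : κ → M}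
    (li : LinearIndependent E (Sum.elim e s)) (he : ∀ i j, B (e i) (e j) = 0)
    (hs : ∀ i k, B (s k) (e i) = 0) : ∃ f : ι → M, (∀ i j, B (f i) (f j) = 0) ∧
      (∀ i j, B (e i) (f j) = if i = j then 1 else 0) ∧ ∀ k j, B (s k) (f j) = 0 := by
  obtain ⟨ω, hω⟩ := h.exists_tr (map_one σ)
  choose g hg using fun j => h.toGood.exists_forall_eq' li
    (Sum.elim (fun i => if i = j then (1 : E) else 0) fun _ => 0)
  have h1 : ∀ i j, B (e i) (g j) = if i = j then 1 else 0 := fun i j => hg j (.inl i)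
  have h2 : ∀ i j, B (g j) (e i) = if i = j then 1 else 0 := fun i j => by
    rw [← h.toHerm.conj, h1]; split_ifs <;> simp
  refine ⟨fun j => g j + ∑ i, (ω * B (g i) (g j)) • e i, fun i j => ?_, fun i j => ?_,
    fun k j => ?_⟩
  · simp only [map_add, map_sum, map_smul, map_smulₛₗ, LinearMap.add_apply, LinearMap.sum_apply,
      LinearMap.smul_apply, h1, h2, he, smul_eq_mul, mul_zero, Finset.sum_const_zero, add_zero,
      mul_ite, mul_one, Finset.sum_ite_eq', Finset.mem_univ, if_true, map_mul, h.toHerm.conj]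
    linear_combination B (g i) (g j) * hω + B (g i) (g j) * h.two
  · simp [h1, he]
  · simp [hs, show B (s k) (g j) = 0 from hg j (.inr k)]

theorem Mo.dual' (h : Mo B) {ι : Type*} [Fintype ι] [DecidableEq ι] {e : ι → M}
    (li : LinearIndependent E e) (he : ∀ i j, B (e i) (e j) = 0) : ∃ f : ι → M,
      (∀ i j, B (f i) (f j) = 0) ∧ ∀ i j, B (e i) (f j) = if i = j then 1 else 0 := by
  obtain ⟨f, h1, h2, -⟩ := h.dual (κ := Empty) (s := Empty.elim)
    ((linearIndependent_equiv' (Equiv.sumEmpty ι Empty).symm rfl).1 li) he fun _ k => k.elim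
  exact ⟨f, h1, h2⟩

theorem Mo.ext_fr (h : Mo B) {e : Fin 3 → M} (he : ∀ i j, B (e i) (e j) = 0)
    (li : LinearIndependent E e) : ∃ f, Fr3 B e f := by
  obtain ⟨f, h1, h2⟩ := h.dual' li he
  exact ⟨f, he, h1, h2⟩

theorem Mo.grow (h : Mo B) {W : Submodule E M} (hW : TotIso B W) {n : ℕ} (h1 : finrank E W ≤ n)
    (h2 : n ≤ kk E M) : ∃ W', TotIso B W' ∧ W ≤ W' ∧ finrank E W' = n := by
  induction n, h1 using Nat.le_induction with
  | base => exact ⟨W, hW, le_rfl, rfl⟩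
  | succ n _ ih =>
    obtain ⟨W', a, b, c⟩ := ih (by omega)
    obtain ⟨U, hU, hd, hs, hdim⟩ := h.toGood.exists_compl_nondeg a
    obtain ⟨e, heU, he0, he⟩ := h.toHerm.exists_isotropic_mem hU (by unfold kk at h2; omega)
    have heo : e ∈ orth B W' := hs ▸ Submodule.mem_sup_right heU
    have heW : e ∉ W' := fun hm => he0 (Submodule.disjoint_def.1 hd e hm heU)
    refine ⟨W' ⊔ E ∙ e, fun u hu v hv => ?_, b.trans le_sup_left, ?_⟩
    · obtain ⟨w, hw, x, hx, rfl⟩ := Submodule.mem_sup.1 hu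
      obtain ⟨s, rfl⟩ := Submodule.mem_span_singleton.1 hx
      obtain ⟨w', hw', x, hx, rfl⟩ := Submodule.mem_sup.1 hv
      obtain ⟨s', rfl⟩ := Submodule.mem_span_singleton.1 hx
      simp [a w hw w' hw', heo w hw, h.swap (heo w' hw'), he]
    · have h3 := Submodule.finrank_sup_add_finrank_inf_eq W' (E ∙ e)
      rw [finrank_span_singleton he0, ((Submodule.disjoint_span_singleton' he0).2 heW).eq_bot,
        finrank_bot] at h3
      omega

theorem exists_basis {W : Submodule E M} {n : ℕ} (h : finrank E W = n) :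
    ∃ e : Fin n → M, LinearIndependent E e ∧ Submodule.span E (Set.range e) = W := by
  let b := finBasisOfFinrankEq E W h
  refine ⟨W.subtype ∘ b, b.linearIndependent.map' _ W.ker_subtype, ?_⟩
  rw [Set.range_comp, ← Submodule.map_span, b.span_eq, Submodule.map_top, W.range_subtype]

theorem Mo.le_fr (h : Mo B) {W : Submodule E M} (hW : TotIso B W) (h3 : finrank E W ≤ 3) :
    ∃ e f, Fr3 B e f ∧ W ≤ Submodule.span E (Set.range e) := by
  obtain ⟨W', a, b, c⟩ := h.grow hW h3 h.three_le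
  obtain ⟨e, li, rfl⟩ := exists_basis c
  obtain ⟨f, k⟩ := h.ext_fr (fun i j => a _ (Submodule.subset_span ⟨i, rfl⟩) _
    (Submodule.subset_span ⟨j, rfl⟩)) li
  exact ⟨e, f, k, b⟩

theorem Mo.basis2 (h : Mo B) {W : Submodule E M} (hW : TotIso B W) (h2 : finrank E W ≤ 2) :
    ∃ u w, I2 B u w ∧ LinearIndependent E ![u, w] ∧ W ≤ Submodule.span E {u, w} := by
  obtain ⟨W', a, b, c⟩ := h.grow hW h2 (by have := h.three_le; omega)
  obtain ⟨e, li, rfl⟩ := exists_basis c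
  have e1 : ![e 0, e 1] = e := by ext i; fin_cases i <;> rfl
  refine ⟨e 0, e 1, I2.of_ti a (Submodule.subset_span ⟨0, rfl⟩) (Submodule.subset_span ⟨1, rfl⟩),
    e1.symm ▸ li, b.trans (Submodule.span_mono ?_)⟩
  rintro _ ⟨i, rfl⟩
  fin_cases i <;> simp

theorem Mo.le_Mx (h : Mo B) {W : Submodule E M} (hW : TotIso B W) : ∃ W', Mx B W' ∧ W ≤ W' := by
  obtain ⟨W', a, b, c⟩ := h.grow hW (n := kk E M)
    (by have := h.toGood.two_mul_finrank_le hW; unfold kk; omega) le_rfl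
  exact ⟨W', ⟨a, c⟩, b⟩

theorem Mx.mem (h : Mo B) {W : Submodule E M} (hW : Mx B W) {x : M} (hx : B x x = 0)
    (ho : x ∈ orth B W) : x ∈ W := by_contra fun hn => by
  have x0 : x ≠ 0 := by rintro rfl; exact hn W.zero_mem
  have h1 : TotIso B (W ⊔ E ∙ x) := fun u hu v hv => by
    obtain ⟨w, hw, _, hy, rfl⟩ := Submodule.mem_sup.1 hu
    obtain ⟨s, rfl⟩ := Submodule.mem_span_singleton.1 hy
    obtain ⟨w', hw', _, hx', rfl⟩ := Submodule.mem_sup.1 hv
    obtain ⟨s', rfl⟩ := Submodule.mem_span_singleton.1 hx'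
    simp [hW.ti w hw w' hw', ho w hw, h.swap (ho w' hw'), hx]
  have h2 := h.toGood.two_mul_finrank_le h1
  have h3 := Submodule.finrank_sup_add_finrank_inf_eq W (E ∙ x)
  rw [finrank_span_singleton x0, ((Submodule.disjoint_span_singleton' x0).2 hn).eq_bot,
    finrank_bot, hW.dim] at h3
  unfold kk at h3
  omega

theorem Mo.gen_fr (h : Mo B) {u w x y : M} (k : Gen B u w x y) (e : B x y = 1) :
    ∃ f₀ f₂, Fr3 B ![u, y, w] ![f₀, x, f₂] := by
  have e' : B y x = 1 := by rw [← h.toHerm.conj, e, map_one]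
  have li : LinearIndependent E (Sum.elim ![u, w] ![x, y]) := by
    refine Fintype.linearIndependent_iff.2 fun c hc => ?_
    simp only [Fintype.sum_sum_type, Fin.sum_univ_two, Sum.elim_inl, Sum.elim_inr,
      Matrix.cons_val_zero, Matrix.cons_val_one] at hc
    have h1 := congrArg (B x) hc
    have h2 := congrArg (B y) hc
    simp only [map_add, map_smul, h.swap k.ux, h.swap k.wx, h.swap k.uy, h.swap k.wy, k.xx, k.yy, e,
      e', smul_eq_mul, mul_zero, mul_one, zero_add, add_zero, map_zero] at h1 h2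
    rw [h1, h2, zero_smul, zero_smul, add_zero, add_zero] at hc
    obtain ⟨h3, h4⟩ := LinearIndependent.pair_iff.1 k.li _ _ hc
    rintro (i | i) <;> fin_cases i <;> assumption
  obtain ⟨f, h1, h2, h3⟩ := h.dual li
    (fun i j => by fin_cases i <;> fin_cases j <;> simp [k.uu, k.ww, k.uw, h.swap k.uw])
    fun i j => by
      fin_cases i <;> fin_cases j <;> simp [h.swap k.ux, h.swap k.wx, h.swap k.uy, h.swap k.wy]
  have a0 := h3 0
  have a1 := h3 1
  have b0 := h2 0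
  have b1 := h2 1
  simp only [Matrix.cons_val_zero, Matrix.cons_val_one] at a0 a1 b0 b1
  refine ⟨f 0, f 1, fun i j => ?_, fun i j => ?_, fun i j => ?_⟩ <;> fin_cases i <;> fin_cases j <;>
    simp [k.uu, k.ww, k.uw, h.swap k.uw, k.uy, k.wy, h.swap k.uy, h.swap k.wy, k.yy, k.xx, k.ux,
      k.wx, h1, a0, a1, b0, b1, e', fun j => h.swap (a0 j)]

theorem Mo.hyp_orth (h : Mo B) {x y p : M} (hx : B x x = 0) (hy : B y y = 0) (e : B x y ≠ 0)
    (hp : B p p = 0) (h1 : B x p = 0) (h2 : B y p = 0) : ∃ a b, B a a = 0 ∧ B b b = 0 ∧ B a b = 1 ∧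
      (∀ s ∈ [x, y, p], B s a = 0 ∧ B s b = 0) := by
  have := h.six
  obtain ⟨a, -, a1, a2, a3⟩ := h.toHerm.exists_iso_in ⊤ [B x, B y, B p] [p] (by simp; omega)
  have ax : B x a = 0 := a1 _ (by simp)
  have ay : B y a = 0 := a1 _ (by simp)
  have ap : B p a = 0 := a1 _ (by simp)
  obtain ⟨w, w1, w2⟩ := h.toGood.exists_orth_of_notMem (H := Submodule.span E {x, y, p}) (x := a)
    fun k => by
      obtain ⟨r, s, t, rfl⟩ := Submodule.mem_span_triple.1 k
      simp only [map_add, map_smul, hx, hy, h1, h2, smul_eq_mul, mul_zero, add_zero, zero_add,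
        mul_eq_zero] at ax ay
      rw [ax.resolve_right e, ay.resolve_right fun k => e (h.swap k)] at a2
      exact a2 (mem_spanL_singleton.2 ⟨t, by simp⟩)
  obtain ⟨b, b1, b2⟩ := h.toHerm.exists_partner a3 (w := w) fun k => w2 (h.swap k)
  refine ⟨a, _, a3, b1, b2, fun s hs => ?_⟩
  have k1 : B s a = 0 := by
    simp only [List.mem_cons, List.not_mem_nil, or_false] at hs
    rcases hs with rfl | rfl | rfl <;> assumption
  exact ⟨k1, by simp [k1, h.swap (w1 s (Submodule.subset_span (by simpa using hs)))]⟩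

theorem Fr3.fe (h : Mo B) {e f : Fin 3 → M} (k : Fr3 B e f) (i j : Fin 3) :
    B (f i) (e j) = if i = j then 1 else 0 := by
  rw [← h.toHerm.conj, k.ef]
  by_cases c : i = j
  · simp [c]
  · simp [c, Ne.symm c]

theorem Fr3.li (h : Mo B) {e f : Fin 3 → M} (k : Fr3 B e f) :
    LinearIndependent E (Sum.elim e f) := by
  refine Fintype.linearIndependent_iff.2 fun c hc => ?_
  rintro (i | i)
  · simpa [Fintype.sum_sum_type, k.fe h, k.ff] using congrArg (B (f i)) hc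
  · simpa [Fintype.sum_sum_type, k.ef, k.ee] using congrArg (B (e i)) hc

theorem Fr3.li1 (h : Mo B) {e f : Fin 3 → M} (k : Fr3 B e f) : LinearIndependent E e :=
  (k.li h).comp Sum.inl Sum.inl_injective

theorem Fr3.ti (h : Mo B) {e f : Fin 3 → M} (k : Fr3 B e f) :
    TotIso B (Submodule.span E (Set.range e)) ∧ finrank E (Submodule.span E (Set.range e)) = 3 :=
  ⟨K1.ti_span h (by rintro _ ⟨i, rfl⟩ _ ⟨j, rfl⟩; exact k.ee i j),
    (finrank_span_eq_card (k.li1 h)).trans (Fintype.card_fin 3)⟩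

theorem K4.hd (h : Mo B) {e f : Fin 3 → M} (k : Fr3 B e f) (i : Fin 3) {l m : E}
    (hlm : σ l * m = 1) (j : Fin 3) :
    (h.toHerm.hypDiag (k.ee i i) (k.ff i i) ((k.ef i i).trans (if_pos rfl)) l m hlm : M ≃ₗ[E] M)
      (e j) = (if i = j then l else 1) • e j ∧
    (h.toHerm.hypDiag (k.ee i i) (k.ff i i) ((k.ef i i).trans (if_pos rfl)) l m hlm : M ≃ₗ[E] M)
      (f j) = (if i = j then m else 1) • f j := by
  simp only [Herm.hypDiag_apply, k.fe h, k.ee, k.ef, k.ff]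
  by_cases c : i = j
  · subst c
    simp [sub_smul]
  · simp [c]

theorem Fr3.diag (h : Mo B) {e f : Fin 3 → M} (k : Fr3 B e f) (d : Fin 3 → E) (d0 : ∀ i, d i ≠ 0)
    (hd : σ (d 0 * d 1 * d 2) = d 0 * d 1 * d 2 ∨ 7 ≤ finrank E M) :
    ∃ g : sIsom B, ∀ i, lin g (e i) = d i • e i ∧ lin g (f i) = (σ (d i))⁻¹ • f i := by
  have s0 : ∀ i, σ (d i) ≠ 0 := fun i => (map_ne_zero σ).2 (d0 i)
  let p : Fin 3 → isomGroup B := fun i => h.toHerm.hypDiag (k.ee i i) (k.ff i i)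
    ((k.ef i i).trans (if_pos rfl)) (d i) _ (mul_inv_cancel₀ (s0 i))
  have hp := fun i j => K4.hd h k i (mul_inv_cancel₀ (s0 i)) j
  have key : ∀ i, ((p 0 * p 1 * p 2 : isomGroup B) : M ≃ₗ[E] M) (e i) = d i • e i ∧
      ((p 0 * p 1 * p 2 : isomGroup B) : M ≃ₗ[E] M) (f i) = (σ (d i))⁻¹ • f i := fun i => by
    simp only [isom_mul_apply, p, (hp _ _).1, (hp _ _).2, map_smul, smul_smul]
    fin_cases i <;> simp
  rcases hd with hd | hd
  · refine ⟨⟨p 0 * p 1 * p 2, mem_sIsom'.2 ?_⟩, key⟩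
    simp only [Subgroup.coe_mul, map_mul, Units.val_mul, p, Herm.det_hypDiag] at hd ⊢
    have := s0 0
    have := s0 1
    have := s0 2
    field_simp
    exact hd.symm
  · obtain ⟨z, z1, z2⟩ := h.toHerm.exists_nonisotropic_orth
      (W := Submodule.span E (Set.range (Sum.elim e f))) fun hle => by
        have h1 := h.toGood.finrank_orth (Submodule.span E (Set.range (Sum.elim e f)))
        rw [finrank_span_eq_card (k.li h)] at h1
        obtain ⟨z, z1, z0⟩ := (Submodule.ne_bot_iff _).1 (show orth B _ ≠ ⊥ from fun c => by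
          rw [c, finrank_bot] at h1
          simp at h1
          omega)
        obtain ⟨c, rfl⟩ := (Submodule.mem_span_range_iff_exists_fun E).1 (hle z1)
        have k1 := mem_orth_span.1 z1
        refine z0 (Finset.sum_eq_zero ?_)
        rintro (i | i) -
        · have := k1 _ ⟨.inr i, rfl⟩
          simp [Fintype.sum_sum_type, k.fe h, k.ff] at this
          rw [this, zero_smul]
        · have := k1 _ ⟨.inl i, rfl⟩
          simp [Fintype.sum_sum_type, k.ef, k.ee] at this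
          rw [this, zero_smul]
    obtain ⟨μ, hμ, e1⟩ := h.toHerm.exists_mul_qrefl_mem z2 (p 0 * p 1 * p 2)
    have k1 := fun s => h.toHerm.qrefl_apply_of_orth z2 μ hμ
      (h.swap (mem_orth_span.1 z1 _ ⟨s, rfl⟩))
    refine ⟨⟨_, e1⟩, fun i => ?_⟩
    rw [lin_mk, lin_mk, isom_mul_apply, isom_mul_apply _ _ (f i)]
    exact ⟨(congrArg _ (k1 (.inl i))).trans (key i).1, (congrArg _ (k1 (.inr i))).trans (key i).2⟩

theorem Fr3.tor (h : Mo B) {e f : Fin 3 → M} (k : Fr3 B e f) (i : Fin 3) :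
    ∃ a : E, a ≠ 0 ∧ a ≠ 1 ∧ ∃ g : sIsom B, lin g (e i) = a • e i ∧
      ∀ j, j ≠ i → lin g (e j) = e j ∧ lin g (f j) = f j := by
  obtain ⟨a, a0, a1, ha⟩ : ∃ a : E, a ≠ 0 ∧ a ≠ 1 ∧ (σ a = a ∨ 7 ≤ finrank E M) := by
    rcases h.q_cases with ⟨c, c1, c2, c3⟩ | ⟨-, c, -⟩
    · exact ⟨c, c2, c3, .inl c1⟩
    · obtain ⟨a, a1, a2⟩ := h.exists_unit
      exact ⟨a, by rintro rfl; simp at a1, a2, .inr c⟩
  obtain ⟨g, hg⟩ := k.diag h (fun j => if j = i then a else 1) (fun j => by split_ifs <;> simp [a0])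
    (ha.imp_left fun ha => by fin_cases i <;> simpa using ha)
  exact ⟨a, a0, a1, g, by simpa using (hg i).1, fun j hj => by simpa [hj] using hg j⟩

theorem Fr3.tr (h : Mo B) {e f e' f' : Fin 3 → M} (k : Fr3 B e f) (k' : Fr3 B e' f') :
    ∃ (g : sIsom B) (d : E), d ≠ 0 ∧ lin g (e 0) = d • e' 0 ∧
      ∀ j, j ≠ 0 → lin g (e j) = e' j ∧ lin g (f j) = f' j := by
  obtain ⟨g, hg⟩ := h.toGood.witt_family (k.li h) (k'.li h) (by
    rintro (i | i) (j | j) <;> simp [k.ee, k.ff, k.ef, k.fe h, k'.ee, k'.ff, k'.ef, k'.fe h])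
  obtain ⟨l, m, hlm, e1⟩ := h.toHerm.exists_mul_hypDiag_mem (k.ee 0 0) (k.ff 0 0)
    ((k.ef 0 0).trans (if_pos rfl)) g
  have hp := K4.hd h k 0 hlm
  have g1 : ∀ i, (g : M ≃ₗ[E] M) (e i) = e' i := fun i => hg (.inl i)
  have g2 : ∀ i, (g : M ≃ₗ[E] M) (f i) = f' i := fun i => hg (.inr i)
  refine ⟨⟨_, e1⟩, l, by rintro rfl; simp at hlm, ?_, fun j hj => ?_⟩
  · rw [lin_mk, isom_mul_apply, (hp 0).1, if_pos rfl, map_smul, g1]
  · rw [lin_mk, lin_mk, isom_mul_apply, isom_mul_apply, (hp j).1, (hp j).2, if_neg hj.symm,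
      if_neg hj.symm, one_smul, one_smul, g1, g2]
    exact ⟨rfl, rfl⟩

theorem Mo.tr_el (h : Mo B) {u w : M} (k : I2 B u w) (li : LinearIndependent E ![u, w]) (m : E) :
    ∃ g : sIsom B, lin g u = u ∧ lin g w = w + m • u := by
  refine h.tr2 k li ⟨k.uu, by simp [k.uu, k.ww, k.uw, h.swap k.uw], by simp [k.uu, k.uw]⟩
    (LinearIndependent.pair_iff.2 fun a b e => ?_)
  obtain ⟨h1, h2⟩ := LinearIndependent.pair_iff.1 li (a + b * m) b (by rw [← e]; module)
  exact ⟨by simpa [h2] using h1, h2⟩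

theorem Mo.tr_diag (h : Mo B) {u w : M} (k : I2 B u w) (li : LinearIndependent E ![u, w]) {a b : E}
    (ha : a ≠ 0) (hb : b ≠ 0) : ∃ g : sIsom B, lin g u = a • u ∧ lin g w = b • w := by
  refine h.tr2 k li (k.smul a b) (LinearIndependent.pair_iff.2 fun c d e => ?_)
  obtain ⟨h1, h2⟩ := LinearIndependent.pair_iff.1 li (c * a) (d * b) (by rw [← e]; module)
  exact ⟨(mul_eq_zero.1 h1).resolve_right ha, (mul_eq_zero.1 h2).resolve_right hb⟩

theorem Mo.gen2 (h : Mo B) {u w : M} (k : I2 B u w) (li : LinearIndependent E ![u, w])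
    {H : Subgroup (sIsom B)} (h1 : ∀ g (a b : E), lin g u = a • u → lin g w = b • w → g ∈ H)
    (h2 : ∀ g, lin g u = w → lin g w = u → g ∈ H)
    (h3 : ∀ g (m : E), lin g u = u → lin g w = w + m • u → g ∈ H) :
    St B (Submodule.span E {u, w}) ≤ H := by
  have u0 : u ≠ 0 := li.ne_zero 0
  have hu : u ∈ Submodule.span E {u, w} := Submodule.subset_span (by simp)
  have hw : w ∈ Submodule.span E {u, w} := Submodule.subset_span (by simp)
  have k1 : ∀ g ∈ St B (Submodule.span E {u, w}), ∀ a : E, lin g u = a • u → g ∈ H := by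
    intro g hg a e
    obtain ⟨c, b, e2⟩ := Submodule.mem_span_pair.1 ((hg w).1 hw)
    have a0 := (lin_inv_of_eigen u0 e).1
    obtain ⟨s, s1, s2⟩ := h.tr_el k li (-(c / a))
    refine (mul_mem_cancel_right (h3 s _ s1 s2)).1 (h1 _ a b (by rw [lin_mul, s1, e]) ?_)
    rw [lin_mul, s2, map_add, map_smul, e, ← e2, smul_smul, neg_mul, div_mul_cancel₀ _ a0]
    module
  intro g hg
  obtain ⟨a, b, e⟩ := Submodule.mem_span_pair.1 ((hg u).1 hu)
  by_cases b0 : b = 0
  · exact k1 g hg a (by rw [← e, b0, zero_smul, add_zero])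
  obtain ⟨s, s1, s2⟩ := h.tr_el k li (-(a / b))
  obtain ⟨r, r1, r2⟩ := h.tr2 k li (k.symm h) (LinearIndependent.pair_symm_iff.1 li)
  have st : ∀ g : sIsom B, lin g u ∈ Submodule.span E {u, w} → lin g w ∈ Submodule.span E {u, w} →
      g ∈ St B (Submodule.span E {u, w}) := fun g a b =>
    mem_stab_of_forall_mem (g := (g : isomGroup B)) fun v hv => by
      obtain ⟨c, d, rfl⟩ := Submodule.mem_span_pair.1 hv
      change lin g _ ∈ _
      rw [map_add, map_smul, map_smul]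
      exact add_mem (Submodule.smul_mem _ _ a) (Submodule.smul_mem _ _ b)
  refine (mul_mem_cancel_left (mul_mem (h2 r r1 r2) (h3 s _ s1 s2))).1 (k1 _ (mul_mem (mul_mem
    (st r (r1 ▸ hw) (r2 ▸ hu)) (st s (s1.symm ▸ hu) (s2 ▸ add_mem hw (Submodule.smul_mem _ _ hu))))
    hg) b ?_)
  have e3 : lin s (lin g u) = b • w := by
    rw [← e, map_add, map_smul, map_smul, s1, s2, smul_add, smul_smul, mul_neg,
      mul_div_cancel₀ _ b0]
    module
  rw [lin_mul, lin_mul, e3, map_smul, r2]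

theorem Fr3.el (h : Mo B) {e f : Fin 3 → M} (k : Fr3 B e f) {i j : Fin 3} (hij : i ≠ j) (s : E)
    (c : Fin 3 → E) : lin (tE B (s • e i) (f j)) (∑ l, c l • e l) =
      ∑ l, (c l + if l = i then s * c j else 0) • e l := by
  rw [h.lin_tE ⟨by simp [k.ee], k.ff j j, by simp [k.ef, hij]⟩]
  simp [k.ee, k.fe h, add_smul, Finset.sum_add_distrib, smul_smul, mul_comm]

theorem Fr3.tr3 (h : Mo B) {e f : Fin 3 → M} (k : Fr3 B e f) {H : Subgroup (sIsom B)}
    (hH : ∀ i j (s : E), i ≠ j → tE B (s • e i) (f j) ∈ H) {x : M}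
    (hx : x ∈ Submodule.span E (Set.range e)) (x0 : x ≠ 0) : ∃ g ∈ H, lin g (e 0) = x := by
  let R : (Fin 3 → E) → Prop := fun c => ∃ g ∈ H, lin g (e 0) = ∑ l, c l • e l
  have st : ∀ c c' : Fin 3 → E, R c → ∀ i j s, i ≠ j →
      (∀ l, c' l = c l + if l = i then s * c j else 0) → R c' := by
    rintro c c' ⟨g, hg, e1⟩ i j s hij e2
    exact ⟨_, mul_mem (hH i j s hij) hg, by rw [lin_mul, e1, k.el h hij]; simp only [e2]⟩
  have r0 : R ![1, 0, 0] := ⟨1, one_mem _, by simp [Fin.sum_univ_three]⟩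
  have r1 : ∀ a b c : E, b ≠ 0 → R ![a, b, c] := fun a b c b0 =>
    st _ _ (st ![1, b, 0] ![a, b, 0] (st _ _ r0 1 0 b (by decide) fun l => by fin_cases l <;> simp)
      0 1 ((a - 1) / b) (by decide) fun l => by fin_cases l <;> simp [b0]) 2 1 (c / b) (by decide)
      fun l => by fin_cases l <;> simp [b0]
  obtain ⟨c, rfl⟩ := (Submodule.mem_span_range_iff_exists_fun E).1 hx
  have e1 : c = ![c 0, c 1, c 2] := by ext i; fin_cases i <;> rfl
  change R c
  rw [e1]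
  by_cases c1 : c 1 = 0
  swap
  · exact r1 _ _ _ c1
  by_cases c2 : c 2 = 0
  · have c0 : c 0 ≠ 0 := fun c0 => x0 (by simp [Fin.sum_univ_three, c0, c1, c2])
    exact st _ _ (r1 (c 0) 1 (c 2) one_ne_zero) 1 0 (-(c 0)⁻¹) (by decide)
      fun l => by fin_cases l <;> simp [c0, c1]
  · exact st _ _ (r1 (c 0) 1 (c 2) one_ne_zero) 1 2 (-(c 2)⁻¹) (by decide)
      fun l => by fin_cases l <;> simp [c2, c1]

end Cfsg.Lib.UM
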