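import Cfsg.Agent.UM.ES
import Cfsg.Agent.UM.OUT
import Cfsg.Agent.SG2.EFf

/-!
# Standard subgroups of type `U_m(2ⁿ)`: the fusion of `t` in the split case
-/

set_option autoImplicit false
set_option linter.unusedSectionVars false

namespace Cfsg.Lib.UM

open Subgroup Module Cfsg.Lib.Trans Cfsg.Lib.Gold Cfsg.Lib.Class.Form Cfsg.Lib.Class.FAut ESa
open Cfsg.Lib.SG2 (Uq Top Pp)
open Cfsg.Lib.Comp (Tw)
open scoped commutatorElement

variable {G E M : Type*} [Group G] [Finite G] [Field E] [Finite E] [AddCommGroup M] [Module E M]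
  [FiniteDimensional E M] {σ : E →+* E} {B : M →ₛₗ[σ] M →ₗ[E] E} {φ φ' : sIsom B →* G} {t : G}
  {X : Subgroup G} {y z y' z' : sIsom B →* G}

theorem ESu.root (h : Mo B) (com : ∀ g k, Commute (y g) (z k)) (res : ∀ g, φ g = y g * z g)
    (act : ∀ g, t * y g * t⁻¹ = z g) {u : M} (hu : B u u = 0) :
    y (tT B u 1) * t * (y (tT B u 1))⁻¹ = φ (tT B u 1) * t ∧
      y (tT B u 1) ∈ Cs ((QW B (E ∙ u)).map φ) := by
  have s := h.tT_sq hu (map_one σ)
  refine ⟨by rw [res, ← act, ← map_inv, inv_eq_of_mul_eq_one_right s]; group, mem_Cs.2 ?_⟩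
  rintro _ ⟨p, hp, rfl⟩
  have c : Commute (tT B u 1) p := mem_Cs.1 (h.Fx_le_Cs (QW_le_Fx hp)) _
    (h.tT_mem hu (Submodule.mem_span_singleton_self u) (map_one σ))
  exact res p ▸ ((c.map y).mul_right (com _ _)).symm.eq

theorem ES.uniq (h : ES φ t y z) (com : ∀ g k, Commute (y' g) (z' k)) (res : ∀ g, φ g = y' g * z' g)
    (act : ∀ g, t * y' g * t⁻¹ = z' g) : y'.range ⊔ z'.range ≤ y.range ⊔ z.range := by
  have m := h.my.toMo
  have k : y'.range ≤ y.range ⊔ z.range := by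
    rintro _ ⟨a, rfl⟩
    refine (m.gen_T (H := comap y' (y.range ⊔ z.range)) fun u hu => ?_).ge (mem_top a)
    rcases eq_or_ne u 0 with rfl | u0
    · rw [m.tT_zero']; exact one_mem _
    obtain ⟨e1, c1⟩ := ESu.root m h.com h.res h.act hu
    obtain ⟨e2, c2⟩ := ESu.root m com res act hu
    have s := m.tT_sq hu (map_one σ)
    have n := m.tT_ne hu u0 (map_one σ) one_ne_zero
    rw [mem_comap]
    generalize tT B u 1 = T at *
    have s1 : y T * y T = 1 := by rw [← map_mul, s, map_one]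
    have s2 : y' T * y' T = 1 := by rw [← map_mul, s, map_one]
    obtain ⟨v, hv, o, ho, e⟩ := h.toH1.cQ (ti1 hu) (by simpa using u0) (c := (y T)⁻¹ * y' T)
      (mul_inv_eq_iff_eq_mul.1 (by
        calc _ = (y T)⁻¹ * (y' T * t * (y' T)⁻¹) * y T := by group
          _ = t := by rw [e2, ← e1]; group)) (mul_mem (inv_mem c1) c2)
    have key : ∀ a, Tw a → Commute a o → y' T = a * o → y' T = a := fun a ha c e => by
      rw [e, tw_odd (a := o) (by
        simpa [e] using tw_mul (tw_inv ha) (Tw.of_sq s2) (e ▸ ((Commute.refl a).mul_right c).inv_left))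
        (odd_Ot ho), mul_one]
    have s3 : φ v * φ v = 1 := by rw [← map_mul, m.sq_VW (ti1 hu) hv, map_one]
    have c3 : Commute (φ v) (y T) := mem_Cs.1 c1 _ ⟨v, m.VW_le_QW (ti1 hu) hv, rfl⟩
    have c4 : Commute (y T) o := mem_Cs.1 (h.cO ho) _ (mem_sup_left ⟨T, rfl⟩)
    have c5 : Commute (φ v) o := mem_Cs.1 (Ot_le ho).2 _ ⟨v, rfl⟩
    rw [inv_mul_eq_iff_eq_mul, inv_mul_eq_iff_eq_mul] at e
    rcases e with e | e
    · rw [key _ (tw_mul (.of_sq s1) (.of_sq s3) c3.symm) (c4.mul_left c5) (e.trans (mul_assoc _ _ _).symm)]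
      exact mul_mem (mem_sup_left ⟨T, rfl⟩) (h.L_le' ⟨v, rfl⟩)
    have e3 : y T * (t * φ v) * (y T * (t * φ v)) = φ T := by
      calc _ = y T * t * (φ v * y T) * t * φ v := by group
        _ = y T * t * (y T)⁻¹ * (φ v * t * φ v) := by
          rw [c3.eq, inv_eq_of_mul_eq_one_right s1]; group
        _ = _ := by rw [e1, ← (h.tc v).eq, mul_assoc t, s3, mul_one, mul_assoc, h.t2, mul_one]
    rw [key (y T * (t * φ v)) ⟨2, by
      rw [show 2 ^ 2 = 2 * 2 from rfl, pow_mul, pow_two, pow_two, e3, ← map_mul, s, map_one]⟩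
      (c4.mul_left ((show Commute o t from mem_C1.1 (Ot_le ho).1).symm.mul_left c5))
      (e.trans (mul_assoc _ _ _).symm), e3] at s2
    exact absurd (h.toMod.inj2 (.of_sq s) s2) n
  refine sup_le k ?_
  rw [← Mp.cj_range (α := 1) act, ← mem_Ns_iff.1 h.tM]
  exact cj_mono t k

theorem ES.uq (h : ES φ t y z) : Uq (Ns (y.range ⊔ z.range)) t := fun g hg => by
  have h' := h.toHyp.cx g
  rcases h.perm hg with ⟨e1, e2⟩ | ⟨e1, -⟩
  · obtain ⟨α, k⟩ := h.my.ind e1
    obtain ⟨β, k'⟩ := h.mz.ind e2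
    obtain ⟨A₁, a1, a2, a3⟩ := h.my.toMo.inv_elem (k.sq_one h.my h'.t2)
    obtain ⟨A₂, b1, b2, b3⟩ := h.my.toMo.inv_elem (k'.sq_one h.mz h'.t2)
    have := h.toHyp.jl' g (h.el_sup a1 b1) (h.fix_sup (pg_el a1) (pg_el b1) k k' a2 b2)
    rw [h.card_sup (pg_el a1) (pg_el b1), ← Nat.two_mul_div_two_of_even (Nat.even_mul_succ_self _),
      two_mul, pow_add] at this
    exact absurd (Nat.mul_le_mul a3 b3) this.not_ge
  obtain ⟨α, k⟩ := h.my.exists_Mp h.mz e1
  have k' := k.inv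
  rw [inv_eq_of_mul_eq_one_right h'.t2] at k'
  obtain ⟨w, hw, ew⟩ := h.exists_diag α
  obtain ⟨β, kb⟩ := h'.toMod.exists_Mp hw (c := 1) (by
    rw [cj_one]
    refine (hw.eq_of_le h'.toMod (h'.perf hw.perf ?_)).symm
    rintro _ ⟨a, rfl⟩
    refine mem_C1.2 (mul_inv_eq_iff_eq_mul.1 ?_).symm
    rw [ew, ← conj_mul', k, k', MulAut.inv_apply_self, (h.com _ _).eq])
  have := h.uniq (y' := cx (UM.re y β) g⁻¹) (z' := cx (UM.re z (α * β)) g⁻¹)
    (fun a b => (h.com _ _).map (MulAut.conj g⁻¹)) (fun a => by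
      have := kb a
      rw [one_mul, inv_one, mul_one, ew, cx_apply] at this
      rw [cx_apply, cx_apply, conj_mul', re_apply, re_apply, MulAut.mul_apply, ← this]
      group) fun a => by
      rw [cx_apply, cx_apply, re_apply, re_apply, MulAut.mul_apply, ← k]
      group
  rw [range_cx, range_cx, range_re, range_re, ← cj_sup] at this
  exact inv_mem_iff.1 (mem_normalizer_of_cj_le this)

theorem ES.fs0 (h : ES φ t y z) (hX : Top X t) : FS0 φ t y z X where
  toES := h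
  top := hX
  le := sup_le (h.my.perf.ge.trans (commutator_le.2 fun a _ b _ => hX.ef_comm h.t2 a b))
    (h.mz.perf.ge.trans (commutator_le.2 fun a _ b _ => hX.ef_comm h.t2 a b))
  odd := h.odd
  uq := h.uq
  nt ht := by
    obtain ⟨S, hS, h1⟩ := exists_isSylowIn_ge (Tw.of_sq h.t2).isPGroup (zpowers_le.2 ht)
    have h2 := h.uq.two_le h.tM hS.isPGroup (h1 (mem_zpowers t))
    obtain ⟨k, -, h3, h4⟩ := Comp.thompson_in (C := Ns y.range) hX.perf hS
      (fun a ha b hb => h.idx a (h2 ha) b (h2 hb)) ht h.t2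
    exact h.ne ((mem_Ns_iff.1 ((h.conj_iff (h.uq k (h2 h3)) h.tM).1 h4)).symm.trans h.cj_t)

end Cfsg.Lib.UM
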