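import Cfsg.Agent.UM.K2
import Cfsg.Agent.Class.HermMaxND

/-!
# Standard subgroups of type `U_m(2ⁿ)`: the stabiliser of an isotropic vector
-/

set_option autoImplicit false
set_option linter.unusedSectionVars false

namespace Cfsg.Lib.UM

open Subgroup Module Cfsg.Lib.Trans Cfsg.Lib.Gold Cfsg.Lib.Class.Form Cfsg.Lib.Class.FAut
open Cfsg.Lib.Comp (Tw)
open scoped commutatorElement

variable {E M : Type*} [Field E] [Finite E] [AddCommGroup M] [Module E M] [FiniteDimensional E M]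
  {σ : E →+* E} {B : M →ₛₗ[σ] M →ₗ[E] E}

theorem AP1.cls (h : Herm B) : Cls B 1 := ⟨h.toGood, Or.inl ⟨h.ne_id, rfl⟩⟩

theorem AP1.tr (h : Herm B) (h3 : 3 ≤ finrank E M) {u w : M} (hu : B u u = 0) (u0 : u ≠ 0)
    (hw : B w w = 0) (w0 : w ≠ 0) : ∃ g : sIsom B, lin g u = w := by
  obtain ⟨g, hg⟩ := h.toGood.witt_one u0 w0 (hw.trans hu.symm)
  have h1 := finrank_span_singleton_le (F := E) w
  obtain ⟨d, h2, hd⟩ := h.exists_nonisotropic_orth_of_lt (W := E ∙ w) (by omega)
  obtain ⟨μ, hμ, e⟩ := h.exists_mul_qrefl_mem hd g⁻¹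
  refine ⟨(⟨_, e⟩ : sIsom B)⁻¹, ?_⟩
  have : lin (⟨_, e⟩ : sIsom B) w = u := by
    rw [lin_mk, isom_mul_apply,
      h.qrefl_apply_of_orth hd μ hμ (h.comm (mem_orth_span_singleton.1 h2)), ← hg, isom_inv_apply]
  rw [← this, lin_inv_lin]

theorem AP1.add_top (h : Herm B) (h2 : 2 ≤ finrank E M) {A : AddSubgroup M}
    (k : ∀ x, B x x = 0 → x ∈ A) (x : M) : x ∈ A := by
  let U : Submodule E M :=
    { carrier := {y | ∀ a : E, a • y ∈ A}
      add_mem' := fun {y z} hy hz a => by rw [smul_add]; exact A.add_mem (hy a) (hz a)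
      zero_mem' := fun a => by rw [smul_zero]; exact A.zero_mem
      smul_mem' := fun c y hy a => by rw [smul_smul]; exact hy _ }
  have : U = ⊤ := h.eq_top_of_isotropic h2 fun v hv a => k _ (by simp [hv])
  have hx : x ∈ U := this ▸ Submodule.mem_top
  simpa using hx 1

theorem end_comm {N : Type*} [AddCommGroup N] [Module E N] [FiniteDimensional E N]
    {D : N →ₛₗ[σ] N →ₗ[E] E} (h : Herm D) (h4 : 4 ≤ finrank E N) (θ : N →+ N)
    (k : ∀ (g : sIsom D) x, θ (lin g x) = lin g (θ x)) : ∃ a : E, ∀ x, θ x = a • x := by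
  have hc := AP1.cls h
  obtain ⟨u, u0, hu⟩ := hc.exists_iso (by omega)
  have h1 : θ u ∈ E ∙ u := by
    obtain ⟨c, c0, hc'⟩ := hc.exists_coeff
    obtain ⟨t, ht⟩ := hc.exists_isT hu hc'
    have e1 := k t u
    rw [ht.apply_of_orth hu, ht, left_eq_add, smul_eq_zero, mul_eq_zero] at e1
    have e2 : D u (θ u) = 0 := (e1.resolve_right u0).resolve_left c0
    by_contra hn
    obtain ⟨w, hw, hw'⟩ := hc.exists_orth_eq_one (v := u) hn
    obtain ⟨b, hb⟩ := hc.exists_trace w
    obtain ⟨g, hg⟩ := hc.exists_isE hu hw hb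
    have e3 := k g u
    rw [hg.apply_self hu (h.comm hw), hg, e2, ← h.conj, hw'] at e3
    simp only [zero_smul, add_zero, map_one, mul_one, mul_zero, one_smul] at e3
    exact u0 (sub_eq_self.1 e3.symm)
  obtain ⟨a, ha⟩ := Submodule.mem_span_singleton.1 h1
  refine ⟨a, fun x => ?_⟩
  have := AP1.add_top h (by omega) (A := (θ - DistribSMul.toAddMonoidHom N a).ker) (fun y hy => ?_) x
  · simpa [sub_eq_zero] using this
  · by_cases y0 : y = 0
    · simp [y0]
    obtain ⟨g, rfl⟩ := AP1.tr h (by omega) hu u0 hy y0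
    simp [k, ← ha]

theorem hom_inv {N : Type*} [AddCommGroup N] [Module E N] [FiniteDimensional E N]
    {D : N →ₛₗ[σ] N →ₗ[E] E} (h : Herm D) (h4 : 4 ≤ finrank E N) {A : Type*} [AddCommGroup A]
    (χ : N →+ A) (k : ∀ (g : sIsom D) x, χ (lin g x) = χ x) : χ = 0 := by
  obtain ⟨u, u0, hu⟩ := (AP1.cls h).exists_iso (by omega)
  have h1 : ∀ y, D y y = 0 → y ≠ 0 → χ y = χ u := fun y hy y0 => by
    obtain ⟨g, rfl⟩ := AP1.tr h (by omega) hu u0 hy y0
    exact k g u
  obtain ⟨w, -, e1, e2, e3⟩ := h.exists_iso_in ⊤ [D u] [u] (by simp; omega)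
  have e4 : D u w = 0 := e1 _ (by simp)
  have w0 : w ≠ 0 := by rintro rfl; exact e2 (Submodule.zero_mem _)
  have w1 : u + w ≠ 0 := fun e => e2 (Cfsg.Lib.Class.mem_spanL_singleton.2
    ⟨-1, by rw [neg_one_smul, neg_eq_iff_add_eq_zero, e]⟩)
  have h2 := h1 (u + w) (by simp [hu, e3, e4, h.comm e4]) w1
  rw [map_add, h1 w e3 w0, add_eq_left] at h2
  ext x
  refine AP1.add_top h (by omega) (A := χ.ker) (fun y hy => ?_) x
  by_cases y0 : y = 0
  · simp [y0]
  · rw [AddMonoidHom.mem_ker, h1 y hy y0, h2]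

theorem mem_Q1 (h : Herm B) {e f : M} (he : B e e = 0) (hf : B f f = 0) (hef : B e f = 1)
    {g : sIsom B} : g ∈ QW B (E ∙ e) ↔ ∃ w ∈ hypU B e f, ∃ b, b + σ b = B w w ∧ IsE B 1 e w b g := by
  have hc := AP1.cls h
  constructor
  · intro hg
    obtain ⟨w, hw, b, q, hq, e1⟩ := hc.exists_isE_of he hf hef (g := g) (c := 1) (by simp)
      (by rw [one_smul]; exact hg.1 e (Submodule.mem_span_singleton_self e)) fun x hx => by
        obtain ⟨μ, hμ⟩ := Submodule.mem_span_singleton.1 (hg.2 x (mem_orth_span_singleton.2 hx))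
        exact ⟨μ, by rw [hμ, one_smul, add_sub_cancel]⟩
    have e2 : g = q := lin_ext fun x => by rw [e1, one_smul]
    refine ⟨w, hw, b, ?_, e2 ▸ hq⟩
    simpa using hc.trace_of_isE (left_ne_zero_of_eq_one hef) he (mem_hypU.1 hw).1 hq
  · rintro ⟨w, hw, b, -, hg⟩
    refine mem_QW.2 ⟨mem_Fx1.2 (hg.apply_self he (h.comm (mem_hypU.1 hw).1)), fun x hx => ?_⟩
    rw [hg, mem_orth_span_singleton.1 hx, zero_smul, add_zero, sub_sub_cancel_left]
    exact neg_mem (Submodule.smul_mem _ _ (Submodule.mem_span_singleton_self e))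

theorem levi (h : Herm B) {e f : M} (he : B e e = 0) (hf : B f f = 0) (hef : B e f = 1) :
    ∃ (π : Fx B (E ∙ e) →* sIsom (restr B (hypU B e f))) (ι : sIsom (restr B (hypU B e f)) →* Fx B (E ∙ e)),
      (∀ g, π (ι g) = g) ∧ (∀ p : Fx B (E ∙ e), π p = 1 ↔ (p : sIsom B) ∈ QW B (E ∙ e)) ∧
      (∀ (p : Fx B (E ∙ e)) (w : hypU B e f), lin (p : sIsom B) w - (lin (π p) w : hypU B e f) ∈ E ∙ e) ∧
      ∀ g, lin (ι g : sIsom B) f = f ∧ ∀ w : hypU B e f, lin (ι g : sIsom B) w = (lin g w : hypU B e f) := by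
  have hc := AP1.cls h
  have hU := hc.nondegOn_hypU he hf hef
  have hU' := h.restrict hU
  have hfe : B f e = 1 := hc.swap_one hef
  have hS : NondegOn B (Submodule.span E {e, f}) := by
    have := h.toGood.nondegOn_orth hU
    rwa [hypU, h.toGood.orth_orth] at this
  have pe : ∀ p : Fx B (E ∙ e), lin (p : sIsom B) e = e := fun p => mem_Fx1.1 p.2
  have po : ∀ (p : Fx B (E ∙ e)) (x : M), B e x = 0 → B e (lin (p : sIsom B) x) = 0 :=
    fun p x hx => by
      have := lin_isom (p : sIsom B) e x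
      rwa [pe, hx] at this
  have hp : ∀ x, B e x = 0 → hproj B 1 e f x = x - B f x • e := fun x hx => by
    rw [hproj_apply, hx, zero_smul, sub_zero, one_mul]
  let L : Fx B (E ∙ e) → hypU B e f →ₗ[E] hypU B e f := fun p =>
    ((hproj B 1 e f).comp ((lin (p : sIsom B) : M →ₗ[E] M).comp (hypU B e f).subtype)).codRestrict
      _ fun w => hc.hproj_mem he hf hef _
  have Lw : ∀ p (w : hypU B e f), (L p w : M) =
      lin (p : sIsom B) w - B f (lin (p : sIsom B) w) • e :=
    fun p w => hp _ (po p _ (mem_hypU.1 w.2).1)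
  have Li : ∀ p (x y : hypU B e f), restr B (hypU B e f) (L p x) (L p y) = restr B (hypU B e f) x y :=
    fun p x y => by
      have a1 := po p _ (mem_hypU.1 x.2).1
      have a2 := po p _ (mem_hypU.1 y.2).1
      simp [restr_apply, Lw, he, a2, h.comm a1]
  let ι0 : sIsom (restr B (hypU B e f)) → sIsom B := fun g =>
    ⟨h.toGood.glue hS (1, g.1), by
      rw [mem_sIsom, Good.det_glue]
      exact (congrArg₂ _ (map_one _) (mem_sIsom.1 g.2)).trans (mul_one 1)⟩
  have ιS : ∀ g x, x ∈ Submodule.span E {e, f} → lin (ι0 g) x = x := fun g x hx =>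
    h.toGood.glue_apply_left hS (1, g.1) ⟨x, hx⟩
  have ιU : ∀ g (w : hypU B e f), lin (ι0 g) w = (lin g w : hypU B e f) := fun g w =>
    h.toGood.glue_apply_right hS (1, g.1) w
  have eS : e ∈ Submodule.span E {e, f} := Submodule.subset_span (by simp)
  have fS : f ∈ Submodule.span E {e, f} := Submodule.subset_span (by simp)
  have ext : ∀ {a b : sIsom B}, (∀ x ∈ Submodule.span E {e, f}, lin a x = lin b x) →
      (∀ w : hypU B e f, lin a w = lin b w) → a = b := fun {a b} k1 k2 =>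
    Subtype.ext (Subtype.ext (h.toGood.ext_of_nondegOn hS k1 fun w hw => k2 ⟨w, hw⟩))
  have Ld : ∀ p, hU'.toGood.ofLin (L p) (Li p) ∈ sIsom (restr B (hypU B e f)) := fun p => by
    have a1 : B e (lin (p : sIsom B) f) = 1 := by
      have := lin_isom (p : sIsom B) e f
      rwa [pe, hef] at this
    let w := hproj B 1 e f (lin (p : sIsom B) f)
    let b := -B f (lin (p : sIsom B) f)
    have hw : w ∈ hypU B e f := hc.hproj_mem he hf hef _
    have a2 : lin (p : sIsom B) f = f + w - b • e := by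
      simp only [w, b, hproj_apply, a1]; module
    have a3 : b + 1 * σ b = 1 * B w w := by
      have := lin_isom (p : sIsom B) f f
      rw [a2] at this
      have b1 := (mem_hypU.1 hw).1
      have b2 := (mem_hypU.1 hw).2
      simp only [map_add, map_sub, map_smulₛₗ, LinearMap.add_apply, LinearMap.sub_apply,
        LinearMap.smul_apply, smul_eq_mul, RingHom.id_apply, he, hf, hef, hfe, b1, b2,
        h.comm b1, h.comm b2] at this
      linear_combination -this
    obtain ⟨q, hq⟩ := hc.exists_isE he (mem_hypU.1 hw).1 a3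
    have qf : lin q f = lin (p : sIsom B) f := by
      rw [hq, a2, hef, h.comm (mem_hypU.1 hw).2]; simp
    have qe : lin q e = e := hq.apply_self he (h.comm (mem_hypU.1 hw).1)
    have se : lin (q⁻¹ * p.1) e = e := by rw [lin_mul, pe, ← qe, lin_inv_lin, qe]
    have sf : lin (q⁻¹ * p.1) f = f := by rw [lin_mul, ← qf, lin_inv_lin]
    have sU : ∀ x : hypU B e f, lin (q⁻¹ * p.1) x = L p x := fun x => by
      have b1 : lin (q⁻¹ * p.1) x ∈ hypU B e f := levi_mem (left_ne_zero_of_eq_one hef)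
        (right_ne_zero_of_eq_one hef) (a := 1) (m := 1) (by rw [se, one_smul])
        (by rw [sf, one_smul]) x.2
      have b2 : lin (p : sIsom B) x = lin q (lin (q⁻¹ * p.1) x) := by rw [lin_mul, lin_lin_inv]
      rw [Lw, b2]
      generalize lin (q⁻¹ * p.1) x = y at b1
      rw [hq, (mem_hypU.1 b1).1]
      simp [(mem_hypU.1 b1).2, hfe]
    have b3 : ((q⁻¹ * p.1 : sIsom B) : isomGroup B) =
        h.toGood.glue hS (1, hU'.toGood.ofLin (L p) (Li p)) :=
      Subtype.ext (h.toGood.ext_of_nondegOn hS (fun x hx => by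
        rw [h.toGood.glue_apply_left hS _ ⟨x, hx⟩]
        exact (mem_Fx_span (s := {e, f}) (g := q⁻¹ * p.1)).2 (by simp [-lin_mul, se, sf]) x hx)
        fun x hx => by
          rw [h.toGood.glue_apply_right hS _ ⟨x, hx⟩]
          exact sU ⟨x, hx⟩)
    have b4 := mem_sIsom.1 (q⁻¹ * p.1 : sIsom B).2
    rw [b3, Good.det_glue] at b4
    rw [mem_sIsom]
    exact (one_mul _).symm.trans ((congrArg (· * _) (map_one _).symm).trans b4)
  let π0 : Fx B (E ∙ e) → sIsom (restr B (hypU B e f)) := fun p => ⟨_, Ld p⟩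
  have πw : ∀ p w, lin (π0 p) w = L p w := fun _ _ => rfl
  refine ⟨MonoidHom.mk' π0 fun p p' => lin_ext fun w => Subtype.ext ?_,
    MonoidHom.mk' (fun g => ⟨ι0 g, mem_Fx1.2 (ιS g e eS)⟩) fun g g' => Subtype.ext (ext ?_ ?_),
    fun g => lin_ext fun w => Subtype.ext ?_, fun p => ⟨fun k => ?_, fun k => ?_⟩, fun p w => ?_,
    fun g => ⟨ιS g f fS, ιU g⟩⟩
  · rw [lin_mul, πw, πw, πw, Lw, Lw, Lw]
    simp [pe, hfe]
    module
  · intro x hx
    change _ = lin (ι0 g * ι0 g') x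
    rw [lin_mul, ιS _ _ hx, ιS _ _ hx, ιS _ _ hx]
  · intro w
    change _ = lin (ι0 g * ι0 g') w
    rw [lin_mul, ιU, ιU, ιU, lin_mul]
  · change (lin (π0 _) w : M) = _
    rw [πw, Lw]
    change lin (ι0 g) w - B f (lin (ι0 g) w) • e = _
    rw [ιU, (mem_hypU.1 (lin g w).2).2, zero_smul, sub_zero]
  · refine mem_QW.2 ⟨p.2, fun x hx => ?_⟩
    have a1 := mem_orth_span_singleton.1 hx
    have a2 : (lin (π0 p) ⟨_, hc.hproj_mem he hf hef x⟩ : M) = hproj B 1 e f x := by
      rw [show π0 p = 1 from k]; rfl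
    rw [πw, Lw] at a2
    simp only [hp x a1, map_sub, map_smul, pe] at a2
    refine Submodule.mem_span_singleton.2 ⟨B f (lin (p : sIsom B) x) - B f x, ?_⟩
    simp only [hfe, smul_eq_mul, mul_one] at a2
    linear_combination (norm := module) -a2
  · refine lin_ext fun w => Subtype.ext ?_
    change (lin (π0 p) w : M) = w
    obtain ⟨μ, hμ⟩ := Submodule.mem_span_singleton.1
      (k.2 w (mem_orth_span_singleton.2 (mem_hypU.1 w.2).1))
    rw [πw, Lw, show lin (p : sIsom B) w = w + μ • e by rw [hμ, add_sub_cancel]]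
    simp [(mem_hypU.1 w.2).2, hfe]
  · change _ - (lin (π0 p) w : M) ∈ _
    rw [πw, Lw, sub_sub_cancel]
    exact Submodule.smul_mem _ _ (Submodule.mem_span_singleton_self e)

theorem Mo.O2_Fx (h : Mo B) {u : M} (hu : B u u = 0) (u0 : u ≠ 0) {N : Subgroup (sIsom B)}
    (h1 : IsPGroup 2 N) (h2 : N ≤ Fx B (E ∙ u)) (h3 : Fx B (E ∙ u) ≤ Ns N) : N ≤ QW B (E ∙ u) := by
  obtain ⟨f, hf, hef⟩ := h.cls.exists_hyperbolic u0 hu
  obtain ⟨π, ι, a1, a2, -, -⟩ := levi h.toHerm hu hf hef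
  have hU' := h.toHerm.restrict (h.cls.nondegOn_hypU hu hf hef)
  have hd := h.cls.finrank_hypU hu hef
  have h6 := h.six
  have hs : Function.Surjective π := fun g => ⟨_, a1 g⟩
  have hn : (N.subgroupOf (Fx B (E ∙ u))).Normal := (normal_subgroupOf_iff_le_normalizer h2).2 h3
  have hn' := hn.map π hs
  have hp : IsPGroup 2 ((N.subgroupOf (Fx B (E ∙ u))).map π) :=
    (h1.comap_of_injective _ (subtype_injective _)).map π
  intro g hg
  refine (a2 ⟨g, h2 hg⟩).1 ?_
  have hm : π ⟨g, h2 hg⟩ ∈ (N.subgroupOf (Fx B (E ∙ u))).map π := ⟨_, hg, rfl⟩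
  rcases hU'.normal_le_center_or_eq_top (by omega) (by omega) _ hn' with k | k
  · obtain ⟨a, ha⟩ := (AP1.cls hU').mem_center_iff.1 (k hm)
    obtain ⟨j, hj⟩ := hp ⟨_, hm⟩
    have hj' : π ⟨g, h2 hg⟩ ^ 2 ^ j = 1 := congrArg Subtype.val hj
    refine lin_ext fun x => ?_
    by_cases x0 : x = 0
    · simp [x0]
    have e1 := lin_pow_of_eigen (ha x) (2 ^ j)
    rw [hj', lin_one] at e1
    have e2 : a ^ 2 ^ j = 1 := by
      have : (a ^ 2 ^ j - 1) • x = 0 := by rw [sub_smul, ← e1, one_smul, sub_self]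
      exact sub_eq_zero.1 ((smul_eq_zero.1 this).resolve_right x0)
    have e3 : ∀ k : ℕ, a ^ 2 ^ k = 1 → a = 1 := fun k => by
      induction k with
      | zero => simp
      | succ k ih =>
        exact fun e => ih (h.sq_inj (by rw [← pow_two, ← pow_mul, ← pow_succ, e, mul_one]))
    rw [ha, e3 j e2, one_smul, lin_one]
  · exfalso
    have hp' : IsPGroup 2 (sIsom (restr B (hypU B u f))) := by
      rw [k] at hp
      exact hp.of_equiv topEquiv
    have := finite_sIsom (restr B (hypU B u f))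
    have := hp'.isNilpotent
    have hc := hU'.commutator_sIsom (by omega) (by omega)
    obtain ⟨x, x0, hx⟩ := (AP1.cls hU').exists_iso (by omega)
    obtain ⟨c, c0, hc'⟩ := (AP1.cls hU').exists_coeff
    obtain ⟨t, ht⟩ := (AP1.cls hU').exists_isT hx hc'
    have : Nontrivial (sIsom (restr B (hypU B u f))) :=
      ⟨t, 1, fun e => (AP1.cls hU').pmk_ne_one x0 hx c0 ht (by rw [e]; rfl)⟩
    exact (Group.IsSolvable.commutator_lt_top_of_nontrivial _).ne hc

end Cfsg.Lib.UM
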