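import Cfsg.Agent.UM.N4
import Cfsg.Agent.UM.A2
import Cfsg.Agent.Block.ZStarElt

/-!
# Standard subgroups of type `U_m(2ⁿ)`: the split case does not occur
-/

set_option autoImplicit false
set_option linter.unusedSectionVars false

namespace Cfsg.Lib.UM

open Subgroup Module Cfsg.Lib.Trans Cfsg.Lib.Gold Cfsg.Lib.Class.Form Cfsg.Lib.Class.FAut
open Cfsg.Lib.SG2 (Uq Top Pp)
open Cfsg.Lib.Comp (Tw)
open scoped commutatorElement

variable {G E M : Type*} [Group G] [Finite G] [Field E] [Finite E] [AddCommGroup M] [Module E M]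
  [FiniteDimensional E M] {σ : E →+* E} {B : M →ₛₗ[σ] M →ₗ[E] E} {φ φ' : sIsom B →* G} {t : G}
  {X : Subgroup G} {y z : sIsom B →* G} {P : Subgroup G} {U : Subgroup (sIsom B)}
  {W : Submodule E M} {u : M} {γ : (E ≃+* E) →* MulAut (sIsom B)}

namespace N5

theorem one_of_odd {O : Subgroup G} (hO : Odd (Nat.card O)) {x : G} (hx : x ∈ O) (h2 : Tw x) :
    x = 1 := by
  obtain ⟨n, e⟩ := h2
  exact orderOf_eq_one_iff.1 (Nat.eq_one_of_dvd_coprimes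
    (Nat.Coprime.pow_left n (Nat.coprime_two_left.2 hO)) (orderOf_dvd_of_pow_eq_one e)
    (O.orderOf_dvd_natCard hx))

theorem zst {H S : Subgroup G} (hS : IsSylowIn 2 S H) {v : G} (hv : v ∈ S)
    (hw : ∀ g ∈ H, g * v * g⁻¹ ∈ S → g * v * g⁻¹ = v) {g : G} (hg : g ∈ H) :
    g * v * g⁻¹ * v⁻¹ ∈ Oc H := by
  have := Fact.mk Nat.prime_two
  exact ⟨_, Block.Princ.zstar_elt hS.toSylow (x := ⟨v, hS.le hv⟩) hv
    (fun g h => Subtype.ext (hw g g.2 h)) ⟨g, hg⟩, rfl⟩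

theorem odd_Ns (h : ES φ t y z) {O : Subgroup G} (hO : Odd (Nat.card O)) {o : G} (ho : o ∈ O)
    (hM : o ∈ Ns (y.range ⊔ z.range)) : o ∈ Ns y.range := by
  by_contra hn
  obtain ⟨j, e⟩ := hO
  have k1 : o ^ Nat.card O = 1 := congrArg Subtype.val (pow_card_eq_one' (x := (⟨o, ho⟩ : O)))
  rw [e, pow_succ, pow_mul, sq] at k1
  exact hn ((mul_mem_cancel_left (pow_mem (h.idx o hM o hM hn hn) j)).1 (k1 ▸ one_mem _))

theorem comm_Q (h : Mod y) (hu : B u u = 0) (u0 : u ≠ 0) {O : Subgroup G} (hO : Odd (Nat.card O))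
    {o : G} (ho : o ∈ O) {α : MulAut (sIsom B)} (k : Mp y y o α) (e : tT B u 1 ∈ Cf α)
    {a : sIsom B} (ha : a ∈ QW B (E ∙ u)) (hn : y a ∈ Ns O) : Commute o (y a) := by
  have m := h.toMo
  have k1 := (m.fix_T (α := α) hu u0 (map_one σ) one_ne_zero (by
    rw [mem_Cf.1 e]; exact m.tT_mem hu (Submodule.mem_span_singleton_self u) (map_one σ))).1
  have k2 : o ∈ Ns ((QW B (E ∙ u)).map y) := mem_Ns_iff.2 (by rw [k.cj_map, k1])
  have k3 := mem_map_of_mem y ha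
  have := one_of_odd hO (x := o * y a * o⁻¹ * (y a)⁻¹) (by
    rw [show o * y a * o⁻¹ * (y a)⁻¹ = o * (y a * o⁻¹ * (y a)⁻¹) by group]
    exact mul_mem ho (mem_normalizer_conj hn (inv_mem ho)))
    (Tw.of_mem ((m.two_QW (ti1 hu)).map y) (mul_mem (mem_normalizer_conj k2 k3) (inv_mem k3)))
  rwa [mul_inv_eq_one, mul_inv_eq_iff_eq_mul] at this

end N5

theorem FS.cen (h : FS φ t y z X U) (k : Fr B U W u γ) :
    X ⊓ C1 (y (tT B u 1) * z (tT B u 1)) ≤ C1 (y (tT B u 1)) := fun g hg => by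
  have m := h.toMo
  have k1 := k.fc h.my
  have k2 := k.fc h.mz
  have T2 := m.tT_sq k.iso (map_one σ)
  have r1 : y (tT B u 1) ∈ (RR B u).map y := mem_map_of_mem _ (k.T_mem m)
  have r2 : z (tT B u 1) ∈ (RR B u).map z := mem_map_of_mem _ (k.T_mem m)
  have t1 : y (tT B u 1) ∈ U.map y ⊔ U.map z := mem_sup_left (k1.VU (k1.RV r1))
  have t2 : z (tT B u 1) ∈ U.map y ⊔ U.map z := mem_sup_right (k2.VU (k2.RV r2))
  have c1 := h.toES.T_le_Cs k
  have c2 : U.map y ⊔ U.map z ≤ Cs ((RR B u).map z) := by rw [sup_comm]; exact h.toES.symm.T_le_Cs k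
  have G0 : U.map y ⊔ U.map z ≤ y.range ⊔ z.range := sup_le_sup (map_le_range _ _) (map_le_range _ _)
  have hY : ∀ a ∈ X ⊓ C1 (y (tT B u 1) * z (tT B u 1)), a ∈ X ∧ Commute a (y (tT B u 1) * z (tT B u 1)) :=
    fun a ha => ⟨ha.1, mem_C1.1 ha.2⟩
  have s : IsSylowIn 2 (U.map y ⊔ U.map z) (X ⊓ C1 (y (tT B u 1) * z (tT B u 1))) :=
    h.syl.mono (le_inf h.syl.le fun a ha => mem_C1.2 (Commute.mul_right
      (Gold.mem_Cs.1 (c1 ha) _ r1).symm (Gold.mem_Cs.1 (c2 ha) _ r2).symm)) inf_le_left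
  have tY : t ∈ Ns (X ⊓ C1 (y (tT B u 1) * z (tT B u 1))) :=
    mem_Ns_inf (by have := h.top.normal; exact mem_Ns_iff.2 (cj_eq_of_normal t X))
      (mem_Ns_C1 (by rw [← h.res]; exact (h.tc _).eq))
  generalize X ⊓ C1 (y (tT B u 1) * z (tT B u 1)) = Y at hg hY s tY
  have o1 := N5.zst s t1 (fun g hg e => by
    have e0 : g * y (tT B u 1) * g⁻¹ * (g * z (tT B u 1) * g⁻¹) = y (tT B u 1) * z (tT B u 1) := by
      rw [conj_mul, (hY g hg).2.eq, mul_inv_cancel_right]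
    have e1 : g * z (tT B u 1) * g⁻¹ ∈ U.map y ⊔ U.map z :=
      (mul_mem_cancel_left e).1 (e0 ▸ mul_mem t1 t2)
    have e2 := h.ic k ⟨_, rfl⟩ (k1.el _ (k1.RV r1)) (hY g hg).1 (G0 e)
    have e3 := h.symm.ic k ⟨_, rfl⟩ (k2.el _ (k2.RV r2)) (hY g hg).1 (sup_comm y.range _ ▸ G0 e1)
    have e4 := h.toES.one_of (mul_mem (inv_mem ⟨tT B u 1, rfl⟩) e2) (by
      rw [show (y (tT B u 1))⁻¹ * (g * y (tT B u 1) * g⁻¹) =
        z (tT B u 1) * (g * z (tT B u 1) * g⁻¹)⁻¹ by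
          rw [eq_mul_inv_iff_mul_eq, mul_assoc, e0, inv_mul_cancel_left]]
      exact mul_mem ⟨_, rfl⟩ (inv_mem e3)) (Tw.of_mem s.isPGroup (mul_mem (inv_mem t1) e))
    exact (inv_mul_eq_one.1 e4).symm) hg
  have hO : Odd (Nat.card (Oc Y)) := odd_card_Oc
  have nO : U.map y ⊔ U.map z ≤ Ns (Oc Y) := s.le.trans le_Ns_Oc_self
  have ny : ∀ a ∈ QW B (E ∙ u), y a ∈ Ns (Oc Y) := fun a ha =>
    nO (mem_sup_left (mem_map_of_mem _ (k.Q_le m ha)))
  have nz : ∀ a ∈ QW B (E ∙ u), z a ∈ Ns (Oc Y) := fun a ha =>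
    nO (mem_sup_right (mem_map_of_mem _ (k.Q_le m ha)))
  obtain ⟨a, ha, b, hb, a2, -, e⟩ := m.comm_root k.iso k.ne (map_one σ)
  have ia : (y a)⁻¹ = y a := inv_eq_of_mul_eq_one_left (by rw [← map_mul, a2, map_one])
  have it : t⁻¹ = t := inv_eq_of_mul_eq_one_left h.t2
  have k3 : y a * z a ∈ Cs (Oc Y) := h.uq.okill h.toES.tM h.t2 hO (mem_Ns_Oc tY)
    (mul_mem (ny a ha) (nz a ha)) (by rw [← h.res, ← map_mul, a2, map_one])
    (le_normalizer (mem_sup_left ⟨a, rfl⟩)) (by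
      rw [(h.com a a).eq, ← h.act, ia, it, ← mul_assoc, ← mul_assoc, ← mul_assoc, h.t2, one_mul])
    fun o ho => by
      obtain ⟨α, e1⟩ := h.my.ind (N5.odd_Ns h.toES hO ho.1 ho.2)
      obtain ⟨β, e2⟩ := h.mz.ind (N5.odd_Ns h.toES.symm hO ho.1 (sup_comm y.range _ ▸ ho.2))
      obtain ⟨e3, e4⟩ := h.toES.comm2 (Tw.of_sq T2) (Tw.of_sq T2) e1 e2 (hY o (Oc_le ho.1)).2
      exact (N5.comm_Q h.my k.iso k.ne hO ho.1 e1 e3 ha (ny a ha)).mul_right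
        (N5.comm_Q h.mz k.iso k.ne hO ho.1 e2 e4 ha (nz a ha))
  have k4 : y (tT B u 1) ∈ Cs (Oc Y) := by
    have := mul_mem k3 (mem_normalizer_conj (mem_Ns_Cs (ny b hb)) (inv_mem k3))
    rwa [show y a * z a * (y b * (y a * z a)⁻¹ * (y b)⁻¹) = y (tT B u 1) by
      rw [← e, map_commutatorElement, commutatorElement_def, (h.com a a).eq, mul_inv_rev]
      calc _ = z a * (y a * y b * (y a)⁻¹) * (z a)⁻¹ * (y b)⁻¹ := by group
        _ = _ := by rw [← map_inv y, ← map_mul, ← map_mul, ← (h.com _ a).eq, mul_inv_cancel_right]]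
      at this
  have y2 := k1.el _ (k1.RV r1)
  have k5 := Gold.mem_Cs.1 k4 _ o1
  generalize y (tT B u 1) = v at o1 y2 k5 ⊢
  have k6 := N5.one_of_odd hO o1 (Tw.of_sq (by
    calc _ = g * v * g⁻¹ * v⁻¹ * (g * v * g⁻¹ * v⁻¹) * (v * v) := by rw [y2, mul_one]
      _ = g * v * g⁻¹ * v⁻¹ * (g * v * g⁻¹ * v⁻¹ * v) * v := by group
      _ = g * (v * v) * g⁻¹ := by rw [k5]; group
      _ = 1 := by rw [y2]; group))
  rw [mul_inv_eq_one, mul_inv_eq_iff_eq_mul] at k6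
  exact mem_C1.2 k6

theorem FS.false (h : FS φ t y z X U) (k : Fr B U W u γ) : False := by
  have m := h.toMo
  have T2 := m.tT_sq k.iso (map_one σ)
  have y2 : y (tT B u 1) * y (tT B u 1) = 1 := by rw [← map_mul, T2, map_one]
  have z2 : z (tT B u 1) * z (tT B u 1) = 1 := by rw [← map_mul, T2, map_one]
  have yX : y (tT B u 1) ∈ X := h.yX ⟨_, rfl⟩
  have zX : z (tT B u 1) ∈ X := h.zX ⟨_, rfl⟩
  have k1 : ∀ g ∈ X, g * y (tT B u 1) * g⁻¹ ∈ C1 (z (tT B u 1)) := fun g hg => by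
    have aX : g * y (tT B u 1) * g⁻¹ ∈ X := mul_mem (mul_mem hg yX) (inv_mem hg)
    obtain ⟨n, e1, e2⟩ := dih (a := g * y (tT B u 1) * g⁻¹) (by rw [conj_mul, y2]; simp) z2
    obtain ⟨c, hc, e3, e4⟩ := h.pair k hg (pow_mem (mul_mem zX aX) n) e1
    rw [← e4] at e2
    rw [← e3] at e2 aX ⊢
    have e5 := mem_C1.1 (h.cen k (x := c⁻¹ * (c * y (tT B u 1) * c⁻¹ * z (tT B u 1)) * c)
      (mem_inf.2 ⟨mul_mem (mul_mem (inv_mem hc) (mul_mem aX zX)) hc, mem_C1.2 (by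
        calc _ = c⁻¹ * (c * y (tT B u 1) * c⁻¹ * z (tT B u 1) *
              (c * y (tT B u 1) * c⁻¹ * (c * z (tT B u 1) * c⁻¹))) * c := by group
          _ = _ := by rw [← e2.eq]; group)⟩))
    refine mem_C1.2 (mul_left_cancel (a := y (tT B u 1) * c⁻¹) (mul_right_cancel (b := c) ?_))
    calc _ = y (tT B u 1) * (c⁻¹ * (c * y (tT B u 1) * c⁻¹ * z (tT B u 1)) * c) := by group
      _ = _ := by rw [← e5]; group
  have k2 := (N0.simple h.top.simple (ncl_le (zpowers_le.2 yX)) le_Ns_ncl).resolve_left fun e =>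
    h.my.T_ne k.iso k.ne (mem_bot.1 (e ▸ le_ncl' (mem_zpowers _)))
  have k3 : X ≤ C1 (z (tT B u 1)) := k2 ▸ iSup₂_le fun g hg => by
    rw [cj_zpowers]; exact zpowers_le.2 (k1 g hg)
  have k4 := (N0.simple h.top.simple (K := X ⊓ Cs X) inf_le_left
    (le_Ns_inf le_normalizer (le_Ns_Cs le_normalizer))).resolve_left fun e =>
      h.mz.T_ne k.iso k.ne (mem_bot.1 (e ▸ mem_inf.2 ⟨zX, Gold.mem_Cs.2 fun a ha => mem_C1.1 (k3 ha)⟩))
  have k5 := commutator_eq_bot_iff_le_centralizer.2 (k4.ge.trans inf_le_right)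
  rw [h.top.perf] at k5
  exact h.mz.T_ne k.iso k.ne (mem_bot.1 (k5 ▸ zX))

end Cfsg.Lib.UM
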