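import Cfsg.Agent.UM.P3b

/-!
# Standard subgroups of type `U_m(2ⁿ)`: the enlarged root groups
-/

set_option autoImplicit false
set_option linter.unusedSectionVars false

namespace Cfsg.Lib.UM

open Subgroup Module Cfsg.Lib.Trans Cfsg.Lib.Gold Cfsg.Lib.Class.Form Cfsg.Lib.Class.FAut
open Cfsg.Lib.Comp (Tw)
open scoped commutatorElement

variable {G E M : Type*} [Group G] [Finite G] [Field E] [Finite E] [AddCommGroup M] [Module E M]
  [FiniteDimensional E M] {σ : E →+* E} {B : M →ₛₗ[σ] M →ₗ[E] E} {φ : sIsom B →* G} {t : G}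

namespace P3r

variable {W W' : Submodule E M} {u w : M} {g : sIsom B}

variable (φ t) in
/-- The complement over a plane. -/
noncomputable def YY (W : Submodule E M) : Subgroup G := ⁅JJ φ t W, (St B W).map φ⁆ ⊔ (VW B W).map φ

variable (φ t) in
open Classical in
/-- The enlarged root group. -/
noncomputable def RT (u : M) : Subgroup G :=
  if u = 0 then ⊥ else JJ φ t (E ∙ u) ⊓
    ⨅ w, ⨅ _ : I2 B u w ∧ LinearIndependent E ![u, w], YY φ t (Submodule.span E {u, w})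

theorem YY_eq_1' : type_of% @YY.eq_1 := @YY.eq_1
theorem RT_eq_1' : type_of% @RT.eq_1 := @RT.eq_1

theorem cj_map' (g : sIsom B) (H : Subgroup (sIsom B)) : cj (φ g) (H.map φ) = (cj g H).map φ :=
  (Mp.self g).cj_map H

theorem cj_YY (h : H1 φ t) (e : ∀ x, x ∈ W ↔ lin g x ∈ W') : cj (φ g) (YY φ t W) = YY φ t W' := by
  rw [YY, cj_sup, cj_commutator, h.cj_JJ' e, cj_map', cj_map', (cj_sub e).1, (cj_sub e).2.2.2, YY]

theorem span2 (g : sIsom B) (u w x : M) :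
    x ∈ Submodule.span E {u, w} ↔ lin g x ∈ Submodule.span E {lin g u, lin g w} := by
  rw [cj_span _ g, Set.image_pair]

theorem span1 (g : sIsom B) (u x : M) : x ∈ E ∙ u ↔ lin g x ∈ E ∙ lin g u := by
  rw [cj_span _ g, Set.image_singleton]

theorem li_lin (li : LinearIndependent E ![u, w]) (g : sIsom B) :
    LinearIndependent E ![lin g u, lin g w] :=
  LinearIndependent.pair_iff.2 fun a b e => LinearIndependent.pair_iff.1 li a b
    ((lin g).map_eq_zero_iff.1 (by rwa [map_add, map_smul, map_smul]))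

theorem RT_zero : RT φ t 0 = ⊥ := if_pos rfl

theorem RT_eq (h : H2 φ t) (k : I2 B u w) (li : LinearIndependent E ![u, w]) :
    RT φ t u = JJ φ t (E ∙ u) ⊓ YY φ t (Submodule.span E {u, w}) := by
  have u0 : u ≠ 0 := li.ne_zero 0
  rw [RT, if_neg u0]
  refine le_antisymm (inf_le_inf_left _ (iInf₂_le w ⟨k, li⟩))
    (le_inf inf_le_left (le_iInf₂ fun w' k' j hj => ?_))
  obtain ⟨g, g1, g2⟩ := h.toMo.tr2 k li k'.1 k'.2
  have e := cj_YY h.toH1 (span2 g u w)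
  rw [g1, g2] at e
  rw [← e, mem_cj, mul_assoc, mem_Cs.1 (h.JJ_fix1 k.uu u0 (a := 1) (by simp)
    (by rw [g1, one_smul])) j hj.1, inv_mul_cancel_left]
  exact hj.2

theorem eqv (h : H2 φ t) (g : sIsom B) (hu : B u u = 0) : cj (φ g) (RT φ t u) = RT φ t (lin g u) := by
  by_cases u0 : u = 0
  · rw [u0, map_zero, RT_zero, cj_bot]
  obtain ⟨w, k, li⟩ := h.toMo.ext2 hu u0
  rw [RT_eq h k li, RT_eq h (k.lin g) (li_lin li g), cj_inf, h.cj_JJ' (span1 g u),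
    cj_YY h.toH1 (span2 g u w)]

theorem YY_le (h : H1 φ t) (hW : TotIso B W) : YY φ t W ≤ JJ φ t W :=
  sup_le (commutator_le_left_of_le (by rintro _ ⟨s, hs, rfl⟩; exact h.St_JJ hs)) (h.V_le_JJ hW)

theorem tau_inv (h : H1 φ t) (hW : TotIso B W) {j : G} (hj : j ∈ JJ φ t W) {v : sIsom B}
    (hv : v ∈ VW B W) (e : j * t * j⁻¹ = t * φ v) : j⁻¹ * t * j⁻¹⁻¹ = t * φ v⁻¹ :=
  calc _ = j⁻¹ * (t * φ v) * ((φ v)⁻¹ * j) := by group
    _ = _ := by
      rw [← e, mem_Cs.1 (h.JJ_cV hW hj) _ (inv_mem (mem_map_of_mem φ hv)), map_inv]; group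

theorem YY_or (h : H2 φ t) (hW : TotIso B W) (h2 : 2 ≤ finrank E W) {j : G} (hj : j ∈ JJ φ t W) :
    j ∈ YY φ t W ∨ j * t ∈ YY φ t W := by
  refine h.cov hW (fun e => by rw [e, finrank_bot] at h2; omega) (YY_le h.toH1 hW) le_sup_right
    (fun v => h.onto_of hW (YY_le h.toH1 hW) fun x hx _ => ?_) hj
  obtain ⟨y, hy, -, v, hv, e⟩ := h.toMo.rootSt hW h2 hx
  obtain ⟨i, hi, e1⟩ := h.JJ_onto hW hv
  refine ⟨⁅i, φ y⁆, mem_sup_left (commutator_mem_commutator hi (mem_map_of_mem φ hy)), ?_⟩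
  have := h.JJ_mul hW hi (mem_normalizer_conj (St_le_Ns hy).1.1 (inv_mem hv)) e1
    (h.tau_conj y (tau_inv h.toH1 hW hi hv e1))
  rw [← e]
  simpa only [commutatorElement_def, mul_assoc] using this

end P3r

open P3r

section VT
variable {RT : M → Subgroup G} {n : ℕ} {W : Submodule E M}

theorem le_VT {x : M} (hx : x ∈ W) : RT x ≤ VT RT W :=
  le_iSup₂ (f := fun x (_ : x ∈ W) => RT x) x hx

theorem VT_le {H : Subgroup G} : VT RT W ≤ H ↔ ∀ x ∈ W, RT x ≤ H := iSup₂_le_iff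

theorem VT_mono {W' : Submodule E M} (e : W ≤ W') : VT RT W ≤ VT RT W' :=
  VT_le.2 fun _ hx => le_VT (e hx)

theorem H3r.VT_le' (h : H3r φ t RT n) {H : Subgroup G} (k : ∀ x ∈ W, x ≠ 0 → RT x ≤ H) :
    VT RT W ≤ H := VT_le.2 fun x hx => by
  by_cases x0 : x = 0
  · rw [x0, h.zero]; exact bot_le
  · exact k x hx x0

theorem H3r.VT_le_JJ (h : H3r φ t RT n) (hW : TotIso B W) : VT RT W ≤ JJ φ t W :=
  h.VT_le' fun x hx x0 => (h.le x (hW x hx x hx)).trans (h.JJ_le1 hW hx x0)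

theorem H3r.V_le (h : H3r φ t RT n) (hW : TotIso B W) : (VW B W).map φ ≤ VT RT W :=
  map_le_iff_le_comap.2 (h.toMo.gen_VW hW fun x hx => le_VT hx (h.leR x (hW x hx x hx)
    (mem_map_of_mem φ ((h.toMo.mem_RR (hW x hx x hx)).2 ⟨1, map_one σ, rfl⟩))))

theorem H3r.VT_onto (h : H3r φ t RT n) (hW : TotIso B W) {v : sIsom B} (hv : v ∈ VW B W) :
    ∃ j ∈ VT RT W, j * t * j⁻¹ = t * φ v :=
  h.onto_of hW (h.VT_le_JJ hW) (fun x hx _ =>
    let ⟨j, hj, e⟩ := h.onto x 1 (hW x hx x hx) (map_one σ)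
    ⟨j, le_VT hx hj, e⟩) hv

theorem H3r.VT_ker (h : H3r φ t RT n) (hW : TotIso B W) (hn : finrank E W ≤ n) {j : G}
    (hj : j ∈ VT RT W) (e : Commute j t) : j ∈ (VW B W).map φ := by
  by_cases h0 : W = ⊥
  · exact h.VT_le' (fun x hx x0 => absurd ((Submodule.mem_bot E).1 (h0 ▸ hx)) x0) hj
  obtain ⟨v, hv, rfl | rfl⟩ := h.JJ_ker hW h0 (h.VT_le_JJ hW hj) e
  · exact mem_map_of_mem φ hv
  · exact absurd ((mul_mem_cancel_right (h.V_le hW (mem_map_of_mem φ hv))).1 hj) (h.nt W hW hn)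

theorem H3r.VT_eq (h : H3r φ t RT n) (hW : TotIso B W) (hn : finrank E W ≤ n) {j j' : G}
    (hj : j ∈ VT RT W) (hj' : j' ∈ VT RT W) (e : j * t * j⁻¹ = j' * t * j'⁻¹) :
    ∃ v ∈ VW B W, j = j' * φ v := by
  obtain ⟨v, hv, e1⟩ := h.VT_ker hW hn (mul_mem (inv_mem hj') hj) (show _ = _ from
    calc j'⁻¹ * j * t = j'⁻¹ * (j * t * j⁻¹) * j := by group
      _ = t * (j'⁻¹ * j) := by rw [e]; group)
  exact ⟨v, hv, by rw [e1, mul_inv_cancel_left]⟩

theorem H3r.JJ_or (h : H3r φ t RT n) (hW : TotIso B W) (h0 : W ≠ ⊥) {j : G} (hj : j ∈ JJ φ t W) :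
    j ∈ VT RT W ∨ j * t ∈ VT RT W :=
  h.cov hW h0 (h.VT_le_JJ hW) (h.V_le hW) (fun _ => h.VT_onto hW) hj

theorem H3r.cj_VT (h : H3r φ t RT n) (hW : TotIso B W) {W' : Submodule E M} {g : sIsom B}
    (e : ∀ x, x ∈ W ↔ lin g x ∈ W') : cj (φ g) (VT RT W) = VT RT W' := by
  refine le_antisymm (cj_le_iff_le_cj_inv.2 (VT_le.2 fun x hx => cj_le_iff_le_cj_inv.1 ?_))
    (VT_le.2 fun x hx => ?_)
  · rw [h.eqv g x (hW x hx x hx)]
    exact le_VT ((e x).1 hx)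
  · rw [← lin_lin_inv g x] at hx ⊢
    have hy := (e _).2 hx
    rw [← h.eqv g _ (hW _ hy _ hy)]
    exact cj_mono _ (le_VT hy)

theorem H3r.comm_mem (h : H3r φ t RT n) (hW : TotIso B W) (h0 : W ≠ ⊥) {g : sIsom B}
    (hg : g ∈ St B W) {j : G} (hj : j ∈ JJ φ t W) : ⁅j, φ g⁆ ∈ VT RT W :=
  comm_mem_of (mem_Ns_iff.2 (h.cj_VT hW hg)) (h.tc g) (h.JJ_or hW h0 hj)

theorem H3r.VT_fix (h : H3r φ t RT n) (hW : TotIso B W) : (Fx B W).map φ ≤ Cs (VT RT W) :=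
  le_Cs_comm.1 (h.VT_le' fun x hx x0 => (h.le x (hW x hx x hx)).trans (le_Cs_comm.1 (by
    rintro _ ⟨g, hg, rfl⟩
    exact h.JJ_fix1 (hW x hx x hx) x0 (a := 1) (by simp) (by rw [hg x hx, one_smul]))))

theorem H3r.VT_one (h : H3r φ t RT n) {u : M} (hu : B u u = 0) : VT RT (E ∙ u) = RT u :=
  le_antisymm (h.VT_le' fun x hx x0 => by
    obtain ⟨a, rfl⟩ := Submodule.mem_span_singleton.1 hx
    exact (h.smul a u (left_ne_zero_of_smul x0) hu).le)
    (le_VT (Submodule.mem_span_singleton_self u))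

end VT

theorem H2.h3r (h : H2 φ t) : ∃ RT, H3r φ t RT 2 := by
  have m := h.toMo
  refine ⟨RT φ t, h, RT_zero, fun u _ => ?_, fun u hu => ?_, fun u c hu hc => ?_,
    fun g u => eqv h g, fun a u a0 hu => ?_, fun W hW h2 ht => ?_⟩
  · rw [RT]
    split_ifs
    exacts [bot_le, inf_le_left]
  · by_cases u0 : u = 0
    · rintro _ ⟨v, hv, rfl⟩
      obtain ⟨c, -, rfl⟩ := (m.mem_RR hu).1 hv
      rw [u0, m.tT_zero', map_one]
      exact one_mem _
    obtain ⟨w, k, li⟩ := m.ext2 hu u0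
    rw [RT_eq h k li]
    exact le_inf (h.V_le_JJ (ti1 hu)) ((map_mono (VW_mono
      ((Submodule.span_singleton_le_iff_mem _ _).2 P3b.u_mem))).trans le_sup_right)
  · by_cases u0 : u = 0
    · exact ⟨1, one_mem _, by rw [u0, m.tT_zero', map_one, one_mul, inv_one]⟩
    obtain ⟨w, k, li⟩ := m.ext2 hu u0
    obtain ⟨j, hj, e⟩ := h.JJ_onto1 hu hc
    have d := finrank_span_eq_card li
    rw [show Set.range ![u, w] = {u, w} by simp [Set.pair_comm]] at d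
    rw [RT_eq h k li]
    rcases YY_or h (k.ti m) d.ge (h.JJ_le1 (k.ti m) P3b.u_mem u0 hj) with y | y
    · exact ⟨j, ⟨hj, y⟩, e⟩
    · exact ⟨j * t, ⟨mul_mem hj (h.t_mem_JJ (ti1 hu)), y⟩, by rw [← e]; group⟩
  · by_cases u0 : u = 0
    · rw [u0, smul_zero]
    obtain ⟨w, k, li⟩ := m.ext2 hu u0
    obtain ⟨g, g1, g2⟩ := m.tr_diag k li a0 a0
    rw [← g1, ← eqv h g hu, RT_eq h k li, cj_inf, h.cj_JJ' (span1 g u), g1,
      Submodule.span_singleton_smul_eq a0.isUnit, cj_YY h.toH1 (St_of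
        (g1 ▸ Submodule.smul_mem _ _ P3b.u_mem) (g2 ▸ Submodule.smul_mem _ _ P3b.w_mem))]
  · obtain ⟨u, w, k, li, hle⟩ := m.basis2 hW h2
    refine h.plane k li ((VT_le.2 fun x hx => ?_ : _ ≤ YY φ t _) ht)
    by_cases x0 : x = 0
    · rw [x0, RT_zero]; exact bot_le
    obtain ⟨g, hg, rfl⟩ := P3b.trS m k li (hle hx) x0
    rw [← eqv h g k.uu, ← cj_YY h.toH1 hg, RT_eq h k li]
    exact cj_mono _ inf_le_right

end Cfsg.Lib.UM
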