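import Cfsg.Agent.UM.K3
import Cfsg.Agent.UM.K4
import Cfsg.Agent.UM.P3g

/-!
# Standard subgroups of type `U_m(2ⁿ)`: the end of phase 3
-/

set_option autoImplicit false
set_option linter.unusedSectionVars false

namespace Cfsg.Lib.UM

open Subgroup Module Cfsg.Lib.Trans Cfsg.Lib.Gold Cfsg.Lib.Class.Form Cfsg.Lib.Class.FAut
open Cfsg.Lib.Comp (Tw)
open scoped commutatorElement

variable {G E M : Type*} [Group G] [Finite G] [Field E] [Finite E] [AddCommGroup M] [Module E M]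
  [FiniteDimensional E M] {σ : E →+* E} {B : M →ₛₗ[σ] M →ₗ[E] E} {φ : sIsom B →* G} {t : G}
  {RT : M → Subgroup G} {f : M → G} {u w : M} {W : Submodule E M}

namespace P3h

variable (φ f u w) in
/-- The error term of the relation `sw`. -/
def R (a b c d l : E) : Prop := σ c = c ∧ σ d = d ∧ Ew f (a • u) (b • w) =
  Ew f u ((σ a * b) • w) * φ (tT B u c * tT B w d * tE B u (l • w))

theorem R_eq_1' : type_of% @R.eq_1 := @R.eq_1

variable (h : H3f φ t RT f)
include h

theorem f0 : f 0 = 1 := (h.zero ▸ h.mem 0 (by simp) :)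

theorem sq (u : M) : f u * f u = 1 := by
  by_cases hu : B u u = 0
  · exact h.el u hu _ (h.mem u hu)
  · rw [h.junk u hu, one_mul]

theorem com (k : I2 B u w) : Commute (f u) (f w) :=
  (mem_Cs.1 (h.com u w k (h.mem u k.uu)) _ (h.mem w k.ww)).symm

theorem ab (hW : TotIso B W) : VT RT W ≤ Cs (VT RT W) :=
  VT_le.2 fun _ hx => le_Cs_comm.1 (VT_le.2 fun _ hy => h.com _ _ (.of_ti hW hy hx))

theorem fm (hW : TotIso B W) (hu : u ∈ W) : f u ∈ VT RT W := le_VT hu (h.mem u (hW u hu u hu))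

theorem Em (hW : TotIso B W) (hu : u ∈ W) (hw : w ∈ W) : Ew f u w ∈ VT RT W :=
  mul_mem (mul_mem (fm h hW (add_mem hu hw)) (fm h hW hu)) (fm h hW hw)

theorem Ec (k : I2 B u w) : Ew f u w = Ew f w u := by
  rw [Ew, Ew, add_comm, mul_assoc, (com h k).eq, mul_assoc]

theorem E0 (u : M) : Ew f u 0 = 1 := by rw [Ew, add_zero, sq h, f0 h, one_mul]

theorem E0' (u : M) : Ew f 0 u = 1 := by rw [Ew, zero_add, f0 h, mul_one, sq h]

theorem Ee (g : sIsom B) (u w : M) : φ g * Ew f u w * (φ g)⁻¹ = Ew f (lin g u) (lin g w) := by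
  rw [Ew, Ew, ← conj_mul, ← conj_mul, h.feqv, h.feqv, h.feqv, map_add]

theorem Et (k : I2 B u w) : Ew f u w * t * (Ew f u w)⁻¹ = t * φ (tE B u w) := by
  have m := h.toMo
  have ti := k.ti m
  have hu : u ∈ Submodule.span E {u, w} := Submodule.subset_span (by simp)
  have hw : w ∈ Submodule.span E {u, w} := Submodule.subset_span (by simp)
  have o := map_one σ
  rw [Ew, m.tE_eq k, mul_assoc (f _), mul_assoc (tT B _ 1)]
  exact h.toH1.JJ_mul ti (h.toH3r.VT_le_JJ ti (fm h ti (add_mem hu hw)))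
    (mul_mem (m.tT_mem k.uu hu o) (m.tT_mem k.ww hw o)) (h.tf _ (k.add m))
    (h.toH1.JJ_mul ti (h.toH3r.VT_le_JJ ti (fm h ti hu)) (m.tT_mem k.ww hw o) (h.tf _ k.uu)
      (h.tf _ k.ww))

theorem self (hu : B u u = 0) {a b c : E} (e : σ b * b = σ a * c + a * σ c) :
    Ew f (a • u) (c • u) = f (b • u) := by
  have m := h.toMo
  obtain ⟨p, hp⟩ := m.exists_nm (c := σ a * a + σ c * c) (by
    simp only [map_add, map_mul, m.ss]; ring)
  rw [Ew, mul_assoc, h.addN a c p u hu hp.symm, ← add_smul, h.addN _ p b u hu (by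
    rw [hp, e, map_add]; linear_combination (σ a * a + σ c * c) * m.two)]

variable (k : I2 B u w) (li : LinearIndependent E ![u, w]) {a b c d l a' b' c' d' l' : E}
include k

theorem ex (a b : E) : ∃ c d l, R φ f u w a b c d l := by
  classical
  have m := h.toMo
  have hu : u ∈ Submodule.span E {u, w} := Submodule.subset_span (by simp)
  have hw : w ∈ Submodule.span E {u, w} := Submodule.subset_span (by simp)
  have rk := (finrank_span_finset_le_card (R := E) ({u, w} : Finset M)).trans Finset.card_le_two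
  rw [Finset.coe_pair] at rk
  obtain ⟨v, hv, e⟩ := h.toH3r.VT_eq (k.ti m) (rk.trans (by omega))
    (Em h (k.ti m) (Submodule.smul_mem _ a hu) (Submodule.smul_mem _ b hw))
    (Em h (k.ti m) hu (Submodule.smul_mem _ (σ a * b) hw))
    (by rw [Et h (k.smul a b), Et h (k.smul_r _), m.tE_smul (k.smul_r b), smul_smul])
  obtain ⟨c, d, l, hc, hd, rfl⟩ := (m.mem_V2 k).1 hv
  exact ⟨c, d, l, hc, hd, e⟩

theorem fin (r : σ c = c) (s : σ d = d) (r' : σ c' = c') (s' : σ d' = d') (p p' : E) :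
    Ew f u (p • w) * φ (tT B u c * tT B w d * tE B u (l • w)) *
      (Ew f u (p' • w) * φ (tT B u c' * tT B w d' * tE B u (l' • w))) =
    Ew f u ((p + p') • w) * φ (tT B u (c + c') * tT B w (d + d') * tE B u ((l + l') • w)) := by
  have m := h.toMo
  have c1 : Commute (φ (tT B u c * tT B w d * tE B u (l • w))) (Ew f u (p' • w)) :=
    mem_Cs.1 (ab h (k.ti m) (Em h (k.ti m) (Submodule.subset_span (by simp)) (Submodule.smul_mem _ p'
      (Submodule.subset_span (by simp))))) _ (h.toH3r.V_le (k.ti m) (mem_map_of_mem _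
        ((m.mem_V2 k).2 ⟨c, d, l, r, s, rfl⟩)))
  rw [← m.v2_mul k l l' r s r' s', map_mul φ _ (_ * _), add_smul, h.bi ⟨k.smul_r p, by simp [k.ww],
    by simp [k.uw], by simp [k.ww]⟩, c1.mul_mul_mul_comm]

theorem add2 (r : R φ f u w a b c d l) (r' : R φ f u w a b' c' d' l') :
    R φ f u w a (b + b') (c + c') (d + d') (l + l') := by
  refine ⟨by rw [map_add, r.1, r'.1], by rw [map_add, r.2.1, r'.2.1], ?_⟩
  rw [mul_add, ← fin h k r.1 r.2.1 r'.1 r'.2.1, ← r.2.2, ← r'.2.2, add_smul,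
    h.bi ⟨k.smul a b, by simp [k.ww], by simp [k.uw], by simp [k.ww]⟩]

theorem dg {g : sIsom B} {x y : E} (e1 : lin g u = x • u) (e2 : lin g w = y • w)
    (r : R φ f u w a b c d l) : Ew f ((a * x) • u) ((b * y) • w) = Ew f (x • u) ((σ a * b * y) • w) *
      φ (tT B u (σ x * x * c) * tT B w (σ y * y * d) * tE B u ((σ x * y * l) • w)) := by
  have := congrArg (fun z => φ g * z * (φ g)⁻¹) r.2.2
  rwa [← conj_mul, Ee h, Ee h, ← map_inv, ← map_mul φ, ← map_mul φ, h.toMo.v2_diag k l r.1 r.2.1 e1 e2,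
    map_smul, map_smul, map_smul, e1, e2, smul_smul, smul_smul, smul_smul] at this

include li

theorem uniq (r : R φ f u w a b c d l) (r' : R φ f u w a b c' d' l') : c = c' ∧ d = d' ∧ l = l' :=
  have m := h.toMo
  m.v2_inj k li r.1 r.2.1 r'.1 r'.2.1 (h.toMod.eq2
    (.of_sq (m.sq_VW (k.ti m) ((m.mem_V2 k).2 ⟨c, d, l, r.1, r.2.1, rfl⟩)))
    (.of_sq (m.sq_VW (k.ti m) ((m.mem_V2 k).2 ⟨c', d', l', r'.1, r'.2.1, rfl⟩)))
    (mul_left_cancel (r.2.2.symm.trans r'.2.2)))

theorem sw (a : E) : Ew f (a • u) w = Ew f u (σ a • w) := by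
  have m := h.toMo
  choose c d l r using ex h k
  have D : ∀ a y, y ≠ 0 → c a y = c a 1 ∧ d a y = σ y * y * d a 1 ∧ l a y = y * l a 1 :=
    fun a y y0 => by
      obtain ⟨g, g1, g2⟩ := m.tr_diag k li one_ne_zero y0
      have := dg h k g1 g2 (r a 1)
      simp only [map_one, one_mul, mul_one, one_smul] at this
      exact uniq h k li (r a y) ⟨(r a 1).1, by rw [map_mul, map_mul, m.ss, (r a 1).2.1, mul_comm y], this⟩
  obtain ⟨y, hy⟩ := m.exists_tr (map_one σ)
  have y0 : y ≠ 0 := by rintro rfl; simp at hy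
  have y1 : y + 1 ≠ 0 := fun e => by
    rw [show y = 1 by linear_combination e - m.two, map_one, m.add_self] at hy
    exact zero_ne_one hy
  have z : ∀ a, c a 1 = 0 ∧ d a 1 = 0 := fun a => by
    obtain ⟨e1, e2, -⟩ := uniq h k li (r a (y + 1)) (add2 h k (r a y) (r a 1))
    rw [(D a _ y1).1, (D a _ y0).1, m.add_self] at e1
    rw [(D a _ y1).2.1, (D a _ y0).2.1, map_add, map_one] at e2
    exact ⟨e1, by linear_combination e2 - d a 1 * hy⟩
  by_cases a0 : a = 0
  · rw [a0, map_zero, zero_smul, zero_smul, E0 h, E0' h]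
  obtain ⟨s, rfl⟩ := m.exists_sq a
  have s0 : s ≠ 0 := left_ne_zero_of_mul a0
  have s1 : σ s ≠ 0 := (map_ne_zero σ).2 s0
  obtain ⟨g, g1, g2⟩ := m.tr_diag k li s0 one_ne_zero
  have e1 := dg h k g1 g2 (r s 1)
  have o := map_zero σ
  simp only [mul_one, one_smul, (z s).1, (z s).2, mul_zero] at e1
  rw [e1, (r s (σ s)).2.2, (D s _ s1).1, (D s _ s1).2.1, (D s _ s1).2.2, (z s).1, (z s).2, mul_zero,
    mul_assoc, ← map_mul φ, m.v2_mul k _ _ o o o o, m.add_self, m.add_self, zero_smul, m.tE_zero,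
    m.tT_zero, m.tT_zero, map_mul σ]
  simp

end P3h

open P3h in
theorem H3f.h3 {f : M → G} (h : H3f φ t RT f) : H3 φ t f := by
  have m := h.toMo
  have o := map_one σ
  refine ⟨h.toH2, f0 h, h.junk, h.tf, sq h, h.feqv, fun _ _ => com h, fun u => ?_, h.addN,
    fun _ _ _ => h.bi, fun a u w k => ?_, fun c hc => Comp.mem_Ns_of fun g hg => ?_⟩
  · by_cases hu : B u u = 0
    · exact (((closure_le (DD φ t _)).2 fun _ hj => hj.1) (h.le u hu (h.mem u hu))).1.2
    · rw [h.junk u hu]; exact one_mem _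
  · by_cases u0 : u = 0
    · rw [u0, smul_zero, E0' h, E0' h]
    by_cases li : LinearIndependent E ![u, w]
    · exact sw h k li a
    rw [LinearIndependent.pair_iff' u0] at li
    push Not at li
    obtain ⟨c, rfl⟩ := li
    obtain ⟨b, hb⟩ := m.exists_nm (c := σ a * c + a * σ c) (by
      simp only [map_add, map_mul, m.ss]; ring)
    have := self h k.uu (a := 1) (c := σ a * c) (b := b) (by simp [hb, m.ss])
    rw [self h k.uu hb, smul_smul, ← this, one_smul]
  obtain ⟨α, hα⟩ := h.toMod.ind (h.cn hc)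
  obtain ⟨Γ, hΓ⟩ := m.semi α
  refine (sup_le ?_ ((closure_le _).2 ?_) : GG φ f ≤ (GG φ f).comap (MulAut.conj c).toMonoidHom) hg
  · rintro _ ⟨g, rfl⟩
    exact mem_sup_left ⟨_, (hα g).symm⟩
  rintro _ ⟨u, rfl⟩
  change c * f u * c⁻¹ ∈ GG φ f
  by_cases hu : B u u = 0
  swap
  · simp [h.junk u hu, one_mem]
  by_cases u0 : u = 0
  · simp [u0, f0 h, one_mem]
  have hx : B (Γ u) (Γ u) = 0 := by rw [hΓ.form, hu, map_zero]
  have x0 : Γ u ≠ 0 := by simpa using u0
  have j1 : c * f u * c⁻¹ ∈ JJ φ t (E ∙ Γ u) := by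
    rw [← h.toH1.cj_JJ (mem_C1.1 hc) hα hΓ fun x => by rw [hΓ.span, Set.image_singleton]]
    exact conj_mem_cj.2 (h.le u hu (h.mem u hu))
  rcases h.toH3r.JJ_or (ti1 hx) (by simpa using u0) j1 with e | e
  · obtain ⟨v, hv, ev⟩ := h.toH1.JJ_tau (ti1 hx) j1
    obtain ⟨b, hb, rfl⟩ := (m.mem_RR hx).1 hv
    obtain ⟨a, rfl⟩ := m.exists_nm hb
    obtain ⟨v, -, e1⟩ := h.toH3r.VT_eq (ti1 hx) ((finrank_span_singleton x0).le.trans (by omega)) e
      (fm h (ti1 hx) (Submodule.smul_mem _ a (Submodule.mem_span_singleton_self _)))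
      (by rw [ev, h.tf _ (by simp [hx]), m.tT_smul hx a o, mul_one])
    rw [e1]
    exact mul_mem (mem_sup_right (subset_closure ⟨_, rfl⟩)) (mem_sup_left ⟨v, rfl⟩)
  · have e1 := h.el _ hx _ (h.toH3r.VT_one hx ▸ e)
    have e2 : f u * t * (f u * t) = 1 := by
      have := (mem_C1.1 hc).symm
      rwa [← (mul_inv_eq_iff_eq_mul.2 this.symm), conj_mul, conj_mul, conj_eq_one_iff] at e1
    have e3 := h.tf u hu
    rw [← mul_assoc] at e2
    rw [inv_eq_of_mul_eq_one_right (sq h u), eq_inv_of_mul_eq_one_left e2,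
      inv_eq_of_mul_eq_one_right h.t2, left_eq_mul] at e3
    exact absurd (h.toMod.inj2 (.of_sq (m.tT_sq hu o)) e3) (m.tT_ne hu u0 o one_ne_zero)

end Cfsg.Lib.UM
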