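import Cfsg.Agent.UM.A2A
import Cfsg.Agent.UM.AP1

/-!
# Standard subgroups of type `U_m(2ⁿ)`: the Sylow subgroup of the model
-/

set_option autoImplicit false
set_option linter.unusedSectionVars false

namespace Cfsg.Lib.UM

open Subgroup Module Cfsg.Lib.Trans Cfsg.Lib.Gold Cfsg.Lib.Class.Form Cfsg.Lib.Class.FAut
open Cfsg.Lib.Comp (Tw)
open scoped commutatorElement

variable {E M : Type*} [Field E] [Finite E] [AddCommGroup M] [Module E M] [FiniteDimensional E M]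
  {σ : E →+* E} {B : M →ₛₗ[σ] M →ₗ[E] E}

namespace SYL

theorem exists_E (h : Mo B) {u w : M} (hu : B u u = 0) (hw : B u w = 0) :
    ∃ b g, b + σ b = B w w ∧ IsE B 1 u w b g ∧ g ∈ QW B (E ∙ u) := by
  obtain ⟨b, hb⟩ := h.cls.exists_trace w
  obtain ⟨g, hg⟩ := h.cls.exists_isE hu hw hb
  exact ⟨b, g, by simpa using hb, hg, h.isE_mem_Q hu hw hg⟩

theorem isE_inv (h : Mo B) {u w : M} (hu : B u u = 0) (hw : B u w = 0) {b : E} {k : sIsom B}
    (hb : b + σ b = B w w) (hk : IsE B 1 u w b k) : IsE B 1 u w (σ b) k⁻¹ := by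
  obtain ⟨g, hg⟩ := h.cls.exists_isE hu hw (b := σ b) (by rw [h.ss, one_mul, one_mul, ← hb, add_comm])
  have e := hk.mul hu (h.swap hw) hw hg
  rw [h.vadd_self, hb, one_mul, h.add_self] at e
  rwa [inv_eq_of_mul_eq_one_right (lin_ext fun x => (e x).trans (by simp) : k * g = 1)]

theorem comm_E (h : Mo B) {u w : M} (hu : B u u = 0) (hw : B u w = 0) {b : E} {k g : sIsom B}
    (hb : b + σ b = B w w) (hk : IsE B 1 u w b k) (hg : lin g u = u) :
    IsE B 1 u (lin g w + w) (B w w + B (lin g w) w) ⁅g, k⁆ := by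
  have e := hk.conj g
  rw [hg] at e
  have := e.mul hu (by rw [← hg, lin_isom, h.swap hw]) hw (isE_inv h hu hw hb hk)
  rwa [hb, one_mul] at this

theorem comm_EE (h : Mo B) {u w x : M} (hu : B u u = 0) (hw : B u w = 0) (hx : B u x = 0) {b c : E}
    {k g : sIsom B} (hb : b + σ b = B w w) (hk : IsE B 1 u w b k) (hg : IsE B 1 u x c g) :
    ⁅g, k⁆ = tT B u (B x w + σ (B x w)) := by
  refine (K1.tT_eq fun y => ?_).symm
  rw [comm_E h hu hw hb hk (hg.apply_self hu (h.swap hx)) y, hg w]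
  simp only [map_add, map_sub, map_smulₛₗ, LinearMap.add_apply, LinearMap.sub_apply,
    LinearMap.smul_apply, smul_eq_mul, hw, one_mul, mul_zero, add_zero, zero_smul]
  match_scalars
  · ring
  · linear_combination B u y * h.two
  · linear_combination (-(B u y * B x w) - B w y - B w w * B u y) * h.two

theorem isE_sub (h : Mo B) {u w w' : M} (hu : B u u = 0) (u0 : u ≠ 0) {b b' : E} {g : sIsom B}
    (hg : IsE B 1 u w b g) (hg' : IsE B 1 u w' b' g) : w - w' ∈ E ∙ u := by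
  obtain ⟨f, -, hf⟩ := h.cls.exists_hyperbolic u0 hu
  have e := (hg f).symm.trans (hg' f)
  rw [hf] at e
  exact Submodule.mem_span_singleton.2 ⟨1 * B w f + b * 1 - (1 * B w' f + b' * 1), by
    linear_combination (norm := module) -e⟩

theorem isE_RR {u w : M} {b : E} {g : sIsom B} (hg : IsE B 1 u w b g) (hw : w ∈ E ∙ u) :
    g ∈ RR B u := mem_VW.2 fun x => by
  rw [hg, add_sub_right_comm, add_sub_right_comm, sub_right_comm, sub_self]
  exact add_mem (sub_mem (zero_mem _) (Submodule.smul_mem _ _ (Submodule.mem_span_singleton_self u)))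
    (Submodule.smul_mem _ _ hw)

theorem RR_isE (h : Mo B) {u w : M} (hu : B u u = 0) (u0 : u ≠ 0) {b : E} {g : sIsom B}
    (hg : IsE B 1 u w b g) (hr : g ∈ RR B u) : w ∈ E ∙ u := by
  obtain ⟨c, hc, rfl⟩ := (h.mem_RR hu).1 hr
  simpa using isE_sub h hu u0 hg (isT_iff_isE.1 (h.isT hu hc))

theorem Q_isE (h : Mo B) {u : M} (hu : B u u = 0) (u0 : u ≠ 0) {g : sIsom B}
    (hg : g ∈ QW B (E ∙ u)) : ∃ w b, B u w = 0 ∧ b + σ b = B w w ∧ IsE B 1 u w b g := by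
  obtain ⟨f, hf, huf⟩ := h.cls.exists_hyperbolic u0 hu
  obtain ⟨w, hw, b, hb, e⟩ := (mem_Q1 h.toHerm hu hf huf).1 hg
  exact ⟨w, b, (mem_hypU.1 hw).1, hb, e⟩

theorem not_Q (h : Mo B) {u : M} {g : sIsom B} (hg : g ∈ Fx B (E ∙ u)) (hn : g ∉ QW B (E ∙ u)) :
    ∃ w, B u w = 0 ∧ lin g w + w ∉ E ∙ u := by
  by_contra! e
  exact hn ⟨hg, fun x hx => h.vsub _ _ ▸ e x (mem_orth_span_singleton.1 hx)⟩

theorem all_T (h : Mo B) {u x : M} (hu : B u u = 0) (hx : B u x = 0) (hn : x ∉ E ∙ u) {b : E}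
    {g : sIsom B} (hg : IsE B 1 u x b g) {c : E} (hc : σ c = c) :
    ∃ k ∈ QW B (E ∙ u), ⁅g, k⁆ = tT B u c := by
  obtain ⟨y, h1, h2⟩ := h.cls.exists_orth_eq_one hn
  obtain ⟨l, hl⟩ := h.exists_tr hc
  have h3 : B u (l • y) = 0 := by simp [h1]
  obtain ⟨b', k, hb', hk, hQ⟩ := exists_E h hu h3
  exact ⟨k, hQ, by rw [comm_EE h hu h3 hx hb' hk hg, map_smul, h2, smul_eq_mul, mul_one, hl]⟩

theorem comm_mem {G : Type*} [Group G] {N : Subgroup G} {y k : G} (hy : y ∈ N) (hk : k ∈ Ns N) :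
    ⁅y, k⁆ ∈ N := by
  rw [commutatorElement_def, mul_assoc, mul_assoc, ← mul_assoc k]
  exact mul_mem hy ((mem_normalizer_iff.1 hk _).1 (inv_mem hy))

theorem card_idx {G ι : Type*} [Group G] [Finite G] {U : Subgroup G} {v : G} (k : ι → G)
    (hk : ∀ i, k i ∈ U) (hi : Function.Injective fun i => ⁅v, k i⁆) :
    Nat.card ι * Nat.card ↥(U ⊓ C1 v) ≤ Nat.card U := by
  rw [← card_mul_relIndex (inf_le_left : U ⊓ C1 v ≤ U), mul_comm]
  refine Nat.mul_le_mul_left _ (Nat.card_le_card_of_injective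
    (fun i => ((⟨k i, hk i⟩ : U) : U ⧸ (U ⊓ C1 v).subgroupOf U)) fun i j e => hi ?_)
  have h1 : Commute ((k i)⁻¹ * k j) v := mem_C1.1 (QuotientGroup.eq.1 e).2
  simp only [commutatorElement_def]
  calc _ = v * k i * (v⁻¹ * ((k i)⁻¹ * k j)) * (k j)⁻¹ := by group
    _ = _ := by rw [← h1.inv_right.eq]; group

end SYL

open SYL

variable {U : Subgroup (sIsom B)} {W : Submodule E M} {u : M} {γ : (E ≃+* E) →* MulAut (sIsom B)}

theorem Fr.iso (k : Fr B U W u γ) : B u u = 0 := k.mx.ti u k.mem u k.mem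

theorem Fr.V_le (h : Mo B) (k : Fr B U W u γ) : VW B W ≤ U :=
  (h.VW_le_QW k.mx.ti).trans (h.Q_le_syl k.syl k.mx.ti k.st)

theorem Fr.Q_le (h : Mo B) (k : Fr B U W u γ) : QW B (E ∙ u) ≤ U :=
  h.Q_le_syl k.syl (ti1 k.iso) (k.fx.trans Fx_le_St)

theorem Fr.R_le (h : Mo B) (k : Fr B U W u γ) : RR B u ≤ VW B W ⊓ Cs U :=
  le_inf (VW_mono ((Submodule.span_singleton_le_iff_mem u W).2 k.mem)) fun r hr =>
    mem_Cs.2 fun _ hg => (mem_Cs.1 (h.Fx_le_Cs (k.fx hg)) r hr).symm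

theorem Fr.card_V (h : Mo B) (k : Fr B U W u γ) : Nat.card (VW B W) = qn σ ^ (kk E M ^ 2) := by
  rw [h.card_VW k.mx.ti, k.mx.dim]

theorem Fr.nrm (h : Mo B) (k : Fr B U W u γ) {N : Subgroup (sIsom B)} (h1 : N ≤ U)
    (h2 : U ≤ Ns N) : N ≤ RR B u ∨ RR B u ≤ N := by
  refine or_iff_not_imp_left.2 fun hn r hr => ?_
  obtain ⟨y, hy, hy'⟩ := SetLike.not_le_iff_exists.1 hn
  obtain ⟨g, hg, x, b, hx, hx', e⟩ : ∃ g ∈ N, ∃ x b, B u x = 0 ∧ x ∉ E ∙ u ∧ IsE B 1 u x b g := by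
    by_cases hQ : y ∈ QW B (E ∙ u)
    · obtain ⟨x, b, hx, -, e⟩ := Q_isE h k.iso k.ne hQ
      exact ⟨y, hy, x, b, hx, fun hx' => hy' (isE_RR e hx'), e⟩
    · obtain ⟨w, hw, hw'⟩ := not_Q h (k.fx (h1 hy)) hQ
      obtain ⟨b, g, hb, hg, hg'⟩ := exists_E h k.iso hw
      have e := mem_Fx1.1 (k.fx (h1 hy))
      exact ⟨_, comm_mem hy (h2 (k.Q_le h hg')), _, _,
        by rw [map_add, hw, add_zero, ← e, lin_isom, hw], hw', comm_E h k.iso hw hb hg e⟩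
  obtain ⟨c, hc, rfl⟩ := (h.mem_RR k.iso).1 hr
  obtain ⟨s, hs, e'⟩ := all_T h k.iso hx hx' e hc
  exact e' ▸ comm_mem hg (h2 (k.Q_le h hs))

theorem Fr.idx (h : Mo B) (k : Fr B U W u γ) {v : sIsom B} (hv : v ∈ U) (hn : v ∉ RR B u) :
    qn σ * Nat.card ↥(U ⊓ C1 v) ≤ Nat.card U := by
  by_cases hQ : v ∈ QW B (E ∙ u)
  · obtain ⟨x, b, hx, -, e⟩ := Q_isE h k.iso k.ne hQ
    choose s hs e' using fun c : {a : E // σ a = a} =>
      all_T h k.iso hx (fun hx' => hn (isE_RR e hx')) e c.2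
    refine card_idx s (fun c => k.Q_le h (hs c)) fun c d e => ?_
    simp only [e'] at e
    exact Subtype.ext (h.tT_inj k.iso k.ne c.2 d.2 e)
  · obtain ⟨w, hw, hw'⟩ := not_Q h (k.fx hv) hQ
    have h1 : ∀ c : E, B u (c • w) = 0 := fun c => by simp [hw]
    choose b s hb hs hs' using fun c : {a : E // σ a = a} => exists_E h k.iso (h1 c)
    refine card_idx s (fun c => k.Q_le h (hs' c)) fun c d e => Subtype.ext (by_contra fun hcd => ?_)
    have e1 := comm_E h k.iso (h1 c) (hb c) (hs c) (mem_Fx1.1 (k.fx hv))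
    rw [show ⁅v, s c⁆ = ⁅v, s d⁆ from e] at e1
    have := isE_sub h k.iso k.ne e1 (comm_E h k.iso (h1 d) (hb d) (hs d) (mem_Fx1.1 (k.fx hv)))
    rw [map_smul, map_smul, ← smul_add, ← smul_add, ← sub_smul,
      Submodule.smul_mem_iff _ (sub_ne_zero.2 hcd)] at this
    exact hw' this

theorem Fr.zU (h : Mo B) (k : Fr B U W u γ) : U ⊓ Cs U ≤ RR B u := fun v hv => by_contra fun hn => by
  have h1 := k.idx h hv.1 hn
  rw [inf_eq_left.2 fun g hg => mem_C1.2 (mem_Cs.1 hv.2 g hg)] at h1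
  have h2 := h.two_le
  have h3 : 0 < Nat.card U := Nat.card_pos
  nlinarith

theorem Fr.conj_into (h : Mo B) (k : Fr B U W u γ) {S : Subgroup (MulAut (sIsom B))}
    (hS : IsPGroup 2 S) : ∃ β : MulAut (sIsom B), ∀ α ∈ S, ∃ l ∈ U, ∃ τ,
      β⁻¹ * α * β = MulAut.conj l * γ τ := by
  have : Finite (E ≃+* E) := Known.finite_ringAut
  obtain ⟨T, hT⟩ := exists_isSylowIn (p := 2) (⊤ : Subgroup (E ≃+* E))
  have h1 : T.map γ ≤ Ns (U.map MulAut.conj) := by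
    rintro _ ⟨τ, hτ, rfl⟩
    rw [mem_Ns_iff]
    conv_rhs => rw [← k.γU τ (Tw.of_mem hT.isPGroup hτ)]
    rw [cj, map_map, map_map]
    refine congrArg U.map (MonoidHom.ext fun g => MulEquiv.ext fun x => ?_)
    simp
  have h2 : IsSylowIn 2 (U.map MulAut.conj ⊔ T.map γ) ⊤ := by
    refine isSylowIn_of_maximal le_top ((k.syl.isPGroup.map _).to_sup_of_normal_left'
      (hT.isPGroup.map _) h1)
      fun Y hY h3 _ α hα => ?_
    have h4 : fa α ∈ T := by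
      obtain ⟨j, hj⟩ := Tw.of_mem hY hα
      refine hT.le_of_normal (Tw.isPGroup ⟨j, by rw [← h.fa_pow, hj, h.fa_one]⟩) le_top
        (fun τ _ => Cs_le_Ns (mem_Cs.2 fun ρ _ => aut_comm ρ τ)) (mem_zpowers _)
    have h5 : γ (fa α) ∈ U.map MulAut.conj ⊔ T.map γ := mem_sup_right ⟨_, h4, rfl⟩
    have h6 := mul_mem hα (inv_mem (h3 h5))
    obtain ⟨l, -, e⟩ := h.lin_two (by rw [h.fa_mul, h.fa_inv, k.faγ, mul_inv_cancel])
      (Tw.of_mem hY h6)
    have h7 := ((k.syl.mono (K := Y.comap MulAut.conj) (map_le_iff_le_comap.1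
      (le_sup_left.trans h3)) le_top).map MulAut.conj)
    have h8 := h7.eq_of_le (hY.to_le (map_comap_le _ _)) h7.le le_rfl
    refine (mul_mem_cancel_right (inv_mem h5)).1 (mem_sup_left ?_)
    rw [← h8, e]
    exact ⟨l, by rwa [SetLike.mem_coe, mem_comap, ← e], rfl⟩
  obtain ⟨x, -, hx⟩ := h2.exists_cj_le hS le_top
  refine ⟨x⁻¹, fun α hα => ?_⟩
  have h3 := hx ⟨α, hα, rfl⟩
  rw [← SetLike.mem_coe, coe_mul_of_right_le_normalizer_left _ _ h1] at h3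
  obtain ⟨_, ⟨l, hl, rfl⟩, _, ⟨τ, -, rfl⟩, e⟩ := h3
  exact ⟨l, hl, τ, by rw [inv_inv]; exact e.symm⟩

end Cfsg.Lib.UM
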