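import Cfsg.Agent.UM.Defs
import Cfsg.Agent.Known.FinFieldAut

/-!
# Standard subgroups of type `U_m(2ⁿ)`: the field
-/

set_option autoImplicit false
set_option linter.unusedSectionVars false

namespace Cfsg.Lib.UM

open Subgroup Module Cfsg.Lib.Trans Cfsg.Lib.Gold Cfsg.Lib.Class.Form Cfsg.Lib.Class.FAut
open scoped commutatorElement

variable {E M : Type*} [Field E] [Finite E] [AddCommGroup M] [Module E M] [FiniteDimensional E M]
  {σ : E →+* E} {B : M →ₛₗ[σ] M →ₗ[E] E}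

instance finL : Finite (sIsom B) := finite_sIsom B

theorem Mo.cls (h : Mo B) : Cls B 1 := ⟨h.toGood, Or.inl ⟨h.ne_id, rfl⟩⟩

theorem Mo.ss (h : Mo B) (a : E) : σ (σ a) = a := h.invol a

theorem Mo.swap (h : Mo B) {u w : M} (e : B u w = 0) : B w u = 0 := h.cls.comm e

theorem Mo.add_self (h : Mo B) (a : E) : a + a = 0 := by linear_combination a * h.two

theorem Mo.vadd_self (h : Mo B) (x : M) : x + x = 0 := by
  rw [← two_smul E x, h.two, zero_smul]

theorem Mo.sq_inj (h : Mo B) {a b : E} (e : a * a = b * b) : a = b :=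
  sub_eq_zero.1 (pow_eq_zero_iff two_ne_zero |>.1 (by
    linear_combination e + (b ^ 2 - a * b) * h.two : (a - b) ^ 2 = 0))

theorem Mo.exists_sq (h : Mo B) (a : E) : ∃ b, b * b = a :=
  Finite.surjective_of_injective (f := fun c : E => c * c) (fun _ _ => h.sq_inj) a

theorem Mo.sg_apply (h : Mo B) (a : E) : sg σ a = σ a := by
  have hb : Function.Bijective σ := Function.Involutive.bijective h.ss
  rw [sg, dif_pos hb]
  rfl

theorem Mo.sg_ne (h : Mo B) : sg σ ≠ 1 := fun e =>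
  h.ne_id (RingHom.ext fun a => by rw [← h.sg_apply, e]; rfl)

theorem Mo.sg_sq (h : Mo B) : sg σ * sg σ = 1 := RingEquiv.ext fun a => by
  change sg σ (sg σ a) = a
  rw [h.sg_apply, h.sg_apply, h.ss]

theorem aut_comm (τ τ' : E ≃+* E) : τ * τ' = τ' * τ := Known.ringAut_mul_comm τ τ'

theorem Mo.aut_σ (h : Mo B) (τ : E ≃+* E) (a : E) : τ (σ a) = σ (τ a) := by
  rw [← h.sg_apply, ← h.sg_apply]
  exact RingEquiv.congr_fun (aut_comm τ (sg σ)) a

theorem Mo.aut_inv (h : Mo B) {τ : E ≃+* E} (e : τ * τ = 1) : τ = 1 ∨ τ = sg σ :=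
  or_iff_not_imp_left.2 fun h1 =>
    Known.ringAut_eq_of_orderOf_eq_two (orderOf_eq_prime (by rw [pow_two, e]) h1)
      (orderOf_eq_prime (by rw [pow_two, h.sg_sq]) h.sg_ne)

theorem Mo.card_E (h : Mo B) : Nat.card E = qn σ ^ 2 := by
  have := Fintype.ofFinite E
  obtain ⟨q, hF, hq⟩ := exists_card_eq_sq h.ne_id h.ss
  have e : qn σ = q := by
    rw [← card_pow_eq_self hF, qn]
    simp only [hq]
  rw [e, Nat.card_eq_fintype_card, hF]

theorem Mo.two_le (h : Mo B) : 2 ≤ qn σ := by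
  have h1 : 1 < Nat.card E := Finite.one_lt_card
  rw [h.card_E] at h1
  by_contra h2
  have : qn σ ^ 2 ≤ 1 ^ 2 := Nat.pow_le_pow_left (by omega) 2
  omega

theorem Mo.q_pow (h : Mo B) : ∃ n, 1 ≤ n ∧ qn σ = 2 ^ n := by
  have := Fintype.ofFinite E
  have : CharP E 2 := CharTwo.of_one_ne_zero_of_two_eq_zero one_ne_zero h.two
  obtain ⟨n, -, hn⟩ := FiniteField.card E 2
  rw [← Nat.card_eq_fintype_card, h.card_E] at hn
  obtain ⟨k, -, hk⟩ := (Nat.dvd_prime_pow Nat.prime_two).1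
    ((dvd_pow_self (qn σ) two_ne_zero).trans (dvd_of_eq hn))
  refine ⟨k, Nat.one_le_iff_ne_zero.2 ?_, hk⟩
  rintro rfl
  have := h.two_le
  omega

theorem Mo.three_le (h : Mo B) : 3 ≤ kk E M := by
  have := h.six
  unfold kk
  omega

theorem Mo.exists_tr (h : Mo B) {c : E} (hc : σ c = c) : ∃ a, a + σ a = c :=
  h.toHerm.exists_trace_eq hc

theorem Mo.exists_nm (h : Mo B) {c : E} (hc : σ c = c) : ∃ a, σ a * a = c :=
  h.toHerm.exists_norm_eq hc

theorem Mo.exists_unit (h : Mo B) : ∃ a : E, σ a * a = 1 ∧ a ≠ 1 := by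
  obtain ⟨a, h1, h2⟩ := exists_normOne_ne_one h.ne_id h.ss
  exact ⟨a, h1, fun e => h2 (by rw [e, map_one])⟩

theorem Mo.odd_pow (h : Mo B) {a : E} (ha : a ≠ 0) : ∃ n, Odd n ∧ a ^ n = 1 := by
  have := Fintype.ofFinite E
  refine ⟨Fintype.card E - 1, ?_, FiniteField.pow_card_sub_one_eq_one a ha⟩
  obtain ⟨n, h1, hn⟩ := h.q_pow
  rw [← Nat.card_eq_fintype_card, h.card_E, hn, ← pow_mul]
  exact Nat.Even.sub_odd Nat.one_le_two_pow (Nat.even_pow.2 ⟨even_two, by omega⟩) odd_one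

theorem Mo.subring_top (h : Mo B) (S : Subring E) (hF : ∀ c, σ c = c → c ∈ S) {a : E} (ha : a ∈ S)
    (hn : σ a ≠ a) : S = ⊤ := by
  refine eq_top_iff.2 fun e _ => ?_
  have h0 : a + σ a ≠ 0 := fun k => hn (by linear_combination k - a * h.two)
  obtain ⟨d, hd⟩ : ∃ d, d * (a + σ a) = e + σ e := ⟨_, div_mul_cancel₀ _ h0⟩
  have h1 : σ d = d := by
    have k := congrArg σ hd
    rw [map_mul, map_add, map_add, h.ss, h.ss] at k
    exact mul_right_cancel₀ h0 (by linear_combination k - hd)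
  have h2 : σ (e - d * a) = e - d * a := by
    rw [map_sub, map_mul, h1]
    linear_combination -hd + (d * a - e) * h.two
  have := S.add_mem (hF _ h2) (S.mul_mem (hF _ h1) ha)
  rwa [sub_add_cancel] at this

namespace K0

/-- The fixed field as an additive group. -/
def Fa (σ : E →+* E) : AddSubgroup E where
  carrier := {a | σ a = a}
  zero_mem' := map_zero σ
  add_mem' {a b} ha hb := by rw [Set.mem_ofPred_eq, map_add, ha, hb]
  neg_mem' {a} ha := by rw [Set.mem_ofPred_eq, map_neg, ha]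

theorem Fa_eq_1' : type_of% @Fa.eq_1 := @Fa.eq_1

end K0

theorem Mo.exists_root (h : Mo B) {β : E} (hβ : σ β = β) :
    ∃ γ : E, γ * γ + γ = β ∧ (σ γ = γ ∨ σ γ = γ + 1) := by
  let P : K0.Fa σ →+ K0.Fa σ := AddMonoidHom.mk'
    (fun c => ⟨c.1 * c.1 + c.1, by
      change σ _ = _
      rw [map_add, map_mul, show σ c.1 = c.1 from c.2]⟩)
    fun a b => Subtype.ext (by
      change (a.1 + b.1) * (a.1 + b.1) + (a.1 + b.1) = a.1 * a.1 + a.1 + (b.1 * b.1 + b.1)
      linear_combination (a.1 * b.1) * h.two)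
  have hP : ∀ c, (P c).1 = c.1 * c.1 + c.1 := fun _ => rfl
  have h01 : ∀ x : E, x * x + x = 0 → x = 0 ∨ x = 1 := fun x e =>
    (mul_eq_zero.1 (by linear_combination e - x * h.two : x * (x - 1) = 0)).imp_right sub_eq_zero.1
  have hk : P.range.index = 2 := by
    rw [AddSubgroup.index_range, Nat.card_eq_two_iff]
    refine ⟨0, ⟨⟨1, map_one σ⟩, Subtype.ext (by rw [hP]; simpa using h.add_self 1)⟩, fun e => ?_,
      Set.eq_univ_of_forall fun x => ?_⟩
    · exact zero_ne_one (congrArg (fun x => x.1.1) e)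
    · exact (h01 x.1.1 ((hP _).symm.trans (congrArg Subtype.val x.2))).imp
        (fun e => Subtype.ext (Subtype.ext e)) fun e => Subtype.ext (Subtype.ext e)
  obtain ⟨ω, hω⟩ := h.exists_tr (map_one σ)
  have h1 : σ ω = ω + 1 := by linear_combination hω - ω * h.two
  have h2 : σ (ω * ω + ω) = ω * ω + ω := by
    rw [map_add, map_mul, h1]
    linear_combination (ω + 1) * h.two
  by_cases hb : (⟨β, hβ⟩ : K0.Fa σ) ∈ P.range
  · obtain ⟨c, hc⟩ := hb
    exact ⟨c, congrArg Subtype.val hc, Or.inl c.2⟩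
  have h3 : (⟨_, h2⟩ : K0.Fa σ) ∉ P.range := by
    rintro ⟨c, hc⟩
    have e : c.1 * c.1 + c.1 = ω * ω + ω := congrArg Subtype.val hc
    have hc2 : σ c.1 = c.1 := c.2
    have k : σ (ω + c.1) = ω + c.1 := by
      rcases h01 (ω + c.1) (by linear_combination e + (ω * ω + ω + ω * c.1) * h.two) with k | k <;>
        rw [k]
      exacts [map_zero σ, map_one σ]
    rw [map_add, h1, hc2] at k
    exact one_ne_zero (by linear_combination k)
  obtain ⟨c, hc⟩ := (AddSubgroup.add_mem_iff_of_index_two hk).2 (iff_of_false hb h3)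
  have e : c.1 * c.1 + c.1 = β + (ω * ω + ω) := congrArg Subtype.val hc
  refine ⟨ω + c.1, by linear_combination e + (ω * ω + ω + ω * c.1) * h.two, Or.inr ?_⟩
  rw [map_add, h1, show σ c.1 = c.1 from c.2]
  ring

theorem Mo.q_cases (h : Mo B) : (∃ c : E, σ c = c ∧ c ≠ 0 ∧ c ≠ 1) ∨
    (qn σ = 2 ∧ 7 ≤ finrank E M ∧ ∀ c : E, σ c = c → c = 0 ∨ c = 1) := by
  refine or_iff_not_imp_left.2 fun k => ?_
  have k' : ∀ c : E, σ c = c → c = 0 ∨ c = 1 := fun c hc => by
    by_contra! e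
    exact k ⟨c, hc, e⟩
  refine ⟨?_, ?_, k'⟩
  · rw [qn, Nat.card_eq_two_iff]
    exact ⟨⟨0, map_zero σ⟩, ⟨1, map_one σ⟩, fun e => zero_ne_one (congrArg Subtype.val e),
      Set.eq_univ_of_forall fun x => (k' x.1 x.2).imp Subtype.ext Subtype.ext⟩
  · have := h.six
    have : finrank E M ≠ 6 := fun e => k (h.ex e)
    omega

end Cfsg.Lib.UM
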