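import Cfsg.Agent.UM.A1

/-!
# Standard subgroups of type `U_m(2ⁿ)`: Galois descent
-/

set_option autoImplicit false
set_option linter.unusedSectionVars false

namespace Cfsg.Lib.UM

open Subgroup Module Cfsg.Lib.Trans Cfsg.Lib.Gold Cfsg.Lib.Class.Form Cfsg.Lib.Class.FAut
open scoped commutatorElement

variable {E M : Type*} [Field E] [Finite E] [AddCommGroup M] [Module E M] [FiniteDimensional E M]
  {σ : E →+* E} {B : M →ₛₗ[σ] M →ₗ[E] E}

theorem DS.fin (K : Type*) [Field K] [Finite K] : Finite (K ≃+* K) :=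
  Finite.of_injective _ DFunLike.coe_injective

theorem DS.pow_fix {K : Type*} [Field K] {τ : K ≃+* K} {a : K} (e : τ a = a) (n : ℕ) :
    (τ ^ n) a = a := by
  induction n with
  | zero => rfl
  | succ n ih => rw [pow_succ, RingAut.mul_apply, e, ih]

theorem DS.zpow_fix {K : Type*} [Field K] [Finite K] {τ ρ : K ≃+* K} {a : K} (e : τ a = a)
    (h : ρ ∈ zpowers τ) : ρ a = a := by
  have := DS.fin K
  obtain ⟨n, rfl⟩ := mem_powers_iff_mem_zpowers.2 h
  exact DS.pow_fix e n

theorem descent {K : Type*} [Field K] [Finite K] {N : Type*} [AddCommGroup N] [Module K N]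
    [FiniteDimensional K N] (τ : K ≃+* K) (Γ : N ≃+ N) (h1 : ∀ a x, Γ (a • x) = τ a • Γ x)
    (h2 : ∀ x, Γ^[orderOf τ] x = x) : ∃ b : Basis (Fin (finrank K N)) K N, ∀ i, Γ (b i) = b i := by
  have := DS.fin K
  have hs : ⊤ ≤ Submodule.span K {x | Γ x = x} := by
    by_contra c
    obtain ⟨l, l0, hl⟩ := Submodule.exists_le_ker_of_lt_top _ (lt_top_iff_ne_top.2 fun e => c e.ge)
    refine l0 (LinearMap.ext fun x => ?_)
    have e1 : ∀ n (a : K), Γ^[n] (a • x) = (τ ^ n) a • Γ^[n] x := fun n a => by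
      induction n with
      | zero => rfl
      | succ n ih => rw [Function.iterate_succ_apply', Function.iterate_succ_apply', ih, h1,
          pow_succ', RingAut.mul_apply]
    have e2 : ∀ y, Γ (∑ i ∈ Finset.range (orderOf τ), Γ^[i] y) =
        ∑ i ∈ Finset.range (orderOf τ), Γ^[i] y := fun y => by
      have := Finset.sum_range_succ' (fun i => Γ^[i] y) (orderOf τ)
      rw [Finset.sum_range_succ, h2, Function.iterate_zero_apply, add_left_inj] at this
      rw [map_sum]
      simp only [← Function.iterate_succ_apply' Γ]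
      exact this.symm
    have li := (linearIndependent_monoidHom K K).comp
      (fun i : Fin (orderOf τ) => ((τ ^ (i : ℕ) : K ≃+* K) : K →* K)) fun i j e =>
        Fin.ext (pow_injOn_Iio_orderOf i.2 j.2 (RingEquiv.ext fun a => DFunLike.congr_fun e a))
    refine Fintype.linearIndependent_iff.1 li (fun i => l (Γ^[i] x)) (funext fun a => ?_)
      ⟨0, orderOf_pos τ⟩
    have := hl (Submodule.subset_span (e2 (a • x)))
    rw [LinearMap.mem_ker, map_sum, Finset.sum_range] at this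
    simpa [e1, mul_comm] using this
  let b := Basis.ofSpan hs
  refine ⟨b.reindex (b.indexEquiv (finBasis K N)), fun i => ?_⟩
  rw [Basis.reindex_apply]
  exact Basis.ofSpan_subset hs ⟨_, rfl⟩

theorem Semi.pow {α : MulAut (sIsom B)} {Γ : M ≃+ M} {τ : E ≃+* E} (k : Semi α Γ τ) (n : ℕ) :
    ∃ Δ, Semi (α ^ n) Δ (τ ^ n) ∧ ∀ x, Δ x = Γ^[n] x := by
  induction n with
  | zero => exact ⟨AddEquiv.refl M, ⟨fun _ _ => rfl, fun _ _ => rfl, fun _ _ => rfl⟩, fun _ => rfl⟩
  | succ n ih =>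
    obtain ⟨Δ, h1, h2⟩ := ih
    exact ⟨_, by rw [pow_succ, pow_succ]; exact h1.mul k, fun x => h2 _⟩

theorem Mo.semi_pow (h : Mo B) {α : MulAut (sIsom B)} (h1 : α ^ orderOf (fa α) = 1)
    (h2 : sg σ ∈ zpowers (fa α)) : ∃ Γ, Semi α Γ (fa α) ∧ ∀ x, Γ^[orderOf (fa α)] x = x := by
  obtain ⟨Γ, k⟩ := h.semi α
  obtain ⟨Δ, k1, k2⟩ := k.pow (orderOf (fa α))
  rw [h1] at k1
  obtain ⟨-, a, a1, a2⟩ := k1.scalar h
  obtain ⟨u, u0, -⟩ := h.cls.exists_iso (le_trans (by norm_num) h.six)
  have e1 : fa α a = a := by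
    have := Function.Commute.iterate_right (Function.Commute.refl Γ) (orderOf (fa α)) u
    rw [← k2, ← k2, a2, a2, k.smul] at this
    exact smul_left_injective E (fun e => u0 (Γ.map_eq_zero_iff.1 e)) this
  have e2 := DS.zpow_fix e1 h2
  rw [h.sg_apply] at e2
  refine ⟨Γ, k, fun x => ?_⟩
  rw [← k2, a2, h.sq_inj (a := a) (b := 1) (by rw [mul_one, ← a1, e2]), one_smul]

theorem card_fixed {K : Type*} [Field K] [Finite K] (τ : K ≃+* K) :
    Nat.card {a : K // τ a = a} ^ orderOf τ = Nat.card K := by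
  have := DS.fin K
  have := Fintype.ofFinite (zpowers τ)
  rw [Module.natCard_eq_pow_finrank (K := FixedPoints.subfield (zpowers τ) K) (V := K),
    FixedPoints.finrank_eq_card, ← Nat.card_eq_fintype_card, Nat.card_zpowers]
  congr 1
  exact Nat.card_congr (Equiv.subtypeEquivRight fun a =>
    ⟨fun e g => DS.zpow_fix e g.2, fun e => e ⟨τ, mem_zpowers τ⟩⟩)

end Cfsg.Lib.UM
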