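import Cfsg.Agent.UM.K0

/-!
# Standard subgroups of type `U_m(2ⁿ)`: root elements
-/

set_option autoImplicit false
set_option linter.unusedSectionVars false

namespace Cfsg.Lib.UM

open Subgroup Module Cfsg.Lib.Trans Cfsg.Lib.Gold Cfsg.Lib.Class.Form Cfsg.Lib.Class.FAut
open Cfsg.Lib.Comp (Tw)
open scoped commutatorElement

variable {E M : Type*} [Field E] [Finite E] [AddCommGroup M] [Module E M] [FiniteDimensional E M]
  {σ : E →+* E} {B : M →ₛₗ[σ] M →ₗ[E] E}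

theorem I2.symm (h : Mo B) {u w : M} (k : I2 B u w) : I2 B w u := ⟨k.ww, k.uu, h.swap k.uw⟩

theorem I2.self {u : M} (hu : B u u = 0) : I2 B u u := ⟨hu, hu, hu⟩

theorem I2.smul {u w : M} (k : I2 B u w) (a b : E) : I2 B (a • u) (b • w) :=
  ⟨by simp [k.uu], by simp [k.ww], by simp [k.uw]⟩

theorem I2.lin {u w : M} (k : I2 B u w) (g : sIsom B) : I2 B (lin g u) (lin g w) :=
  ⟨(lin_isom ..).trans k.uu, (lin_isom ..).trans k.ww, (lin_isom ..).trans k.uw⟩

theorem I2.add (h : Mo B) {u w : M} (k : I2 B u w) : B (u + w) (u + w) = 0 := by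
  simp [k.uu, k.ww, k.uw, h.swap k.uw]

theorem I2.of_ti {W : Submodule E M} (hW : TotIso B W) {u w : M} (hu : u ∈ W) (hw : w ∈ W) :
    I2 B u w := ⟨hW u hu u hu, hW w hw w hw, hW u hu w hw⟩

theorem I3.of_ti {W : Submodule E M} (hW : TotIso B W) {u w x : M} (hu : u ∈ W) (hw : w ∈ W)
    (hx : x ∈ W) : I3 B u w x :=
  ⟨I2.of_ti hW hu hw, hW x hx x hx, hW u hu x hx, hW w hw x hx⟩

theorem K1.ti_span (h : Mo B) {s : Set M} (k : ∀ a ∈ s, ∀ b ∈ s, B a b = 0) :
    TotIso B (Submodule.span E s) := fun u hu v hv =>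
  mem_orth_span.2 (fun a ha => h.swap (mem_orth_span.2 (fun b hb => k b hb a ha) v hv)) u hu

theorem I2.ti (h : Mo B) {u w : M} (k : I2 B u w) : TotIso B (Submodule.span E {u, w}) :=
  K1.ti_span h (by simp [k.uu, k.ww, k.uw, h.swap k.uw])

theorem I3.ti (h : Mo B) {u w x : M} (k : I3 B u w x) : TotIso B (Submodule.span E {u, w, x}) :=
  K1.ti_span h (by
    simp [k.uu, k.ww, k.uw, h.swap k.uw, k.xx, k.ux, k.wx, h.swap k.ux, h.swap k.wx])

theorem ti1 {u : M} (hu : B u u = 0) : TotIso B (E ∙ u) := fun a ha b hb => by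
  obtain ⟨c, rfl⟩ := Submodule.mem_span_singleton.1 ha
  obtain ⟨d, rfl⟩ := Submodule.mem_span_singleton.1 hb
  simp [hu]

theorem K1.tT_eq {u : M} {c : E} {g : sIsom B} (hg : IsT B u c g) : tT B u c = g := by
  have e : ∃ g, IsT B u c g := ⟨g, hg⟩
  rw [tT, dif_pos e]
  exact e.choose_spec.unique hg

theorem K1.tE_eq {u w : M} {g : sIsom B} (hg : IsE B 1 u w 0 g) : tE B u w = g := by
  have e : ∃ g, IsE B 1 u w 0 g := ⟨g, hg⟩
  rw [tE, dif_pos e]
  exact e.choose_spec.unique hg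

theorem Mo.vsub (h : Mo B) (x y : M) : x - y = x + y := by
  rw [sub_eq_add_neg, neg_eq_of_add_eq_zero_left (h.vadd_self y)]

theorem Mo.isT (h : Mo B) {u : M} (hu : B u u = 0) {c : E} (hc : σ c = c) :
    IsT B u c (tT B u c) := by
  obtain ⟨g, hg⟩ := h.cls.exists_isT hu (c := c) (by rw [hc, one_mul, h.add_self])
  rwa [K1.tT_eq hg]

theorem Mo.isE (h : Mo B) {u w : M} (k : I2 B u w) : IsE B 1 u w 0 (tE B u w) := by
  obtain ⟨g, hg⟩ := h.cls.exists_isE k.uu k.uw (b := 0) (by simp [k.ww])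
  rwa [K1.tE_eq hg]

theorem Mo.lin_tT (h : Mo B) {u : M} (hu : B u u = 0) {c : E} (hc : σ c = c) (x : M) :
    lin (tT B u c) x = x + (c * B u x) • u := h.isT hu hc x

theorem Mo.lin_tE (h : Mo B) {u w : M} (k : I2 B u w) (x : M) :
    lin (tE B u w) x = x + B u x • w + B w x • u := by
  rw [h.isE k x, h.vsub]
  simp

theorem Mo.tT_zero (h : Mo B) (u : M) : tT B u 0 = 1 := (fun _ => K1.tT_eq (isT_one u)) h

theorem Mo.tT_zero' (h : Mo B) (c : E) : tT B 0 c = 1 := (fun _ => K1.tT_eq fun x => by simp) h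

theorem Mo.tE_zero (h : Mo B) (u : M) : tE B u 0 = 1 := (fun _ => K1.tE_eq fun x => by simp) h

theorem Mo.tE_zero' (h : Mo B) (w : M) : tE B 0 w = 1 := (fun _ => K1.tE_eq fun x => by simp) h

theorem Mo.tT_add (h : Mo B) {u : M} (hu : B u u = 0) {c d : E} (hc : σ c = c) (hd : σ d = d) :
    tT B u (c + d) = tT B u c * tT B u d := K1.tT_eq ((h.isT hu hc).mul hu (h.isT hu hd))

theorem Mo.tT_smul (h : Mo B) {u : M} (hu : B u u = 0) (a : E) {c : E} (hc : σ c = c) :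
    tT B (a • u) c = tT B u (σ a * a * c) := by
  refine (K1.tT_eq ?_).symm
  rw [show σ a * a * c = c * σ a * a by ring]
  exact (h.isT (by simp [hu]) hc).smul

theorem Mo.tT_vadd (h : Mo B) {u w : M} (k : I2 B u w) {c : E} (hc : σ c = c) :
    tT B (u + w) c = tT B u c * tT B w c * tE B u (c • w) := by
  have k' : I2 B u (c • w) := by simpa using k.smul 1 c
  refine lin_ext fun x => ?_
  simp only [lin_mul, h.lin_tT (k.add h) hc, h.lin_tT k.uu hc, h.lin_tT k.ww hc, h.lin_tE k',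
    map_add, map_smulₛₗ, LinearMap.add_apply, LinearMap.smul_apply, smul_eq_mul, RingHom.id_apply,
    k.uu, k.ww, k.uw, h.swap k.uw, hc]
  module

theorem Mo.tT_conj (h : Mo B) (g : sIsom B) {u : M} (hu : B u u = 0) {c : E} (hc : σ c = c) :
    g * tT B u c * g⁻¹ = tT B (lin g u) c := (K1.tT_eq ((h.isT hu hc).conj g)).symm

theorem Mo.tE_conj (h : Mo B) (g : sIsom B) {u w : M} (k : I2 B u w) :
    g * tE B u w * g⁻¹ = tE B (lin g u) (lin g w) := (K1.tE_eq ((h.isE k).conj g)).symm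

theorem Mo.tE_comm (h : Mo B) {u w : M} (k : I2 B u w) : tE B u w = tE B w u :=
  lin_ext fun x => by rw [h.lin_tE k, h.lin_tE (k.symm h), add_right_comm]

theorem Mo.tE_smul (h : Mo B) {u w : M} (k : I2 B u w) (a : E) :
    tE B (a • u) w = tE B u (σ a • w) := by
  have k' : I2 B (a • u) w := by simpa using k.smul a 1
  refine (K1.tE_eq ?_).symm
  simpa using (h.isE k').smul h.ss

theorem Mo.tE_add (h : Mo B) {u w x : M} (k : I3 B u w x) :
    tE B u (w + x) = tE B u w * tE B u x := by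
  refine K1.tE_eq ?_
  simpa [k.wx] using (h.isE k.toI2).mul k.uu (h.swap k.uw) k.ux (h.isE ⟨k.uu, k.xx, k.ux⟩)

theorem Mo.tE_add' (h : Mo B) {u w x : M} (k : I3 B w u x) :
    tE B (u + x) w = tE B u w * tE B x w := by
  have k1 : I2 B w x := ⟨k.uu, k.xx, k.ux⟩
  have k2 : I2 B w (u + x) := ⟨k.uu, I2.add h ⟨k.ww, k.xx, k.wx⟩, by simp [k.uw, k.ux]⟩
  rw [← h.tE_comm k2, ← h.tE_comm k.toI2, ← h.tE_comm k1, h.tE_add k]

theorem Mo.tE_eq (h : Mo B) {u w : M} (k : I2 B u w) :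
    tE B u w = tT B (u + w) 1 * tT B u 1 * tT B w 1 := by
  refine lin_ext fun x => ?_
  simp only [lin_mul, h.lin_tT (k.add h) (map_one σ), h.lin_tT k.uu (map_one σ),
    h.lin_tT k.ww (map_one σ), h.lin_tE k, map_add, map_smul, LinearMap.add_apply, smul_eq_mul,
    k.uu, k.ww, k.uw, h.swap k.uw]
  match_scalars
  · ring
  · linear_combination (-B w x) * h.two
  · linear_combination (-B u x) * h.two

theorem Mo.tE_self (h : Mo B) {u : M} (hu : B u u = 0) (a : E) :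
    tE B (a • u) u = tT B u (a + σ a) := by
  have k : I2 B (a • u) u := by simpa using (I2.self hu).smul a 1
  refine lin_ext fun x => ?_
  rw [h.lin_tE k, h.lin_tT hu (by rw [map_add, h.ss, add_comm])]
  simp only [map_smulₛₗ, LinearMap.smul_apply, smul_eq_mul]
  module

theorem Mo.tT_sq (h : Mo B) {u : M} (hu : B u u = 0) {c : E} (hc : σ c = c) :
    tT B u c * tT B u c = 1 := by rw [← h.tT_add hu hc hc, h.add_self, h.tT_zero]

theorem Mo.tE_sq (h : Mo B) {u w : M} (k : I2 B u w) : tE B u w * tE B u w = 1 := by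
  rw [← h.tE_add ⟨k, k.ww, k.uw, k.ww⟩, h.vadd_self, h.tE_zero]

theorem Mo.tT_inj (h : Mo B) {u : M} (hu : B u u = 0) (u0 : u ≠ 0) {c d : E} (hc : σ c = c)
    (hd : σ d = d) (e : tT B u c = tT B u d) : c = d := by
  obtain ⟨x, hx⟩ := h.exists_ne u0
  have := h.lin_tT hu hc x
  rw [e, h.lin_tT hu hd, add_right_inj] at this
  exact (mul_right_cancel₀ hx (smul_left_injective E u0 this)).symm

theorem Mo.tT_ne (h : Mo B) {u : M} (hu : B u u = 0) (u0 : u ≠ 0) {c : E} (hc : σ c = c)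
    (c0 : c ≠ 0) : tT B u c ≠ 1 := fun e =>
  c0 (h.tT_inj hu u0 hc (map_zero σ) (e.trans (h.tT_zero u).symm))

theorem Mo.tT_dep (h : Mo B) {u w : M} (hu : B u u = 0) (u0 : u ≠ 0) (hw : B w w = 0) {c d : E}
    (hc : σ c = c) (c0 : c ≠ 0) (hd : σ d = d) (e : tT B u c = tT B w d) :
    ∃ a : E, a ≠ 0 ∧ w = a • u ∧ σ a * a * d = c := by
  obtain ⟨x, hx⟩ := h.exists_ne u0
  have e1 := h.lin_tT hu hc x
  rw [e, h.lin_tT hw hd, add_right_inj] at e1
  have h1 : c * B u x ≠ 0 := mul_ne_zero c0 hx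
  have h2 : d * B w x ≠ 0 := fun k => smul_ne_zero h1 u0 (by rw [← e1, k, zero_smul])
  have h3 : w = ((d * B w x)⁻¹ * (c * B u x)) • u := by
    rw [mul_smul, ← e1, smul_smul, inv_mul_cancel₀ h2, one_smul]
  refine ⟨_, mul_ne_zero (inv_ne_zero h2) h1, h3, ?_⟩
  generalize (d * B w x)⁻¹ * (c * B u x) = a at h3
  rw [h3, h.tT_smul hu a hd] at e
  exact (h.tT_inj hu u0 hc (by rw [map_mul, map_mul, h.ss, hd, mul_comm a]) e).symm

theorem Mo.tT_mem (h : Mo B) {W : Submodule E M} {u : M} (hu : B u u = 0) (hW : u ∈ W) {c : E}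
    (hc : σ c = c) : tT B u c ∈ VW B W := mem_VW.2 fun x => by
  rw [h.lin_tT hu hc, add_sub_cancel_left]
  exact W.smul_mem _ hW

theorem Mo.tE_mem (h : Mo B) {W : Submodule E M} {u w : M} (k : I2 B u w) (hu : u ∈ W)
    (hw : w ∈ W) : tE B u w ∈ VW B W := mem_VW.2 fun x => by
  rw [h.lin_tE k, add_assoc, add_sub_cancel_left]
  exact add_mem (W.smul_mem _ hw) (W.smul_mem _ hu)

theorem Mo.tE_mem_Q (h : Mo B) {u w : M} (k : I2 B u w) : tE B u w ∈ QW B (E ∙ u) := by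
  refine mem_QW.2 ⟨mem_Fx1.2 ((h.isE k).apply_self k.uu (h.swap k.uw)), fun x hx => ?_⟩
  rw [h.lin_tE k, mem_orth_span_singleton.1 hx, zero_smul, add_zero, add_sub_cancel_left]
  exact Submodule.smul_mem _ _ (Submodule.mem_span_singleton_self u)

theorem Mo.mem_RR (h : Mo B) {u : M} (hu : B u u = 0) {g : sIsom B} :
    g ∈ RR B u ↔ ∃ c, σ c = c ∧ g = tT B u c := by
  refine ⟨fun hg => ?_, fun ⟨c, hc, e⟩ => e ▸ h.tT_mem hu (Submodule.mem_span_singleton_self u) hc⟩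
  by_cases u0 : u = 0
  · refine ⟨0, map_zero σ, (h.tT_zero u).symm ▸ lin_ext fun x => ?_⟩
    have := mem_VW.1 hg x
    rwa [u0, Submodule.span_zero_singleton, Submodule.mem_bot, sub_eq_zero] at this
  obtain ⟨c, hc⟩ := h.toHerm.exists_eq_of_sub_mem u0 hu (g := g.1) hg
  have := h.cls.coeff_of_isT u0 hu (g := g) hc
  exact ⟨c, by linear_combination this - c * h.two, (K1.tT_eq hc).symm⟩

theorem Mo.card_RR (h : Mo B) {u : M} (hu : B u u = 0) (u0 : u ≠ 0) :
    Nat.card (RR B u) = qn σ := by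
  refine (Nat.card_congr (Equiv.ofBijective (fun c : {a : E // σ a = a} =>
    (⟨tT B u c, (h.mem_RR hu).2 ⟨c, c.2, rfl⟩⟩ : RR B u)) ⟨fun c d e => ?_, fun g => ?_⟩)).symm
  · exact Subtype.ext (h.tT_inj hu u0 c.2 d.2 (congrArg Subtype.val e))
  · obtain ⟨c, hc, e⟩ := (h.mem_RR hu).1 g.2
    exact ⟨⟨c, hc⟩, Subtype.ext e.symm⟩

theorem Mo.tT_nm (h : Mo B) {u : M} (hu : B u u = 0) {c : E} (hc : σ c = c) :
    ∃ a : E, σ a * a = c ∧ tT B u c = tT B (a • u) 1 := by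
  obtain ⟨a, ha⟩ := h.exists_nm hc
  exact ⟨a, ha, by rw [h.tT_smul hu a (map_one σ), mul_one, ha]⟩

theorem Mo.gen_T (h : Mo B) {H : Subgroup (sIsom B)} (k : ∀ u, B u u = 0 → tT B u 1 ∈ H) :
    H = ⊤ := by
  have := h.six
  rw [eq_top_iff, ← h.toHerm.closure_isTransv_eq_top (by omega), closure_le]
  rintro t ⟨v, c, hv, ht⟩
  rw [SetLike.mem_coe, ← K1.tT_eq (g := t) ht]
  by_cases v0 : v = 0
  · rw [v0, h.tT_zero']
    exact one_mem _
  have hc := h.cls.coeff_of_isT v0 hv (g := t) ht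
  obtain ⟨a, -, e⟩ := h.tT_nm hv (c := c) (by linear_combination hc - c * h.two)
  rw [e]
  exact k _ (by simp [hv])

theorem Mo.hom_ext (h : Mo B) {Γ : Type*} [Group Γ] {φ ψ : sIsom B →* Γ}
    (k : ∀ u, B u u = 0 → φ (tT B u 1) = ψ (tT B u 1)) : φ = ψ :=
  MonoidHom.ext fun g => (h.gen_T (H := φ.eqLocus ψ) k ▸ mem_top g : g ∈ φ.eqLocus ψ)

theorem Mo.tw_fix (h : Mo B) {g : sIsom B} (hg : Tw g) {u : M} {a : E} (e : lin g u = a • u) :
    lin g u = u := by
  by_cases u0 : u = 0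
  · rw [u0, map_zero]
  obtain ⟨k, hk⟩ := hg
  have h1 := lin_pow_of_eigen e (2 ^ k)
  rw [hk, lin_one] at h1
  have h2 : a ^ 2 ^ k = 1 := smul_left_injective E u0 (h1.symm.trans (one_smul E u).symm)
  have h3 : ∀ k, a ^ 2 ^ k = 1 → a = 1 := fun k => by
    induction k with
    | zero => simp
    | succ k ih => exact fun e => ih (h.sq_inj (by rw [← pow_two, ← pow_mul, ← pow_succ, e, mul_one]))
  rw [e, h3 k h2, one_smul]

theorem Mo.odd_center (h : Mo B) {g : sIsom B} (hg : g ∈ center (sIsom B)) : Odd (orderOf g) := by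
  obtain ⟨a, ha⟩ := h.cls.mem_center_iff.1 hg
  obtain ⟨u, u0, -⟩ := h.cls.exists_iso (le_trans (by norm_num) h.six)
  obtain ⟨n, hn, e⟩ := h.odd_pow (lin_inv_of_eigen u0 (ha u)).1
  refine hn.of_dvd_nat (orderOf_dvd_of_pow_eq_one (lin_ext fun x => ?_))
  rw [lin_pow_of_eigen (ha x), e, one_smul, lin_one]

theorem Mo.perf (h : Mo B) : commutator (sIsom B) = ⊤ :=
  have := h.six
  h.toHerm.commutator_sIsom (by omega) (by omega)

theorem Mo.normal_or (h : Mo B) (N : Subgroup (sIsom B)) (hN : N.Normal) :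
    N ≤ center (sIsom B) ∨ N = ⊤ :=
  have := h.six
  h.toHerm.normal_le_center_or_eq_top (by omega) (by omega) N hN

theorem tv_apply {u w : M} (e : B w u = 0) (x : M) : tv B u w x = x + B w x • u := by
  have k : ∃ g : M ≃ₗ[E] M, ∀ x, g x = x + B w x • u :=
    ⟨LinearEquiv.transvection e, fun x => rfl⟩
  rw [tv, dif_pos k]
  exact k.choose_spec x

end Cfsg.Lib.UM
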