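import Cfsg.Agent.UM.Defs

/-!
# Standard subgroups of type `U_m(2ⁿ)`: abstract lemmas on a product of two Sylow subgroups
-/

set_option autoImplicit false
set_option linter.unusedSectionVars false

namespace Cfsg.Lib.UM

open Subgroup Cfsg.Lib.Trans Cfsg.Lib.Gold
open scoped commutatorElement

variable {G : Type*} [Group G] [Finite G]

/-- The properties of a Sylow subgroup `U ≥ V = J(U) ≥ R = Z(U)` of one factor. -/
structure Fc (U V R : Subgroup G) (q n : ℕ) : Prop where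
  two : IsPGroup 2 U
  VU : V ≤ U
  RV : R ≤ V
  cR : R ≤ Cs U
  el : ∀ v ∈ V, v * v = 1
  cardR : Nat.card R = q
  cardV : Nat.card V = n
  one_lt : 1 < q
  lt : q < n
  zU : U ⊓ Cs U ≤ R
  nrm : ∀ N : Subgroup G, N ≤ U → U ≤ Ns N → N ≤ R ∨ R ≤ N
  idx : ∀ v ∈ U, v ∉ R → q * Nat.card ↥(U ⊓ C1 v) ≤ Nat.card U
  jb : ∀ A : Subgroup G, A ≤ U → (∀ a ∈ A, a * a = 1) → Nat.card A ≤ n ∧ (n ≤ Nat.card A → A = V)

namespace N0

variable {U V R U' V' R' A D K Z Bq Vb T X : Subgroup G} {q n : ℕ} {g w : G}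

theorem common (hT : IsSylowIn 2 T X) (hA : IsPGroup 2 A) (hB : IsPGroup 2 D) (h1 : A ≤ X ⊓ C1 w)
    (h2 : D ≤ X ⊓ C1 w) : ∃ k ∈ X ⊓ C1 w, ∃ f ∈ X, cj f A ≤ T ∧ cj (f * k) D ≤ T := by
  have := Fact.mk Nat.prime_two
  obtain ⟨R, hR, k1⟩ := exists_isSylowIn_ge hA h1
  obtain ⟨k, hk, k2⟩ := hR.exists_cj_le hB h2
  obtain ⟨f, hf, k3⟩ := hT.exists_cj_le hR.isPGroup (hR.le.trans inf_le_left)
  exact ⟨k, hk, f, hf, (cj_mono f k1).trans k3, by rw [cj_mul]; exact (cj_mono f k2).trans k3⟩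

theorem sq_cj (h : ∀ a ∈ A, a * a = 1) (g : G) : ∀ a ∈ cj g A, a * a = 1 := fun a ha => by
  have := h _ (mem_cj.1 ha)
  rwa [show g⁻¹ * a * g * (g⁻¹ * a * g) = g⁻¹ * (a * a) * g by group, mul_assoc,
    inv_mul_eq_one, eq_comm, mul_eq_right] at this

theorem simple (hX : IsSimpleGroup X) (h1 : K ≤ X) (h2 : X ≤ Ns K) : K = ⊥ ∨ K = X := by
  have : (K.subgroupOf X).Normal := ⟨fun n hn g => mem_normalizer_conj (T := K) (h2 g.2) hn⟩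
  rcases hX.eq_bot_or_eq_top_of_normal _ this with e | e
  · left; rwa [subgroupOf_eq_bot, disjoint_iff, inf_of_le_left h1] at e
  · exact Or.inr (le_antisymm h1 (subgroupOf_eq_top.1 e))

theorem card_le_comm {b : G} (h : ∀ d ∈ D, d * b * d⁻¹ * b⁻¹ ∈ K) :
    Nat.card D ≤ Nat.card K * Nat.card ↥(D ⊓ C1 b) := by
  classical
  let f : K → G := fun k => if e : ∃ d : G, d * b * d⁻¹ * b⁻¹ = k then e.choose else 1
  refine (SG2.card_le_cover (Set.range f) fun d hd => ⟨f ⟨_, h d hd⟩, ⟨_, rfl⟩, ?_⟩).trans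
    (Nat.mul_le_mul_right _ (Finite.card_range_le f))
  have e : ∃ d' : G, d' * b * d'⁻¹ * b⁻¹ = d * b * d⁻¹ * b⁻¹ := ⟨d, rfl⟩
  have e1 : f ⟨_, h d hd⟩ = e.choose := dif_pos e
  have e2 := mul_right_cancel e.choose_spec
  rw [e1, mem_C1]
  generalize e.choose = c at e2
  calc c⁻¹ * d * b = c⁻¹ * (d * b * d⁻¹) * d := by group
    _ = _ := by rw [← e2]; group

theorem one (hd : U ⊓ U' = ⊥) {a : G} (h1 : a ∈ U) (h2 : a ∈ U') : a = 1 :=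
  mem_bot.1 (hd ▸ mem_inf.2 ⟨h1, h2⟩)

theorem sup_sq (hc : U ≤ Cs U') (h : ∀ v ∈ U, v * v = 1) (h' : ∀ v ∈ U', v * v = 1) :
    ∀ v ∈ U ⊔ U', v * v = 1 := fun v hv => by
  obtain ⟨b, hb, c, hc', rfl⟩ := (SG2.mem_sup_Cs hc).1 hv
  rw [mul_assoc, ← mul_assoc c, mem_Cs.1 (hc hb) c hc', mul_assoc, h' c hc', mul_one, h b hb]

theorem sub_Cs (hc : U ≤ Cs U') (h1 : A ≤ U) (h2 : D ≤ U') : A ≤ Cs D :=
  (h1.trans hc).trans (Cs_anti h2)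

theorem sub_inf (hd : U ⊓ U' = ⊥) (h1 : A ≤ U) (h2 : D ≤ U') : A ⊓ D = ⊥ :=
  eq_bot_iff.2 (hd ▸ inf_le_inf h1 h2)

theorem le_Ns1 (hc : U ≤ Cs U') : U ⊔ U' ≤ Ns U :=
  sup_le le_normalizer ((le_Cs_comm.1 hc).trans Cs_le_Ns)

theorem card_J (h : Fc U V R q n) (h' : Fc U' V' R' q n) (hc : U ≤ Cs U') (hd : U ⊓ U' = ⊥) :
    Nat.card ↥(V ⊔ V') = n * n := by
  rw [SG2.card_sup_Cs (sub_Cs hc h.VU h'.VU) (sub_inf hd h.VU h'.VU), h.cardV, h'.cardV]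

theorem J_half (h : Fc U V R q n) (h' : Fc U' V' R' q n) (hc : U ≤ Cs U') (hd : U ⊓ U' = ⊥)
    (hA : A ≤ U ⊔ U') (h2 : ∀ a ∈ A, a * a = 1) :
    Nat.card A ≤ n * n ∧ (n * n ≤ Nat.card A → V' ≤ A) := by
  obtain ⟨D, k1, k2, k3⟩ := SG2.exists_proj hc hd hA h2
  have k4 := (h.jb D k1 k2).1
  have k5 := h'.jb (A ⊓ U') inf_le_right fun a ha => h2 a ha.1
  refine ⟨k3.trans (Nat.mul_le_mul k4 k5.1), fun e => ?_⟩
  have n0 : 0 < n := lt_trans (lt_trans one_pos h.one_lt) h.lt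
  have k6 : n ≤ Nat.card ↥(A ⊓ U') :=
    Nat.le_of_mul_le_mul_left (e.trans (k3.trans (Nat.mul_le_mul_right _ k4))) n0
  exact (k5.2 k6).ge.trans inf_le_left

theorem J_eq (h : Fc U V R q n) (h' : Fc U' V' R' q n) (hc : U ≤ Cs U') (hd : U ⊓ U' = ⊥)
    (hA : A ≤ U ⊔ U') (h2 : ∀ a ∈ A, a * a = 1) (e : n * n ≤ Nat.card A) : A = V ⊔ V' := by
  have k1 := J_half h h' hc hd hA h2
  have k2 := J_half h' h (le_Cs_comm.1 hc) (by rw [inf_comm, hd]) (by rwa [sup_comm]) h2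
  exact (eq_of_le_of_card_ge (sup_le (k2.2 e) (k1.2 e)) (by rw [card_J h h' hc hd]; exact k1.1)).symm

theorem comm_B (hc : A ≤ Cs Bq) {a b x : G} (ha : a ∈ A) (hx : x ∈ Bq) :
    x * (a * b) * x⁻¹ * (a * b)⁻¹ = a * (x * b * x⁻¹ * b⁻¹) * a⁻¹ := by
  rw [← mul_assoc x, mem_Cs.1 (hc ha) x hx]; group

theorem alpha1 (h : Fc U V R q n) (hc : U ≤ Cs U') (hd : U ⊓ U' = ⊥) (k : Fc Bq Vb Z q n)
    (kc : A ≤ Cs Bq) (kd : A ⊓ Bq = ⊥) (hle : A ⊔ Bq ≤ U ⊔ U')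
    (e : Nat.card U ≤ Nat.card Bq) (hZ : Z ≤ U) : Z = R := by
  have hc' := le_Cs_comm.1 hc
  have n2 : U ⊔ U' ≤ Ns U' := by rw [sup_comm]; exact le_Ns1 hc'
  have zq : Nat.card Z = q := k.cardR
  have K2 : Bq ⊓ U' = ⊥ := by
    rcases k.nrm (Bq ⊓ U') inf_le_left
      (le_Ns_inf le_normalizer ((le_sup_right.trans hle).trans n2)) with k1 | k1
    · exact eq_bot_iff.2 fun a ha => one hd (hZ (k1 ha)) ha.2
    · have : Z = ⊥ := eq_bot_iff.2 fun a ha => one hd (hZ ha) (k1 ha).2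
      rw [this, card_bot] at zq
      exact absurd k.one_lt (by omega)
  have c1 : Nat.card ↥((A ⊔ Bq) ⊓ U') ≤ Nat.card A := by
    have := SG2.card_le_cover (D := (A ⊔ Bq) ⊓ U') (B := Z) (A : Set G) fun d hd' => by
      obtain ⟨a, ha, b, hb, rfl⟩ := (SG2.mem_sup_Cs kc).1 hd'.1
      refine ⟨a, ha, ?_⟩
      rw [inv_mul_cancel_left]
      refine k.zU ⟨hb, mem_Cs.2 fun x hx => ?_⟩
      have k1 : x * b * x⁻¹ * b⁻¹ ∈ Bq := mul_mem (mul_mem (mul_mem hx hb) (inv_mem hx)) (inv_mem hb)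
      have k2 : x * (a * b) * x⁻¹ * (a * b)⁻¹ ∈ U' :=
        mul_mem (mem_normalizer_conj (n2 (hle (mem_sup_right hx))) hd'.2) (inv_mem hd'.2)
      rw [comm_B kc ha hx, ← mem_Cs.1 (kc ha) _ k1, mul_inv_cancel_right] at k2
      have := one K2 k1 k2
      rwa [mul_inv_eq_one, mul_inv_eq_iff_eq_mul] at this
    rwa [show (A ⊔ Bq) ⊓ U' ⊓ Z = ⊥ from eq_bot_iff.2 fun a ha => one hd (hZ ha.2) ha.1.2, card_bot,
      mul_one] at this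
  have c2 := SG2.card_le_cover (D := A ⊔ Bq) (B := U') {a | a ∈ U ∧ ∃ b ∈ U', a * b ∈ A ⊔ Bq}
    fun d hd' => by
      obtain ⟨a, ha, b, hb, rfl⟩ := (SG2.mem_sup_Cs hc).1 (hle hd')
      exact ⟨a, ⟨ha, b, hb, hd'⟩, by rwa [inv_mul_cancel_left]⟩
  rw [SG2.card_sup_Cs kc kd, mul_comm] at c2
  have c3 := Nat.le_of_mul_le_mul_right (c2.trans (Nat.mul_le_mul_left _ c1)) Nat.card_pos
  have c4 : {a | a ∈ U ∧ ∃ b ∈ U', a * b ∈ A ⊔ Bq} = (U : Set G) :=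
    Set.eq_of_subset_of_ncard_le (fun a ha => ha.1) (e.trans c3)
  refine eq_of_le_of_card_ge (fun r hr => h.zU ⟨hZ hr, mem_Cs.2 fun a ha => ?_⟩)
    (by rw [h.cardR, zq])
  obtain ⟨-, b, hb, k1⟩ := c4.ge ha
  have k2 : A ⊔ Bq ≤ C1 r := sup_le (kc.trans (Cs_le_C1 (k.VU (k.RV hr))))
    ((le_Cs_comm.1 k.cR).trans (Cs_le_C1 hr))
  exact mem_C1.1 ((mul_mem_cancel_right (hc'.trans (Cs_le_C1 (hZ hr)) hb)).1 (k2 k1))

theorem alpha2 (hc : U ≤ Cs U') (k : Fc Bq Vb Z q n) (kc : A ≤ Cs Bq)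
    (hle : A ⊔ Bq ≤ U ⊔ U') (hZ : ¬ Z ≤ U) {v : G} (hv : v ∈ U) (hv' : v ∈ A ⊔ Bq) : v ∈ A ⊔ Z := by
  have n1 := (le_sup_right.trans hle).trans (le_Ns1 hc)
  have k1 : Bq ⊓ U ≤ Z := (k.nrm (Bq ⊓ U) inf_le_left (le_Ns_inf le_normalizer n1)).resolve_right
    fun e => hZ (e.trans inf_le_right)
  have k2 : Nat.card ↥(Bq ⊓ U) < q :=
    k.cardR ▸ card_lt_of_lt (lt_of_le_of_ne k1 fun e => hZ (e.ge.trans inf_le_right))
  obtain ⟨a, ha, b, hb, rfl⟩ := (SG2.mem_sup_Cs kc).1 hv'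
  refine mul_mem (mem_sup_left ha) (mem_sup_right ?_)
  by_contra hn
  have k3 := (k.idx b hb hn).trans (card_le_comm (K := Bq ⊓ U) (b := b) fun x hx => by
    have k1 : x * b * x⁻¹ * b⁻¹ ∈ Bq := mul_mem (mul_mem (mul_mem hx hb) (inv_mem hx)) (inv_mem hb)
    have k2 : x * (a * b) * x⁻¹ * (a * b)⁻¹ ∈ U := mul_mem (mem_normalizer_conj (n1 hx) hv) (inv_mem hv)
    rw [comm_B kc ha hx, ← mem_Cs.1 (kc ha) _ k1, mul_inv_cancel_right] at k2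
    exact ⟨k1, k2⟩)
  exact absurd (Nat.le_of_mul_le_mul_right k3 Nat.card_pos) (by omega)

theorem alpha (h : Fc U V R q n) (h' : Fc U' V' R' q n) (hc : U ≤ Cs U') (hd : U ⊓ U' = ⊥)
    (k : Fc Bq Vb Z q n) (hA : ∀ a ∈ A, a * a = 1) (cA : Nat.card A = n) (kc : A ≤ Cs Bq)
    (kd : A ⊓ Bq = ⊥) (hle : A ⊔ Bq ≤ U ⊔ U') (e : Nat.card U ≤ Nat.card Bq)
    (e' : Nat.card U' ≤ Nat.card Bq) : Z = R' ∨ Z = R := by
  have hc' := le_Cs_comm.1 hc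
  have hle' : A ⊔ Bq ≤ U' ⊔ U := by rwa [sup_comm U']
  by_cases h1 : Z ≤ U
  · exact Or.inr (alpha1 h hc hd k kc kd hle e h1)
  by_cases h2 : Z ≤ U'
  · exact Or.inl (alpha1 h' hc' (by rw [inf_comm, hd]) k kc kd hle' e' h2)
  have k0 : A ⊔ Vb ≤ A ⊔ Bq := sup_le_sup_left k.VU _
  have k1 : A ⊔ Vb = V ⊔ V' := J_eq h h' hc hd (k0.trans hle)
    (sup_sq (sub_Cs kc le_rfl k.VU) hA k.el)
    (by rw [SG2.card_sup_Cs (sub_Cs kc le_rfl k.VU) (sub_inf kd le_rfl k.VU), cA, k.cardV])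
  have k2 : V ⊔ V' ≤ A ⊔ Z := sup_le
    (fun v hv => alpha2 hc k kc hle h1 (h.VU hv) (k0 (k1.ge (mem_sup_left hv))))
    fun v hv => alpha2 hc' k kc hle' h2 (h'.VU hv) (k0 (k1.ge (mem_sup_right hv)))
  have k3 : Vb ≤ Z := fun v hv => by
    obtain ⟨a, ha, b, hb, rfl⟩ := (SG2.mem_sup_Cs (sub_Cs kc le_rfl (k.RV.trans k.VU))).1
      (k2 (k1.le (mem_sup_right hv)))
    rw [one kd ha ((mul_mem_cancel_right (k.VU (k.RV hb))).1 (k.VU hv)), one_mul]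
    exact hb
  have := Trans.card_le_of_le k3
  rw [k.cardV, k.cardR] at this
  exact absurd k.lt (by omega)

end N0

end Cfsg.Lib.UM
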