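import Cfsg.Agent.UM.Defs

/-!
# Standard subgroups of type `U_m(2ⁿ)`: a lemma on products of two Sylow factors
-/

set_option autoImplicit false
set_option linter.unusedSectionVars false

namespace Cfsg.Lib.UM

open Subgroup Cfsg.Lib.Trans Cfsg.Lib.Gold
open Cfsg.Lib.Comp (Tw)
open scoped commutatorElement

variable {G : Type*} [Group G] [Finite G]

namespace PN

theorem pow_eq {a b : G} (a2 : a * a = 1) (b2 : b * b = 1) (n : ℕ) :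
    (b * a) ^ n * b * ((b * a) ^ n)⁻¹ = ((a * b) ^ (2 * n))⁻¹ * b := by
  have e : b * a = (a * b)⁻¹ := by rw [mul_inv_rev, inv_eq_of_sq a2, inv_eq_of_sq b2]
  have ib : b * (a * b) * b⁻¹ = (a * b)⁻¹ := by rw [← e]; group
  have ibn : b * (a * b) ^ n * b⁻¹ = ((a * b) ^ n)⁻¹ := by rw [← conj_pow, ib, inv_pow]
  rw [e, inv_pow, two_mul, pow_add]
  generalize (a * b) ^ n = c at ibn
  calc _ = c⁻¹ * (b * c * b⁻¹) * b := by group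
    _ = _ := by rw [ibn]; group

theorem mul_eq {a b : G} (a2 : a * a = 1) (b2 : b * b = 1) (n : ℕ) :
    a * ((b * a) ^ n * b * ((b * a) ^ n)⁻¹) = (a * b) ^ (2 * n + 1) := by
  have ia : a * (a * b)⁻¹ * a⁻¹ = a * b := by
    rw [mul_inv_rev, inv_eq_of_sq a2, inv_eq_of_sq b2, mul_assoc, mul_assoc, a2, mul_one]
  rw [pow_eq a2 b2, pow_succ, ← inv_pow]
  calc _ = a * (a * b)⁻¹ ^ (2 * n) * a⁻¹ * (a * b) := by group
    _ = _ := by rw [← conj_pow, ia]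

theorem core {J V₁ V₂ : Subgroup G} (el : ∀ v ∈ J, v * v = 1) (l1 : V₁ ≤ J) (l2 : V₂ ≤ J)
    (hd : V₁ ⊓ V₂ = ⊥) {x y d : G} (x2 : x * x = 1) (y2 : y * y = 1)
    (hx : ∀ w ∈ J, ⁅w, x⁆ ∈ V₁) (hy : ∀ w ∈ J, ⁅w, y⁆ ∈ V₂) (cx : x ∈ Cs V₂) (cy : y ∈ Cs V₁)
    (dN : d ∈ Ns J) (xd : x * d * x⁻¹ = d⁻¹) (cd : Commute (x * y) d) :
    x * y * (x * y) ∈ Cs J ∧ d ^ 4 ∈ Cs J := by
  have ab := comm_of_sq el
  have e : ∀ w ∈ J, ∀ g : G, g * w * g⁻¹ = w * ⁅w, g⁆ := fun w hw g => by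
    calc _ = w * w * (g * w * g⁻¹) := by rw [el w hw, one_mul]
      _ = _ := by rw [commutatorElement_def, inv_eq_of_sq (el w hw)]; group
  have fx : ∀ {V : Subgroup G} {g v : G}, g ∈ Cs V → v ∈ V → g * v * g⁻¹ = v := fun hg hv =>
    Comp.conj_eq_of_comm (mem_Cs.1 hg _ hv).symm
  have e1 : ∀ w ∈ J, x * y * w * (x * y)⁻¹ = w * ⁅w, x⁆ * ⁅w, y⁆ := fun w hw => by
    calc _ = x * (y * w * y⁻¹) * x⁻¹ := by group
      _ = _ := by rw [e w hw y, ← conj_mul', e w hw x, fx cx (hy w hw)]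
  have e2 : ∀ w ∈ J, y * x * w * (y * x)⁻¹ = w * ⁅w, y⁆ * ⁅w, x⁆ := fun w hw => by
    calc _ = y * (x * w * x⁻¹) * y⁻¹ := by group
      _ = _ := by rw [e w hw x, ← conj_mul', e w hw y, fx cy (hx w hw)]
  have c2 : ∀ w ∈ J, x * y * (x * y * w * (x * y)⁻¹) * (x * y)⁻¹ = w := fun w hw => by
    have h1 : x * y = (y * x)⁻¹ := by rw [mul_inv_rev, inv_eq_of_sq x2, inv_eq_of_sq y2]
    rw [e1 w hw, mul_assoc w, ab _ (l1 (hx w hw)) _ (l2 (hy w hw)), ← mul_assoc w, ← e2 w hw, h1]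
    group
  have cN : ∀ w ∈ J, x * y * w * (x * y)⁻¹ ∈ J := fun w hw => by
    rw [e1 w hw]
    exact mul_mem (mul_mem hw (l1 (hx w hw))) (l2 (hy w hw))
  have k1 : ∀ w ∈ J, x * y * w * (x * y)⁻¹ = w → x * w * x⁻¹ = w := fun w hw h => by
    rw [e1 w hw, mul_assoc, mul_eq_left, mul_eq_one_iff_eq_inv] at h
    have h1 : ⁅w, x⁆ ∈ V₁ ⊓ V₂ := ⟨hx w hw, h ▸ V₂.inv_mem (hy w hw)⟩
    rw [hd, mem_bot] at h1
    rw [e w hw, h1, mul_one]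
  generalize x * y = c at cd c2 cN k1
  have cj' : ∀ {g : G}, Commute c g → ∀ w : G,
      c * (g * w * g⁻¹) * c⁻¹ = g * (c * w * c⁻¹) * g⁻¹ := fun {g} h w => by
    calc _ = c * g * w * (c * g)⁻¹ := by group
      _ = _ := by rw [h.eq]; group
  have k2 : ∀ w ∈ J, c * w * c⁻¹ = w → d * d * w * (d * d)⁻¹ = w := fun w hw h => by
    have h1 := k1 _ (mem_normalizer_conj (inv_mem dN) hw) (by rw [cj' cd.inv_right, h])
    have h2 : d * d = d * x * d⁻¹ * x⁻¹ := by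
      calc d * d = d * (x * d * x⁻¹)⁻¹ := by rw [xd, inv_inv]
        _ = _ := by group
    have h3 : x⁻¹ * w * x = w := by
      conv_lhs => rw [← k1 w hw h]
      group
    calc _ = d * (x * (d⁻¹ * (x⁻¹ * w * x) * d⁻¹⁻¹) * x⁻¹) * d⁻¹ := by rw [h2]; group
      _ = w := by rw [h3, h1]; group
  refine ⟨mem_Cs.2 fun w hw => ?_, mem_Cs.2 fun w hw => ?_⟩
  · refine (Comp.comm_of_conj_eq ?_).symm
    rw [← c2 w hw]
    conv_lhs => rw [c2 w hw]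
    group
  · have dd : d * d ∈ Ns J := mul_mem dN dN
    have cdd : Commute c (d * d) := cd.mul_right cd
    rw [show d ^ 4 = d * d * (d * d) by rw [← pow_two, ← pow_two, ← pow_mul]]
    generalize d * d = D at dd cdd k2
    have hw' := mem_normalizer_conj dd hw
    have h1 := k2 (w * (c * w * c⁻¹)) (mul_mem hw (cN w hw)) (by
      rw [← conj_mul', c2 w hw, ab _ hw _ (cN w hw)])
    rw [← conj_mul', ← cj' cdd] at h1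
    have h2 := k2 (w * (D * w * D⁻¹)) (mul_mem hw hw') (by
      rw [← conj_mul']
      have a1 := cN w hw
      have a2 := cN _ hw'
      generalize D * w * D⁻¹ = w' at h1 hw' a2
      generalize c * w * c⁻¹ = u at h1 a1
      generalize c * w' * c⁻¹ = u' at h1 a2
      calc u * u' = u * (w' * w') * u' := by rw [el w' hw', mul_one]
        _ = u * w' * (w * u) := by rw [← h1]; group
        _ = w * w' * (u * u) := by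
          rw [ab u a1 w' hw', ab w hw u a1, ab w hw w' hw', mul_assoc, mul_assoc,
            ← mul_assoc u u w, ab (u * u) (mul_mem a1 a1) w hw]
        _ = _ := by rw [el u a1, mul_one])
    rw [← conj_mul', ab w hw _ hw', mul_right_inj] at h2
    refine (Comp.comm_of_conj_eq ?_).symm
    conv_rhs => rw [← h2]
    group

theorem step {H J V₁ V₂ U₁ U₂ : Subgroup G} (hJ : J = V₁ ⊔ V₂) (hH : H ≤ Ns J) (hc : U₁ ≤ Cs U₂)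
    (hd : U₁ ⊓ U₂ = ⊥) (l1 : V₁ ≤ U₁) (l2 : V₂ ≤ U₂) (n1 : U₁ ≤ Ns V₁)
    (r2 : ∀ y ∈ U₂, y * y ∈ Cs J → y ∉ Cs J → ∃ v ∈ V₂, ∀ g ∈ H, g * ⁅v, y⁆ * g⁻¹ ∉ V₁)
    {a g : G} (ha : a ∈ U₁) (a2 : a * a = 1) (hg : g ∈ H) (hx : g * a * g⁻¹ ∈ U₁ ⊔ U₂) :
    (∀ w ∈ J, ⁅w, g * a * g⁻¹⁆ ∈ V₁) ∧ g * a * g⁻¹ ∈ Cs V₂ := by
  have cm : ∀ {p q : G}, p ∈ U₁ → q ∈ U₂ → Commute p q := fun hp hq => (mem_Cs.1 (hc hp) _ hq).symm
  have k : ∀ p ∈ U₁, ∀ w ∈ J, ⁅w, p⁆ ∈ V₁ := fun p hp w hw => by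
    rw [hJ, SG2.mem_sup_Cs (l1.trans (hc.trans (Cs_anti l2)))] at hw
    obtain ⟨v₁, h1, v₂, h2, rfl⟩ := hw
    have : ⁅v₁ * v₂, p⁆ = v₁ * (p * v₁⁻¹ * p⁻¹) := by
      calc _ = v₁ * (v₂ * p) * v₂⁻¹ * v₁⁻¹ * p⁻¹ := by group
        _ = _ := by rw [← (cm hp (l2 h2)).eq]; group
    rw [this]
    exact mul_mem h1 (mem_normalizer_conj (n1 hp) (inv_mem h1))
  obtain ⟨x₁, h1, x₂, h2, e⟩ := (SG2.mem_sup_Cs hc).1 hx
  replace e := e.symm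
  have x2 := Comp.conj_sq a2 g
  have s2 : x₂ * x₂ = 1 := by
    rw [e, (cm h1 h2).symm.mul_mul_mul_comm, mul_eq_one_iff_inv_eq] at x2
    have : x₂ * x₂ ∈ U₁ ⊓ U₂ := ⟨x2 ▸ U₁.inv_mem (mul_mem h1 h1), mul_mem h2 h2⟩
    rwa [hd, mem_bot] at this
  have c2 : x₂ ∈ Cs J := by
    by_contra hn
    obtain ⟨v, hv, h3⟩ := r2 x₂ h2 (by rw [s2]; exact one_mem _) hn
    refine h3 g⁻¹ (inv_mem hg) ?_
    have h4 : ⁅v, x₂⁆ = ⁅v, g * a * g⁻¹⁆ := by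
      have h5 : Commute x₁ ⁅v, x₂⁆ :=
        cm h1 (mul_mem (mul_mem (mul_mem (l2 hv) h2) (inv_mem (l2 hv))) (inv_mem h2))
      calc _ = x₁ * ⁅v, x₂⁆ * x₁⁻¹ := by rw [h5.eq, mul_inv_cancel_right]
        _ = x₁ * v * x₂ * v⁻¹ * (x₁ * x₂)⁻¹ := by group
        _ = _ := by rw [(cm h1 (l2 hv)).eq, e]; group
    rw [h4, show g⁻¹ * ⁅v, g * a * g⁻¹⁆ * g⁻¹⁻¹ = ⁅g⁻¹ * v * g⁻¹⁻¹, a⁆ by group]
    exact k a ha _ (mem_normalizer_conj (hH (inv_mem hg)) (hJ ▸ mem_sup_right hv))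
  rw [e]
  refine ⟨fun w hw => ?_, mul_mem (Cs_anti l2 (hc h1)) (Cs_anti (hJ ▸ le_sup_right) c2)⟩
  have : ⁅w, x₁ * x₂⁆ = ⁅w, x₁⁆ := by
    calc _ = w * x₁ * (x₂ * w⁻¹) * x₂⁻¹ * x₁⁻¹ := by group
      _ = _ := by rw [← mem_Cs.1 c2 _ (inv_mem hw)]; group
  rw [this]
  exact k x₁ h1 w hw

end PN

open PN

theorem dih {a b : G} (a2 : a * a = 1) (b2 : b * b = 1) :
    ∃ n : ℕ, Tw (a * ((b * a) ^ n * b * ((b * a) ^ n)⁻¹)) ∧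
      Commute (a * ((b * a) ^ n * b * ((b * a) ^ n)⁻¹)) (a * b) := by
  obtain ⟨k, m, ⟨n, rfl⟩, hk⟩ := Nat.exists_eq_two_pow_mul_odd (orderOf_pos (a * b)).ne'
  refine ⟨n, ?_, ?_⟩ <;> rw [mul_eq a2 b2]
  · exact ⟨k, by rw [← pow_mul, mul_comm, ← hk, pow_orderOf_eq_one]⟩
  · exact (Commute.refl _).pow_left _

theorem prodn {H J V₁ V₂ U₁ U₂ : Subgroup G} (hJ : J = V₁ ⊔ V₂) (el : ∀ v ∈ J, v * v = 1)
    (hH : H ≤ Ns J) (hs : IsSylowIn 2 (U₁ ⊔ U₂) H) (hc : U₁ ≤ Cs U₂) (hd : U₁ ⊓ U₂ = ⊥)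
    (l1 : V₁ ≤ U₁) (l2 : V₂ ≤ U₂) (n1 : U₁ ≤ Ns V₁) (n2 : U₂ ≤ Ns V₂)
    (r1 : ∀ y ∈ U₁, y * y ∈ Cs J → y ∉ Cs J → ∃ v ∈ V₁, ∀ g ∈ H, g * ⁅v, y⁆ * g⁻¹ ∉ V₂)
    (r2 : ∀ y ∈ U₂, y * y ∈ Cs J → y ∉ Cs J → ∃ v ∈ V₂, ∀ g ∈ H, g * ⁅v, y⁆ * g⁻¹ ∉ V₁)
    {a b g k : G} (ha : a ∈ U₁) (a2 : a * a = 1) (hb : b ∈ U₂) (b2 : b * b = 1) (hg : g ∈ H)
    (hk : k ∈ H) {v : G} (hv : v ∈ J) : Commute ⁅v, g * a * g⁻¹⁆ (k * b * k⁻¹) := by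
  have aH : g * a * g⁻¹ ∈ H := mul_mem (mul_mem hg (hs.le (mem_sup_left ha))) (inv_mem hg)
  have bH : k * b * k⁻¹ ∈ H := mul_mem (mul_mem hk (hs.le (mem_sup_right hb))) (inv_mem hk)
  have a2' := Comp.conj_sq a2 g
  have b2' := Comp.conj_sq b2 k
  obtain ⟨n, tc, -⟩ := dih a2' b2'
  obtain ⟨a', ea⟩ : ∃ a', a' = g * a * g⁻¹ := ⟨_, rfl⟩
  obtain ⟨b', eb⟩ : ∃ b', b' = k * b * k⁻¹ := ⟨_, rfl⟩
  rw [← ea] at aH a2' tc ⊢
  rw [← eb] at bH b2' tc ⊢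
  have pH : (b' * a') ^ n ∈ H := pow_mem (mul_mem bH aH) n
  have e1 := pow_eq a2' b2' n
  have e2 := mul_eq a2' b2' n
  have b2'' := Comp.conj_sq b2' ((b' * a') ^ n)
  have bH'' : (b' * a') ^ n * b' * ((b' * a') ^ n)⁻¹ ∈ H := mul_mem (mul_mem pH bH) (inv_mem pH)
  have e3 : (b' * a') ^ n * b' * ((b' * a') ^ n)⁻¹ =
      (b' * a') ^ n * k * b * ((b' * a') ^ n * k)⁻¹ := by
    generalize (b' * a') ^ n = p
    rw [eb]; group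
  have pk := mul_mem pH hk
  generalize (b' * a') ^ n * k = k' at e3 pk
  generalize (b' * a') ^ n * b' * ((b' * a') ^ n)⁻¹ = b'' at tc e1 e2 b2'' bH'' e3
  obtain ⟨s, hs', hle⟩ := hs.exists_cj_le (Comp.isPGroup_sup tc.isPGroup
    (Tw.of_sq a2').isPGroup (zpowers_le.2 (mem_Ns_iff.2 (by
      rw [cj_zpowers, ← mul_assoc, a2', one_mul, ← zpowers_inv, mul_inv_rev, inv_inv,
        inv_eq_of_sq b2''])))) (sup_le (zpowers_le.2 (mul_mem aH bH'')) (zpowers_le.2 aH))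
  have g1 : s * a' * s⁻¹ ∈ U₁ ⊔ U₂ := hle (conj_mem_cj.2 (mem_sup_right (mem_zpowers _)))
  have g2 : s * b'' * s⁻¹ ∈ U₁ ⊔ U₂ := by
    rw [← mul_mem_cancel_left g1, conj_mul']
    exact hle (conj_mem_cj.2 (mem_sup_left (mem_zpowers _)))
  have f1 : s * a' * s⁻¹ = s * g * a * (s * g)⁻¹ := by rw [ea]; group
  have f2 : s * b'' * s⁻¹ = s * k' * b * (s * k')⁻¹ := by rw [e3]; group
  have s1 := step hJ hH hc hd l1 l2 n1 r2 ha a2 (mul_mem hs' hg) (f1 ▸ g1)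
  have s2 := step (hJ.trans (sup_comm _ _)) hH (le_Cs_comm.1 hc) ((inf_comm _ _).trans hd) l2 l1 n2
    r1 hb b2 (mul_mem hs' pk) (by rw [← f2, sup_comm]; exact g2)
  rw [← f1] at s1
  rw [← f2] at s2
  obtain ⟨c1, c2⟩ := core el (hJ ▸ le_sup_left) (hJ ▸ le_sup_right)
    (eq_bot_iff.2 ((inf_le_inf l1 l2).trans hd.le)) (Comp.conj_sq a2' s) (Comp.conj_sq b2'' s)
    s1.1 s2.1 s1.2 s2.2 (d := s * (a' * b') * s⁻¹)
    (hH (mul_mem (mul_mem hs' (mul_mem aH bH)) (inv_mem hs')))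
    (by
      calc _ = s * (a' * a' * b' * a'⁻¹) * s⁻¹ := by group
        _ = _ := by rw [a2', one_mul, conj_inv', mul_inv_rev, inv_eq_of_sq b2'])
    (by rw [conj_mul', e2, ← conj_pow]; exact (Commute.refl _).pow_left _)
  rw [conj_mul', e2, ← conj_pow, ← pow_add,
    show 2 * n + 1 + (2 * n + 1) = 4 * n + 2 by ring, pow_add, pow_mul,
    mul_mem_cancel_left (pow_mem c2 n)] at c1
  have hw := s1.1 _ (mem_normalizer_conj (hH hs') hv)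
  have h1 : Commute ⁅s * v * s⁻¹, s * a' * s⁻¹⁆ (s * b' * s⁻¹) := by
    have : s * b' * s⁻¹ = ((s * (a' * b') * s⁻¹) ^ 2) ^ n * (s * b'' * s⁻¹) := by
      rw [← pow_mul, conj_pow, e1]; group
    rw [this]
    exact Commute.mul_right (mem_Cs.1 (pow_mem c1 n) _ (hJ ▸ mem_sup_left hw)) (mem_Cs.1 s2.2 _ hw)
  rw [← conjugate_commutatorElement, Commute.conj_iff] at h1
  exact h1

end Cfsg.Lib.UM
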