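import Cfsg.Agent.UM.P4a

/-!
# Standard subgroups of type `U_m(2ⁿ)`: the elements `Ew u w · E(s u, w)`
-/

set_option autoImplicit false
set_option linter.unusedSectionVars false

namespace Cfsg.Lib.UM

open Subgroup Module Cfsg.Lib.Trans Cfsg.Lib.Gold Cfsg.Lib.Class.Form Cfsg.Lib.Class.FAut
open Cfsg.Lib.Comp (Tw)
open scoped commutatorElement
open P4a

namespace E0g

theorem comm_tw {G : Type*} [Group G] {a b e e' A C Z : G} (h1 : A * b * A⁻¹ = b * e)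
    (h2 : A * C * A⁻¹ = C * Z) (h3 : C * a * C⁻¹ = a * e') (ZC : Commute Z C)
    (ka : Commute (e * Z * e'⁻¹) a) (kb : Commute (e * Z * e'⁻¹) b) :
    ⁅a * A, b * C⁆ = ⁅a, b⁆ * (e * Z * e'⁻¹) := by
  have e1 : C * a⁻¹ * C⁻¹ = e'⁻¹ * a⁻¹ := by rw [← mul_inv_rev, ← h3]; group
  calc ⁅a * A, b * C⁆ = a * (A * b * A⁻¹) * (A * C * A⁻¹) * a⁻¹ * C⁻¹ * b⁻¹ := by
        rw [commutatorElement_def]; group
    _ = a * b * e * (C * Z) * a⁻¹ * C⁻¹ * b⁻¹ := by rw [h1, h2]; group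
    _ = a * b * e * Z * (C * a⁻¹ * C⁻¹) * b⁻¹ := by rw [← ZC.eq]; group
    _ = a * b * ((e * Z * e'⁻¹) * (a⁻¹ * b⁻¹)) := by rw [e1]; group
    _ = _ := by rw [(ka.inv_right.mul_right kb.inv_right).eq, commutatorElement_def]; group

variable {G E M : Type*} [Group G] [Finite G] [Field E] [Finite E] [AddCommGroup M] [Module E M]
  [FiniteDimensional E M] {σ : E →+* E} {B : M →ₛₗ[σ] M →ₗ[E] E}

/-- `Ew u w · E(s u, w)`. -/
noncomputable def Ys (φ : sIsom B →* G) (f : M → G) (s : E) (u w : M) : G :=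
  Ew f u w * φ (tE B (s • u) w)

theorem Ys_eq_1' : type_of% @Ys.eq_1 := @Ys.eq_1

variable {φ : sIsom B →* G} {t : G} {f : M → G}

theorem i2s {u w : M} (k : I2 B u w) (s : E) : I2 B (s • u) w :=
  ⟨by simp [k.uu], k.ww, by simp [k.uw]⟩

theorem EE (h : Mo B) {u w x y : M} (k : I2 B u w) (k' : I2 B x y) (h1 : B u x = 0) (h2 : B w x = 0)
    (h3 : B u y = 0) (h4 : B w y = 0) : Commute (φ (tE B u w)) (φ (tE B x y)) :=
  cmo (by rw [← map_inv, ← map_mul, ← map_mul, h.tE_conj _ k', tEfix h k h1 h2, tEfix h k h3 h4])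

theorem EW (h : H3 φ t f) {u w x y : M} (k : I2 B u w) (h1 : B u x = 0) (h2 : B w x = 0)
    (h3 : B u y = 0) (h4 : B w y = 0) : Commute (φ (tE B u w)) (Ew f x y) :=
  h.Ew_fix (tEfix h.toMo k h1 h2) (tEfix h.toMo k h3 h4)

theorem zero (h : H3 φ t f) (s : E) (u : M) : Ys φ f s u 0 = 1 := by
  rw [Ys, h.Ew_zero, h.tE_zero, map_one, mul_one]

theorem add2 (h : H3 φ t f) (s : E) {u w x : M} (k : I3 B u w x) :
    Ys φ f s u (w + x) = Ys φ f s u w * Ys φ f s u x := by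
  have c := EW h (i2s k.toI2 s) (x := u) (y := x) (by simp [k.uu]) (h.swap k.uw) (by simp [k.ux])
    k.wx
  rw [Ys, Ys, Ys, h.bi _ _ _ k, h.tE_add ⟨i2s k.toI2 s, k.xx, by simp [k.ux], k.wx⟩, map_mul,
    mul_assoc (Ew f u w) (φ _), ← mul_assoc (φ _) (Ew f u x), c.eq]
  group

theorem symm (h : H3 φ t f) (s : E) {u w : M} (k : I2 B u w) :
    Ys φ f s u w = Ys φ f (σ s) w u := by
  rw [Ys, Ys, h.Ew_comm k, h.tE_smul k, h.tE_comm ((i2s (k.symm h.toMo) _).symm h.toMo)]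

theorem add1 (h : H3 φ t f) (s : E) {u w x : M} (k : I3 B w u x) :
    Ys φ f s (u + x) w = Ys φ f s u w * Ys φ f s x w := by
  have k1 : I2 B w (u + x) := ⟨k.uu, I2.add h.toMo ⟨k.ww, k.xx, k.wx⟩, by simp [k.uw, k.ux]⟩
  rw [symm h s (k1.symm h.toMo), add2 h _ k, symm h s (k.toI2.symm h.toMo),
    symm h s (I2.symm h.toMo ⟨k.uu, k.xx, k.ux⟩)]

theorem sw (h : H3 φ t f) (s a : E) {u w : M} (k : I2 B u w) :
    Ys φ f s (a • u) w = Ys φ f s u (σ a • w) := by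
  rw [Ys, Ys, h.sw _ _ _ k, smul_comm, h.tE_smul (i2s k s)]

theorem eqv (h : H3 φ t f) (s : E) (g : sIsom B) {u w : M} (k : I2 B u w) :
    φ g * Ys φ f s u w * (φ g)⁻¹ = Ys φ f s (lin g u) (lin g w) := by
  rw [Ys, Ys, ← h.Ew_eqv, ← map_smul, ← h.tE_conj _ (i2s k s), map_mul, map_mul, map_inv]; group

theorem fix (h : H3 φ t f) (s : E) {g : sIsom B} {u w : M} (k : I2 B u w) (e : lin g u = u)
    (e' : lin g w = w) : Commute (φ g) (Ys φ f s u w) := cmo (by rw [eqv h s g k, e, e'])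

theorem c0 (h : H3 φ t f) (s r : E) {u w x y : M} (k : I3 B u w x) (k' : I3 B u w y)
    (e : B x y = 0) : Commute (Ys φ f s u w) (Ys φ f r x y) := by
  have m := h.toMo
  have kx : I2 B x y := ⟨k.xx, k'.xx, e⟩
  refine Commute.mul_left ((h.Ew_Ew k k' e).mul_right (EW h (i2s kx r) ?_ ?_ ?_ ?_).symm)
    (fix h r kx (tEfix m (i2s k.toI2 s) ?_ k.wx) (tEfix m (i2s k.toI2 s) ?_ k'.wx)) <;>
    simp [m.swap k.ux, m.swap k.wx, m.swap k'.ux, m.swap k'.wx, k.ux, k'.ux]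

theorem mul_E (h : H3 φ t f) (s r : E) {u w : M} (k : I2 B u w) :
    Ys φ f s u w * φ (tE B (r • u) w) = Ys φ f (s + r) u w := by
  rw [Ys, Ys, add_smul, h.tE_add' ⟨(i2s k s).symm h.toMo, by simp [k.uu],
    by simp [h.swap k.uw], by simp [k.uu]⟩, map_mul, mul_assoc]

theorem E_comm (h : H3 φ t f) (s r : E) {u w : M} (k : I2 B u w) :
    Commute (φ (tE B (r • u) w)) (Ys φ f s u w) :=
  fix h s k (tEfix h.toMo (i2s k r) (by simp [k.uu]) (h.swap k.uw))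
    (tEfix h.toMo (i2s k r) (by simp [k.uw]) k.ww)

theorem mul (h : H3 φ t f) (s r : E) {u w : M} (k : I2 B u w) :
    Ys φ f s u w * Ys φ f r u w = φ (tE B ((s + r) • u) w) := by
  rw [Ys, mul_assoc, (E_comm h r s k).eq, mul_E h r s k, Ys, ← mul_assoc, h.Ew_sq k, one_mul,
    add_comm]

theorem act (h : H3 φ t f) (s : E) {u w : M} (k : I2 B u w) :
    t * Ys φ f s u w * t⁻¹ = Ys φ f (s + 1) u w := by
  have e := mul_E h 1 s k
  rw [Ys, one_smul] at e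
  rw [add_comm, ← e, ← h.t_Ew k, Ys, mul_assoc t, mul_assoc (Ew f u w),
    ← (h.tc _).inv_left.eq]
  group

theorem self (h : H3 φ t f) (s : E) {u : M} (hu : B u u = 0) {a b : E} (e : σ b * b = a + σ a) :
    Ys φ f s (a • u) u = f (b • u) * φ (tT B u (s * a + σ (s * a))) := by
  rw [Ys, h.Ew_self hu e, smul_smul, h.tE_self hu]

theorem cO (h : H3 φ t f) (s : E) (u w : M) : Ys φ f s u w ∈ Cs (Ot φ t) :=
  mul_mem (h.Ew_cO u w) (Gold.mem_Cs.2 fun _ ho => (Gold.mem_Cs.1 (Ot_le ho).2 _ ⟨_, rfl⟩).symm)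

theorem g1 {β : E} (h : H4 φ t f β) (s r : E) {u w x y : M} (k : Gen B u w x y) :
    ⁅Ys φ f s u x, Ys φ f r y w⁆ =
      Ew f (((1 + s + r) * B x y) • u) w * φ (tE B (((β + r * s) * B x y) • u) w) := by
  have m := h.toMo
  have h3 := h.toH3
  have uu := k.uu; have ww := k.ww; have uw := k.uw; have xx := k.xx; have ux := k.ux
  have wx := k.wx; have yy := k.yy; have uy := k.uy; have wy := k.wy
  have wu := m.swap uw; have xu := m.swap ux; have xw := m.swap wx; have yu := m.swap uy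
  have yw := m.swap wy
  have kx : I2 B u x := ⟨uu, xx, ux⟩
  have ky : I2 B y w := ⟨yy, ww, yw⟩
  have Ay : lin (tE B (s • u) x) y = y + (s * B x y) • u := by
    rw [m.lin_tE (i2s kx s), smul_smul, mul_comm]; simp [uy]
  have Aw : lin (tE B (s • u) x) w = w := tEfix m (i2s kx s) (by simp [uw]) xw
  have Cu : lin (tE B (r • y) w) u = u := tEfix m (i2s ky r) (by simp [yu]) wu
  have Cx : lin (tE B (r • y) w) x = x + σ (r * B x y) • w := by
    rw [m.lin_tE (i2s ky r), wx, map_mul σ]; simp [m.sym y x]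
  have k1 : ∀ c d : E, I3 B w (d • y) (c • u) := fun c d =>
    ⟨⟨ww, by simp [yy], by simp [wy]⟩, by simp [uu], by simp [wu], by simp [yu]⟩
  have k2 : ∀ c d : E, I3 B w (d • u) (c • u) := fun c d =>
    ⟨⟨ww, by simp [uu], by simp [wu]⟩, by simp [uu], by simp [wu], by simp [uu]⟩
  have h1 := h3.Ew_eqv (tE B (s • u) x) y w
  rw [Ay, Aw, h3.bi' (one_smul E y ▸ k1 _ 1)] at h1
  have h2 : φ (tE B (s • u) x) * φ (tE B (r • y) w) * (φ (tE B (s • u) x))⁻¹ =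
      φ (tE B (r • y) w) * φ (tE B ((r * (s * B x y)) • u) w) := by
    rw [← map_inv, ← map_mul, ← map_mul, m.tE_conj _ (i2s ky r), map_smul, Ay, Aw, smul_add,
      smul_smul, m.tE_add' (k1 _ _), map_mul]
  have h4 := h3.Ew_eqv (tE B (r • y) w) u x
  rw [Cu, Cx, h3.bi _ _ _ ⟨kx, by simp [ww], by simp [uw], by simp [xw]⟩,
    ← h3.sw _ _ _ k.toI2] at h4
  have ea : ∀ c : E, Commute (Ew f (c • u) w) (Ew f u x) := fun c =>
    h3.Ew_Ew ⟨i2s k.toI2 c, uu, by simp [uu], wu⟩ ⟨i2s k.toI2 c, xx, by simp [ux], wx⟩ ux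
  have eb : ∀ c : E, Commute (Ew f (c • u) w) (Ew f y w) := fun c =>
    h3.Ew_Ew ⟨i2s k.toI2 c, yy, by simp [uy], wy⟩ ⟨i2s k.toI2 c, ww, by simp [uw], ww⟩ yw
  have Ze : ∀ c d : E, Commute (φ (tE B (c • u) w)) (Ew f (d • u) w) := fun c d =>
    EW h3 (i2s k.toI2 c) (by simp [uu]) (by simp [wu]) (by simp [uw]) ww
  rw [Ys, Ys, comm_tw h1 h2 h4
    (EE m (i2s k.toI2 _) (i2s ky r) (by simp [uy]) (by simp [wy]) (by simp [uw]) ww)
    (((ea _).mul_left (EW h3 (i2s k.toI2 _) (by simp [uu]) wu (by simp [ux]) wx)).mul_left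
      (ea _).inv_left)
    (((eb _).mul_left (EW h3 (i2s k.toI2 _) (by simp [uy]) wy (by simp [uw]) ww)).mul_left
      (eb _).inv_left), h.r120 _ _ _ _ k, inv_eq_of_mul_eq_one_right (h3.Ew_sq (i2s k.toI2 _)),
    add_mul, add_mul, one_mul, add_smul, add_smul, add_mul, add_smul, m.tE_add' (k2 _ _), map_mul,
    ← add_smul, h3.bi' (k2 _ _), add_smul, h3.bi' (k2 _ _), mul_assoc r, mul_assoc _ (φ _) (Ew f _ w),
    (Ze _ _).eq, ← mul_assoc (Ew f _ w) (Ew f _ w), mul_assoc (Ew f _ w) (φ _), ← mul_assoc (φ _),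
    ((Ze _ _).mul_right (Ze _ _)).eq]
  group

theorem li2 (h : Mo B) {p x r : M} (p0 : p ≠ 0) (h1 : B p r = 0) (h2 : B x r ≠ 0) :
    LinearIndependent E ![p, x] := by
  refine LinearIndependent.pair_iff.2 fun c d e => ?_
  have e1 := congrArg (fun v => B v r) e
  simp only [map_add, LinearMap.map_smulₛₗ, LinearMap.add_apply, LinearMap.smul_apply, h1,
    smul_eq_mul, mul_zero, zero_add, map_zero, LinearMap.zero_apply, mul_eq_zero] at e1
  have d0 : d = 0 := by rw [← h.ss d, e1.resolve_right h2, map_zero]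
  rw [d0, zero_smul, add_zero] at e
  exact ⟨(smul_eq_zero.1 e).resolve_right p0, d0⟩

end E0g

end Cfsg.Lib.UM
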