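import Cfsg.Agent.UM.A2
import Cfsg.Agent.UM.A1

/-!
# Standard subgroups of type `U_m(2ⁿ)`: homomorphisms of the parabolic subgroup trivial on `Q/R`
-/

set_option autoImplicit false
set_option linter.unusedSectionVars false

namespace Cfsg.Lib.UM.AP2

open Subgroup Module Cfsg.Lib.Trans Cfsg.Lib.Gold Cfsg.Lib.Class.Form Cfsg.Lib.Class.FAut
open scoped commutatorElement

variable {E M : Type*} [Field E] [Finite E] [AddCommGroup M] [Module E M] [FiniteDimensional E M]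
  {σ : E →+* E} {B : M →ₛₗ[σ] M →ₗ[E] E}

/-- A hyperbolic pair. -/
structure HP (B : M →ₛₗ[σ] M →ₗ[E] E) (e f : M) : Prop extends Mo B where
  he : B e e = 0
  hf : B f f = 0
  hef : B e f = 1

theorem shift {e w : M} {b c : E} {g : sIsom B} (k : IsE B 1 e (w + c • e) b g) :
    IsE B 1 e w (b + σ c - c) g := fun x => by
  rw [k x]
  simp only [map_add, map_smulₛₗ, LinearMap.add_apply, LinearMap.smul_apply, smul_eq_mul]
  module

theorem smul_iff (hσ : ∀ a, σ (σ a) = a) {u w : M} {b a : E} {t : sIsom B} :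
    IsE B 1 (a • u) w b t ↔ IsE B 1 u (σ a • w) (σ a * a * b) t := by
  refine forall_congr' fun x => ?_
  have : x + B (a • u) x • w - (1 * B w x + b * B (a • u) x) • a • u =
      x + B u x • σ a • w - (1 * B (σ a • w) x + σ a * a * b * B u x) • u := by
    simp only [map_smulₛₗ, LinearMap.smul_apply, smul_eq_mul, hσ]
    module
  rw [this]

theorem semi_isE {α : MulAut (sIsom B)} {Γ : M ≃+ M} {τ : E ≃+* E} (k : Semi α Γ τ) {u w : M}
    {b : E} {g : sIsom B} (hg : IsE B 1 (Γ u) (Γ w) (τ b) (α g)) : IsE B 1 u w b g := fun x => by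
  apply Γ.injective
  rw [← k.conj, hg, map_sub, map_add, k.smul, k.smul, k.form, k.form]
  simp

namespace HP
variable {e f : M}

theorem e0 (h : HP B e f) : e ≠ 0 := left_ne_zero_of_eq_one h.hef

theorem hfe (h : HP B e f) : B f e = 1 := h.cls.swap_one h.hef

theorem hU (h : HP B e f) : Herm (restr B (hypU B e f)) :=
  h.toHerm.restrict (h.cls.nondegOn_hypU h.he h.hf h.hef)

theorem four (h : HP B e f) : 4 ≤ finrank E (hypU B e f) := by
  have := h.cls.finrank_hypU h.he h.hef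
  have := h.six
  omega

theorem ew (_h : HP B e f) (w : hypU B e f) : B e w = 0 := (mem_hypU.1 w.2).1
theorem fw (_h : HP B e f) (w : hypU B e f) : B f w = 0 := (mem_hypU.1 w.2).2
theorem we (h : HP B e f) (w : hypU B e f) : B w e = 0 := h.swap (h.ew w)
theorem wf (h : HP B e f) (w : hypU B e f) : B w f = 0 := h.swap (h.fw w)

theorem uniq (h : HP B e f) {w w' : hypU B e f} {b b' : E} {g : sIsom B}
    (k : IsE B 1 e w b g) (k' : IsE B 1 e w' b' g) : w = w' ∧ b = b' := by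
  have e1 := (k f).symm.trans (k' f)
  simp only [h.hef, h.wf, one_smul, mul_zero, zero_add, mul_one] at e1
  have e2 := congrArg (B f) e1
  simp only [map_sub, map_add, map_smul, h.hf, h.fw, h.hfe, smul_eq_mul, mul_one, zero_add,
    zero_sub, neg_inj] at e2
  subst e2
  exact ⟨Subtype.ext (add_left_cancel (sub_left_injective e1)), rfl⟩

theorem tr (h : HP B e f) {w : hypU B e f} {b : E} {g : sIsom B} (k : IsE B 1 e w b g) :
    b + σ b = B w w := by
  simpa using h.cls.trace_of_isE h.e0 h.he (h.ew w) k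

theorem exE' (h : HP B e f) (w : hypU B e f) {b : E} (hb : b + σ b = B w w) :
    ∃ g : Fx B (E ∙ e), IsE B 1 e w b g := by
  obtain ⟨g, hg⟩ := h.cls.exists_isE h.he (h.ew w) (b := b) (by simpa using hb)
  exact ⟨⟨g, mem_Fx1.2 (hg.apply_self h.he (h.we w))⟩, hg⟩

theorem exE (h : HP B e f) (w : hypU B e f) : ∃ b, ∃ g : Fx B (E ∙ e), IsE B 1 e w b g := by
  obtain ⟨b, hb⟩ := h.cls.exists_trace (w : M)
  exact ⟨b, h.exE' w (by simpa using hb)⟩

theorem memP (h : HP B e f) {w : hypU B e f} {b : E} {g : sIsom B} (k : IsE B 1 e w b g) :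
    g ∈ Fx B (E ∙ e) := mem_Fx1.2 (k.apply_self h.he (h.we w))

theorem memQ (h : HP B e f) {g : sIsom B} :
    g ∈ QW B (E ∙ e) ↔ ∃ (w : hypU B e f) (b : E), IsE B 1 e w b g := by
  rw [mem_Q1 h.toHerm h.he h.hf h.hef]
  exact ⟨fun ⟨w, hw, b, _, k⟩ => ⟨⟨w, hw⟩, b, k⟩, fun ⟨w, b, k⟩ => ⟨w, w.2, b, h.tr k, k⟩⟩

theorem mul (h : HP B e f) {w w' : hypU B e f} {b b' : E} {g g' : sIsom B}
    (k : IsE B 1 e w b g) (k' : IsE B 1 e w' b' g') :
    IsE B 1 e ((w + w' : hypU B e f) : M) (b + b' + B w w') (g * g') := by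
  simpa using k.mul h.he (h.we w) (h.ew w') k'

theorem conj (_h : HP B e f) {w w' : hypU B e f} {b c : E} {g p : sIsom B} (hp : p ∈ Fx B (E ∙ e))
    (k : IsE B 1 e w b g) (hw : lin p w = w' + c • e) :
    IsE B 1 e w' (b + σ c - c) (p * g * p⁻¹) := by
  have := k.conj p
  rw [mem_Fx1.1 hp, hw] at this
  exact shift this

theorem comm_iff (h : HP B e f) {w w' : hypU B e f} {b b' : E} {g g' : sIsom B}
    (k : IsE B 1 e w b g) (k' : IsE B 1 e w' b' g') : g * g' = g' * g ↔ B w w' = B w' w := by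
  have k1 := h.mul k k'
  have k2 := h.mul k' k
  rw [add_comm w' w] at k2
  constructor
  · intro e1
    rw [← e1] at k2
    have := (h.uniq k1 k2).2
    linear_combination this
  · intro e1
    rw [← e1, add_comm b' b] at k2
    exact k1.unique k2

theorem zero_of (h : HP B e f) {s : E} (k : ∀ a : E, a * s = σ (a * s)) : s = 0 := by
  obtain ⟨ω, hω⟩ := h.exists_tr (c := 1) (map_one σ)
  have k1 := k 1
  have k2 := k ω
  rw [one_mul] at k1
  rw [map_mul, ← k1] at k2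
  linear_combination (-s) * hω + k2 + (σ ω * s) * h.two

/-- An element of `Q` commuting with `Q` lies in `R`. -/
theorem cent (h : HP B e f) {w : hypU B e f} {b : E} {g : sIsom B} (k : IsE B 1 e w b g)
    (hc : ∀ q ∈ QW B (E ∙ e), g * q = q * g) : w = 0 := by
  refine h.hU.sep w fun v => h.zero_of fun a => ?_
  obtain ⟨b', q, hq⟩ := h.exE (a • v)
  have := (h.comm_iff k hq).1 (hc _ (h.memQ.2 ⟨_, _, hq⟩))
  rw [← h.toHerm.conj (w : M)] at this
  simpa [restr_apply] using this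

theorem cenR (h : HP B e f) {b : E} {r p : sIsom B} (k : IsE B 1 e (0 : hypU B e f) b r)
    (hp : p ∈ Fx B (E ∙ e)) : p * r = r * p := by
  have := h.conj (w' := 0) (c := 0) hp k (by simp)
  rw [map_zero, add_zero, sub_zero] at this
  rw [← mul_inv_eq_iff_eq_mul]
  exact this.unique k

theorem act (h : HP B e f) {π : Fx B (E ∙ e) →* sIsom (restr B (hypU B e f))}
    (hπ : ∀ (p : Fx B (E ∙ e)) (w : hypU B e f),
      lin (p : sIsom B) w - (lin (π p) w : hypU B e f) ∈ E ∙ e) (p : Fx B (E ∙ e)) (w : hypU B e f) :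
    lin (p : sIsom B) w = (lin (π p) w : hypU B e f) + B f (lin (p : sIsom B) w) • e := by
  obtain ⟨c, hc⟩ := Submodule.mem_span_singleton.1 (hπ p w)
  have e1 : lin (p : sIsom B) w = (lin (π p) w : hypU B e f) + c • e := by rw [hc]; abel
  have e2 := congrArg (B f) e1
  rw [map_add, h.fw, map_smul, h.hfe, smul_eq_mul, mul_one, zero_add] at e2
  rw [e2]; exact e1

/-- A homomorphism trivial on `Q` is trivial. -/
theorem stepC (h : HP B e f) (θ : Fx B (E ∙ e) →* sIsom B) (hP : ∀ p, θ p ∈ Fx B (E ∙ e))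
    (hQ : ∀ q : Fx B (E ∙ e), (q : sIsom B) ∈ QW B (E ∙ e) → θ q = q) (p : Fx B (E ∙ e)) :
    θ p = p := by
  obtain ⟨π, ι, -, h2, h3, -⟩ := levi h.toHerm h.he h.hf h.hef
  have nQ : ∀ p ∈ Fx B (E ∙ e), ∀ q ∈ QW B (E ∙ e), p * q * p⁻¹ ∈ QW B (E ∙ e) :=
    fun p hp q hq => mem_normalizer_conj (St_le_Ns (Fx_le_St hp)).1.2 hq
  have key : ∀ p : Fx B (E ∙ e), ∃ r b, IsE B 1 e (0 : hypU B e f) b r ∧ θ p = p * r := by
    intro p
    have hc : (p : sIsom B)⁻¹ * θ p ∈ Fx B (E ∙ e) := mul_mem (inv_mem p.2) (hP p)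
    have h4 : ∀ q ∈ QW B (E ∙ e), (p : sIsom B)⁻¹ * θ p * q = q * ((p : sIsom B)⁻¹ * θ p) := by
      intro q hq
      have e1 := hQ (p * ⟨q, QW_le_Fx hq⟩ * p⁻¹) (nQ _ p.2 _ hq)
      rw [map_mul, map_mul, map_inv, hQ ⟨q, QW_le_Fx hq⟩ hq] at e1
      have e2 : θ p * q * (θ p)⁻¹ = p * q * (p : sIsom B)⁻¹ := e1
      calc (p : sIsom B)⁻¹ * θ p * q = (p : sIsom B)⁻¹ * (θ p * q * (θ p)⁻¹) * θ p := by group
        _ = _ := by rw [e2]; group
    have h5 : π ⟨_, hc⟩ = 1 := lin_ext fun w => by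
      obtain ⟨b, q, hq⟩ := h.exE w
      have k1 := h.conj hc hq (h.act h3 ⟨_, hc⟩ w)
      rw [h4 _ (h.memQ.2 ⟨_, _, hq⟩), mul_inv_cancel_right] at k1
      exact (h.uniq k1 hq).1
    obtain ⟨w, b, k⟩ := h.memQ.1 ((h2 _).1 h5)
    obtain rfl := h.cent k h4
    exact ⟨_, b, k, by group⟩
  have : ⁅Fx B (E ∙ e), Fx B (E ∙ e)⁆ ≤ (θ.eqLocus (Fx B (E ∙ e)).subtype).map (Fx B (E ∙ e)).subtype := by
    rw [commutator_le]
    intro a ha a' ha'
    refine ⟨⁅(⟨a, ha⟩ : Fx B (E ∙ e)), ⟨a', ha'⟩⁆, ?_, rfl⟩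
    obtain ⟨r, b, k, e1⟩ := key ⟨a, ha⟩
    obtain ⟨r', b', k', e2⟩ := key ⟨a', ha'⟩
    change θ _ = ⁅a, a'⁆
    rw [map_commutatorElement, e1, e2]
    have c1 := h.cenR k ha'
    have c2 := h.cenR k' ha
    have c3 := h.cenR k (h.memP k')
    have c4 := h.cenR k' ha'
    change ⁅a * r, a' * r'⁆ = ⁅a, a'⁆
    simp only [commutatorElement_def]
    calc a * r * (a' * r') * (a * r)⁻¹ * (a' * r')⁻¹
        = a * (r * a') * (r' * r⁻¹) * a⁻¹ * r'⁻¹ * a'⁻¹ := by group
      _ = a * (a' * r) * (r⁻¹ * r') * a⁻¹ * r'⁻¹ * a'⁻¹ := by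
          rw [← c1, show r' * r⁻¹ = r⁻¹ * r' by
            rw [mul_inv_eq_iff_eq_mul, mul_assoc, c3, inv_mul_cancel_left]]
      _ = a * a' * (r' * a⁻¹) * r'⁻¹ * a'⁻¹ := by group
      _ = a * a' * (a⁻¹ * r') * r'⁻¹ * a'⁻¹ := by
          rw [show r' * a⁻¹ = a⁻¹ * r' by
            rw [mul_inv_eq_iff_eq_mul, mul_assoc, ← c2, inv_mul_cancel_left]]
      _ = _ := by group
  rw [h.perf_Fx h.he h.e0] at this
  obtain ⟨p', hp', e1⟩ := this p.2
  obtain rfl : p' = p := Subtype.ext e1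
  exact hp'

/-- A homomorphism trivial on `Q/R` and on `R` is inner on `Q`. -/
theorem stepB (h : HP B e f) (θ : Fx B (E ∙ e) →* sIsom B) (hP : ∀ p, θ p ∈ Fx B (E ∙ e))
    (hQ : ∀ (q : Fx B (E ∙ e)) (w : hypU B e f) b, IsE B 1 e w b q → ∃ b', IsE B 1 e w b' (θ q))
    (hR : ∀ (r : Fx B (E ∙ e)) b, IsE B 1 e (0 : hypU B e f) b r → θ r = r) :
    ∃ v ∈ Fx B (E ∙ e), ∀ q : Fx B (E ∙ e), (q : sIsom B) ∈ QW B (E ∙ e) → v * θ q * v⁻¹ = q := by
  obtain ⟨π, ι, h1, -, h3, -⟩ := levi h.toHerm h.he h.hf h.hef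
  have hχ : ∀ w : hypU B e f, ∃ c : E, σ c = c ∧
      ∀ (q : Fx B (E ∙ e)) b, IsE B 1 e w b q → IsE B 1 e w (b + c) (θ q) := by
    intro w
    obtain ⟨b0, q0, k0⟩ := h.exE w
    obtain ⟨b1, k1⟩ := hQ q0 w b0 k0
    have t0 := h.tr k0
    have t1 := h.tr k1
    refine ⟨b1 - b0, by rw [map_sub]; linear_combination t1 - t0 + (b0 - b1) * h.two, ?_⟩
    intro q b k
    have t2 := h.tr k
    obtain ⟨r, kr⟩ := h.exE' 0 (b := b - b0) (by
      rw [map_sub]; simp only [ZeroMemClass.coe_zero, map_zero]; linear_combination t2 - t0)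
    have k2 := h.mul k0 kr
    have k3 := h.mul k1 kr
    simp only [add_zero, ZeroMemClass.coe_zero, map_zero] at k2 k3
    rw [add_sub_cancel] at k2
    obtain rfl : q = q0 * r := Subtype.ext (k.unique k2)
    rw [map_mul, hR r _ kr]
    convert k3 using 1; ring
  choose χ0 χσ hχ using hχ
  have χadd : ∀ w w', χ0 (w + w') = χ0 w + χ0 w' := fun w w' => by
    obtain ⟨b, q, k⟩ := h.exE w
    obtain ⟨b', q', k'⟩ := h.exE w'
    have k1 := hχ _ (q * q') _ (h.mul k k')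
    rw [map_mul] at k1
    have := (h.uniq k1 (h.mul (hχ _ _ _ k) (hχ _ _ _ k'))).2
    linear_combination this
  let χ : hypU B e f →+ E := AddMonoidHom.mk' χ0 χadd
  have χc : ∀ (p : Fx B (E ∙ e)) (w : hypU B e f), χ0 (lin (π p) w) = χ0 w +
      (σ (B f (lin (θ p) w)) - B f (lin (θ p) w)) -
      (σ (B f (lin (p : sIsom B) w)) - B f (lin (p : sIsom B) w)) := fun p w => by
    obtain ⟨b, q, k⟩ := h.exE w
    have k1 := hχ _ (p * q * p⁻¹) _ (h.conj p.2 k (h.act h3 p w))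
    rw [map_mul, map_mul, map_inv] at k1
    have k2 := h.conj (hP p) (hχ _ _ _ k) (h.act h3 ⟨_, hP p⟩ w)
    have := (h.uniq k1 k2).2
    linear_combination this
  have χF : ∀ a, σ a = a → ∀ w, χ0 (a • w) = a * χ0 w := fun a ha w => by
    have := hom_inv h.hU h.four
      (χ.comp (DistribSMul.toAddMonoidHom _ a) - (AddMonoidHom.mulLeft a).comp χ) fun g x => by
        have e1 := χc (ι g) x
        have e2 := χc (ι g) (a • x)
        rw [h1] at e1 e2
        simp only [Submodule.coe_smul, map_smul, smul_eq_mul, map_mul, ha] at e2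
        change χ0 (a • lin g x) - a * χ0 (lin g x) = χ0 (a • x) - a * χ0 x
        rw [e1, e2]; ring
    have e1 := DFunLike.congr_fun this w
    change χ0 (a • w) - a * χ0 w = 0 at e1
    exact sub_eq_zero.1 e1
  obtain ⟨ω, hω⟩ := h.exists_tr (c := 1) (map_one σ)
  have lω : ∀ w, χ0 (ω • ω • w) = χ0 (ω • w) + σ ω * ω * χ0 w := fun w => by
    rw [← χF _ (by rw [map_mul, h.ss, mul_comm]), ← χadd, smul_smul, ← add_smul]
    congr 2
    linear_combination ω * hω - (σ ω * ω) * h.two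
  let l : hypU B e f →ₗ[E] E :=
    { toFun := fun w => χ0 (ω • w) + σ ω * χ0 w
      map_add' := fun w w' => by rw [smul_add, χadd, χadd]; ring
      map_smul' := fun a w => by
        have hd : σ (a + σ a) = a + σ a := by rw [map_add, h.ss, add_comm]
        have hc : σ (a + (a + σ a) * ω) = a + (a + σ a) * ω := by
          rw [map_add, map_mul, hd]
          linear_combination (a + σ a) * hω + (σ a - (a + σ a) * ω) * h.two
        have ea : a • w = (a + (a + σ a) * ω) • w + (a + σ a) • ω • w := by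
          rw [smul_smul, ← add_smul]
          congr 1
          linear_combination (-(a + σ a) * ω) * h.two
        have eb : ω • a • w = (a + (a + σ a) * ω) • ω • w + (a + σ a) • ω • ω • w := by
          rw [ea]; module
        rw [eb, χadd, χF _ hc, χF _ hd, lω]
        conv_lhs => rw [ea, χadd, χF _ hc, χF _ hd]
        simp only [RingHom.id_apply, smul_eq_mul]
        linear_combination ((a + σ a) * χ0 (ω • w)) * hω +
          ((a + σ a) * χ0 (ω • w) + (a + σ a) * σ ω * ω * χ0 w) * h.two }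
  obtain ⟨w0, hw0⟩ := h.hU.toGood.exists_eq_dual l
  obtain ⟨b0, v, kv⟩ := h.exE w0
  refine ⟨v, v.2, fun q hq => ?_⟩
  obtain ⟨w, b, k⟩ := h.memQ.1 hq
  have k1 := h.conj (w' := w) (c := -B w0 w) v.2 (hχ _ _ _ k) (by
    rw [kv, h.ew]; simp [sub_eq_add_neg])
  refine k1.unique ?_
  convert k using 1
  have e1 : B w0 w = χ0 (ω • w) + σ ω * χ0 w := hw0 w
  rw [e1, map_neg, map_add, map_mul, χσ, χσ, h.ss]
  linear_combination (-χ0 w) * hω + (σ ω * χ0 w) * h.two

end HP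

end Cfsg.Lib.UM.AP2
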