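import Cfsg.Agent.UM.P1a
import Cfsg.Agent.UM.LIFT
import Cfsg.Agent.UM.S1
import Cfsg.Agent.UM.S2
import Cfsg.Agent.UM.S3

/-!
# Standard subgroups of type `U_m(2ⁿ)`: the field case, fusion of `t`
-/

set_option autoImplicit false
set_option linter.unusedSectionVars false

namespace Cfsg.Lib.UM

open Subgroup Module Cfsg.Lib.Trans Cfsg.Lib.Gold Cfsg.Lib.Class.Form Cfsg.Lib.Class.FAut
open Cfsg.Lib.SG2 (Uq Top Pp)
open Cfsg.Lib.Comp (Tw)
open scoped commutatorElement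

variable {G E M : Type*} [Group G] [Finite G] [Field E] [Finite E] [AddCommGroup M] [Module E M]
  [FiniteDimensional E M] {σ : E →+* E} {B : M →ₛₗ[σ] M →ₗ[E] E} {φ : sIsom B →* G} {t : G}

namespace EFa

section Th
variable {m : ℕ} {ψ : Matrix.SpecialLinearGroup (Fin m) E →* G} {c c' : G} {τ τ' : E ≃+* E}
  {b b' : Bool}

theorem th_one : Th ψ 1 1 false := Th.of_mem (one_mem _)

theorem th_inv (h : MS σ ψ) (k : Th ψ c τ b) : Th ψ c⁻¹ τ⁻¹ b := by
  obtain ⟨ρ, d, k'⟩ := h.exists_Th (inv_mem k.mem)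
  have e := k.mul k'
  rw [mul_inv_cancel] at e
  obtain ⟨e1, e2⟩ := e.uniq h th_one
  obtain rfl := eq_inv_of_mul_eq_one_right e1
  obtain rfl : d = b := by cases b <;> cases d <;> simp_all
  exact k'

theorem th_conj (h : MS σ ψ) (k : Th ψ c τ b) (k' : Th ψ c' τ' b') :
    Th ψ (c' * c * c'⁻¹) τ b := by
  have := (k'.mul k).mul (th_inv h k')
  rwa [aut_comm τ' τ, mul_inv_cancel_right, show xor (xor b' b) b' = b by
    cases b <;> cases b' <;> rfl] at this

theorem th_comm (h : MS σ ψ) (k : Th ψ c τ b) (k' : Th ψ c' τ' b') : Th ψ ⁅c, c'⁆ 1 false := by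
  have := (th_conj h k' k).mul (th_inv h k')
  rwa [mul_inv_cancel, Bool.xor_self] at this

theorem th_mul0 (k : Th ψ c τ b) (k' : Th ψ c' τ' b) : Th ψ (c * c') (τ * τ') false := by
  have := k.mul k'
  rwa [Bool.xor_self] at this

end Th

theorem th_t {ψ} (h : EF φ t ψ) : Th ψ t (sg σ) true :=
  ⟨1, fun g => (h.act g).trans (congrArg ψ (Subtype.ext (by simp [Chev.coe_slCj])))⟩

end EFa

open EFa

theorem EF.odd {ψ} (h : EF φ t ψ) : Odd (Nat.card (Cs ψ.range)) :=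
  h.toH1.odd_Cs h.le h.cO (th_t h).mem fun ht =>
    Bool.noConfusion ((th_t h).uniq h.ms (Th.of_mem (mem_sup_right ht))).2

theorem EF.uq {ψ} (h : EF φ t ψ) : Uq (Ns ψ.range) t := by
  intro g hg
  have t2 := Comp.conj_sq h.t2 g
  obtain ⟨τ, b, k⟩ := h.ms.exists_Th hg
  have h1 := k.mul k
  rw [t2] at h1
  rcases h.toMo.aut_inv (h1.uniq h.ms th_one).1 with rfl | rfl
  · obtain ⟨A, h2, h3, h4⟩ := k.rank h.ms t2
    exact absurd (h.toHyp.jl' g h3 h2) (not_lt.2 h4)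
  · cases b
    · obtain ⟨Y, h2, h3, h4⟩ := k.field h.ms t2
      obtain ⟨r, j, hr, h5, h6, h7, h8⟩ := h.toMo.zs
      exact absurd ((h4 r j hr h5 h6 h7).trans ((card_dvd_of_le ((h.toHyp.cx g).perf h3 h2)).trans
        (card_range_dvd _))) h8
    · obtain ⟨a, ha, e⟩ := Th.herm h.ms h.odd h.t2 h.act k t2
      exact (mul_mem_cancel_left ((sup_le (zpowers_le.2 (mul_mem (th_t h).mem hg))
        le_normalizer : _ ≤ Ns ψ.range) ha)).1 (h.nL (mem_C1.2 (by
          conv_rhs => rw [← e]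
          group)))

end Cfsg.Lib.UM
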