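import Cfsg.Agent.UM.ES
import Cfsg.Agent.UM.SYL
import Cfsg.Agent.UM.J1
import Cfsg.Agent.UM.KIT
import Cfsg.Agent.UM.K4
import Cfsg.Agent.UM.N0

/-!
# Standard subgroups of type `U_m(2ⁿ)`: the Thompson subgroup in the split case
-/

set_option autoImplicit false
set_option linter.unusedSectionVars false

namespace Cfsg.Lib.UM

open Subgroup Module Cfsg.Lib.Trans Cfsg.Lib.Gold Cfsg.Lib.Class.Form Cfsg.Lib.Class.FAut
open Cfsg.Lib.SG2 (Uq Top Pp)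
open Cfsg.Lib.Comp (Tw)
open scoped commutatorElement

variable {G E M : Type*} [Group G] [Finite G] [Field E] [Finite E] [AddCommGroup M] [Module E M]
  [FiniteDimensional E M] {σ : E →+* E} {B : M →ₛₗ[σ] M →ₗ[E] E} {φ φ' : sIsom B →* G} {t : G}
  {X : Subgroup G} {y z : sIsom B →* G} {P : Subgroup G} {U : Subgroup (sIsom B)}
  {W : Submodule E M} {u : M} {γ : (E ≃+* E) →* MulAut (sIsom B)}

theorem Fr.fc (k : Fr B U W u γ) (h : Mod φ) :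
    Fc (U.map φ) ((VW B W).map φ) ((RR B u).map φ) (qn σ) (qn σ ^ (kk E M ^ 2)) := by
  have m := h.toMo
  have hU := k.syl.isPGroup
  have tw : ∀ a ∈ U, Tw a := fun a => Tw.of_mem hU
  have hV := k.V_le m
  have hR := k.R_le m
  have q2 := m.two_le
  have k3 := m.three_le
  refine ⟨hU.map φ, map_mono hV, map_mono (hR.trans inf_le_left), ?_, ?_, ?_, ?_, q2, ?_, ?_, ?_, ?_,
    ?_⟩
  · rintro _ ⟨r, hr, rfl⟩
    refine Gold.mem_Cs.2 ?_
    rintro _ ⟨a, ha, rfl⟩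
    rw [← map_mul, ← map_mul, Gold.mem_Cs.1 (hR hr).2 a ha]
  · rintro _ ⟨v, hv, rfl⟩
    rw [← map_mul, m.sq_VW k.mx.ti hv, map_one]
  · rw [h.card_map (hU.to_le ((hR.trans inf_le_left).trans hV)), m.card_RR k.iso k.ne]
  · rw [h.card_map (hU.to_le hV), k.card_V m]
  · conv_lhs => rw [← pow_one (qn σ)]
    exact Nat.pow_lt_pow_right q2 (by nlinarith)
  · rintro _ ⟨⟨a, ha, rfl⟩, hc⟩
    exact mem_map_of_mem _ (k.zU m ⟨ha, Gold.mem_Cs.2 fun b hb =>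
      (h.comm2 (tw b hb) (Gold.mem_Cs.1 hc _ (mem_map_of_mem _ hb))).eq⟩)
  · intro N h1 h2
    have e : (U ⊓ N.comap φ).map φ = N := le_antisymm (map_le_iff_le_comap.2 inf_le_right)
      fun x hx => by
        obtain ⟨a, ha, rfl⟩ := h1 hx
        exact mem_map_of_mem _ ⟨ha, hx⟩
    rcases k.nrm m (N := U ⊓ N.comap φ) inf_le_left (fun a ha => mem_normalizer_of_cj_le
      (cj_le_iff.2 fun b hb => mem_inf.2 ⟨U.mul_mem (U.mul_mem ha hb.1) (U.inv_mem ha), by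
        rw [mem_comap, map_mul, map_mul, map_inv]
        exact mem_normalizer_conj (h2 (mem_map_of_mem _ ha)) hb.2⟩)) with e1 | e1
    · exact Or.inl (e ▸ map_mono e1)
    · exact Or.inr (e ▸ map_mono e1)
  · rintro _ ⟨v, hv, rfl⟩ hn
    have e : U.map φ ⊓ C1 (φ v) = (U ⊓ C1 v).map φ := le_antisymm (by
      rintro _ ⟨⟨a, ha, rfl⟩, hc⟩
      exact mem_map_of_mem _ ⟨ha, mem_C1.2 (h.comm2 (tw a ha) (mem_C1.1 hc)).eq⟩) (by
      rintro _ ⟨a, ha, rfl⟩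
      exact ⟨mem_map_of_mem _ ha.1, mem_C1.2 (by rw [← map_mul, ← map_mul, mem_C1.1 ha.2])⟩)
    rw [e, h.card_map (hU.to_le inf_le_left), h.card_map hU]
    exact k.idx m hv fun e => hn (mem_map_of_mem _ e)
  · intro A h1 h2
    obtain ⟨A₀, k1, rfl, k2⟩ := h.liftE h2 (h1.trans (map_le_range _ _))
    rw [← k2]
    exact ⟨(m.j1 k1).1, fun e => by
      rw [k.jU m k1 (fun a ha => h.mem_map2 hU (Tw.of_sq (k1 a ha)) (h1 (mem_map_of_mem _ ha))) e]⟩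

theorem ES.dU (h : ES φ t y z) (hU : IsPGroup 2 U) (U' : Subgroup (sIsom B)) :
    U.map y ⊓ U'.map z = ⊥ := h.inf2 (map_le_range _ _) (map_le_range _ _) (hU.map y)

theorem ES.J_eq (h : ES φ t y z) (k : Fr B U W u γ) {A : Subgroup G}
    (hA : A ≤ U.map y ⊔ U.map z) (h2 : ∀ a ∈ A, a * a = 1)
    (hc : qn σ ^ (2 * kk E M ^ 2) ≤ Nat.card A) : A = (VW B W).map y ⊔ (VW B W).map z :=
  N0.J_eq (k.fc h.my) (k.fc h.mz) (h.map_Cs _ _) (h.dU k.syl.isPGroup _) hA h2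
    (by rwa [← pow_add, ← two_mul])

theorem ES.card_J (h : ES φ t y z) (k : Fr B U W u γ) :
    Nat.card ↥((VW B W).map y ⊔ (VW B W).map z) = qn σ ^ (2 * kk E M ^ 2) := by
  rw [N0.card_J (k.fc h.my) (k.fc h.mz) (h.map_Cs _ _) (h.dU k.syl.isPGroup _), ← pow_add, ← two_mul]

theorem ES.J_sq (h : ES φ t y z) (k : Fr B U W u γ) :
    ∀ a ∈ (VW B W).map y ⊔ (VW B W).map z, a * a = 1 :=
  N0.sup_sq (h.map_Cs _ _) (k.fc h.my).el (k.fc h.mz).el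

theorem ES.J_le (h : ES φ t y z) (k : Fr B U W u γ) :
    (VW B W).map y ⊔ (VW B W).map z ≤ U.map y ⊔ U.map z :=
  sup_le_sup (k.fc h.my).VU (k.fc h.mz).VU

theorem ES.wc (h : ES φ t y z) (k : Fr B U W u γ) {g : G}
    (hg : cj g ((VW B W).map y ⊔ (VW B W).map z) ≤ U.map y ⊔ U.map z) :
    cj g ((VW B W).map y ⊔ (VW B W).map z) = (VW B W).map y ⊔ (VW B W).map z :=
  h.J_eq k hg (N0.sq_cj (h.J_sq k) g) (by rw [card_cj, h.card_J k])

theorem FS.fus_J (h : FS φ t y z X U) (k : Fr B U W u γ) {v g : G}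
    (hv : v ∈ (VW B W).map y ⊔ (VW B W).map z) (hg : g ∈ X)
    (hv' : g * v * g⁻¹ ∈ (VW B W).map y ⊔ (VW B W).map z) :
    ∃ n ∈ X ⊓ Ns ((VW B W).map y ⊔ (VW B W).map z), n * v * n⁻¹ = g * v * g⁻¹ := by
  have k1 := (h.toES.J_le k).trans h.syl.le
  have k2 := h.syl.isPGroup.to_le (h.toES.J_le k)
  have k3 := le_Cs_of_sq (h.toES.J_sq k) le_rfl
  obtain ⟨c, hc, f, hf, e1, e2⟩ := N0.common (w := g * v * g⁻¹) h.syl k2 (isPGroup_cj k2 g)
    (le_inf k1 (k3.trans (Cs_le_C1 hv')))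
    (le_inf (cj_le_of_mem_of_le hg k1) (by
      rw [← cj_C1]; exact cj_mono g (k3.trans (Cs_le_C1 hv))))
  rw [cj_cj] at e2
  have e3 := (h.toES.wc k e2).trans (h.toES.wc k e1).symm
  rw [mul_assoc, cj_mul, cj_inj] at e3
  exact ⟨c * g, ⟨mul_mem hc.1 hg, mem_Ns_iff.2 e3⟩, by
    rw [show c * g * v * (c * g)⁻¹ = c * (g * v * g⁻¹) * c⁻¹ by group, mem_C1.1 hc.2,
      mul_inv_cancel_right]⟩

theorem ES.alpha (h : ES φ t y z) (k : Fr B U W u γ) {g : G}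
    (hg : cj g ((VW B W).map y ⊔ U.map z) ≤ U.map y ⊔ U.map z) :
    cj g ((RR B u).map z) = (RR B u).map z ∨ cj g ((RR B u).map z) = (RR B u).map y := by
  have hU := k.syl.isPGroup
  have k1 := k.fc (h.mz.cx g)
  simp only [map_cx] at k1
  rw [cj_sup] at hg
  refine N0.alpha (k.fc h.my) (k.fc h.mz) (h.map_Cs _ _) (h.dU hU _) k1
    (N0.sq_cj (k.fc h.my).el g) (by rw [card_cj, (k.fc h.my).cardV]) ?_ ?_ hg
    (by rw [card_cj, h.my.card_map hU, h.mz.card_map hU]) (by rw [card_cj])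
  · rw [← cj_Cs]; exact cj_mono g (h.map_Cs _ _)
  · rw [← cj_inf, h.dU (hU.to_le (k.V_le h.toMo)), cj_bot]

end Cfsg.Lib.UM
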