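import Cfsg.Agent.UM.N1

/-!
# Standard subgroups of type `U_m(2ⁿ)`: the root groups of the two factors are not fused
-/

set_option autoImplicit false
set_option linter.unusedSectionVars false

namespace Cfsg.Lib.UM

open Subgroup Module Cfsg.Lib.Trans Cfsg.Lib.Gold Cfsg.Lib.Class.Form Cfsg.Lib.Class.FAut
open Cfsg.Lib.SG2 (Uq Top Pp)
open Cfsg.Lib.Comp (Tw)
open scoped commutatorElement

variable {G E M : Type*} [Group G] [Finite G] [Field E] [Finite E] [AddCommGroup M] [Module E M]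
  [FiniteDimensional E M] {σ : E →+* E} {B : M →ₛₗ[σ] M →ₗ[E] E} {φ φ' : sIsom B →* G} {t : G}
  {X : Subgroup G} {y z : sIsom B →* G} {P : Subgroup G} {U : Subgroup (sIsom B)}
  {W : Submodule E M} {u : M} {γ : (E ≃+* E) →* MulAut (sIsom B)}

theorem ES.T_le_Cs (h : ES φ t y z) (k : Fr B U W u γ) :
    U.map y ⊔ U.map z ≤ Cs ((RR B u).map y) :=
  sup_le (le_Cs_comm.1 (k.fc h.my).cR) (h.symm.map_Cs _ _)

theorem ES.R_ne (h : ES φ t y z) (k : Fr B U W u γ) : (RR B u).map y ≠ (RR B u).map z := fun e => by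
  have k1 := k.fc h.my
  have k2 := k.fc h.mz
  have : (RR B u).map y = ⊥ := eq_bot_iff.2 fun a ha =>
    N0.one (h.dU k.syl.isPGroup U) (k1.VU (k1.RV ha)) (k2.VU (k2.RV (e ▸ ha)))
  have k3 := k1.cardR
  rw [this, card_bot] at k3
  exact absurd k1.one_lt (by omega)

theorem Fr.T_mem (k : Fr B U W u γ) (h : Mo B) : tT B u 1 ∈ RR B u :=
  h.tT_mem k.iso (Submodule.mem_span_singleton_self u) (map_one σ)

theorem Mod.T_ne (h : Mod φ) {x : M} (hx : B x x = 0) (x0 : x ≠ 0) : φ (tT B x 1) ≠ 1 := fun e =>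
  h.toMo.tT_ne hx x0 (map_one σ) one_ne_zero (h.inj2 (Tw.of_sq (h.toMo.tT_sq hx (map_one σ))) e)

theorem FS.yX (h : FS φ t y z X U) : y.range ≤ X := le_sup_left.trans h.le
theorem FS.zX (h : FS φ t y z X U) : z.range ≤ X := le_sup_right.trans h.le

theorem FS.nT (h : FS φ t y z X U) (k : Fr B U W u γ) :
    X ⊓ Ns (U.map y ⊔ U.map z) ≤ Ns ((RR B u).map y) ⊓ Ns ((RR B u).map z) := fun n hn => by
  have e := mem_Ns_iff.1 hn.2
  have ne := h.toES.R_ne k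
  have k1 := h.toES.alpha k (g := n) ((cj_mono n (sup_le_sup_right (k.fc h.my).VU _)).trans e.le)
  have k2 := h.toES.symm.alpha k (g := n) (by
    rw [sup_comm, sup_comm (U.map z)]
    exact (cj_mono n (sup_le_sup_left (k.fc h.mz).VU _)).trans e.le)
  rcases k1 with k1 | k1 <;> rcases k2 with k2 | k2
  · exact ⟨mem_Ns_iff.2 k2, mem_Ns_iff.2 k1⟩
  · exact absurd (cj_inj.1 (k2.trans k1.symm)) ne
  · exact absurd (cj_inj.1 (k2.trans k1.symm)) ne
  obtain ⟨m, ⟨j, rfl⟩, hm⟩ := SG2.odd_pow_mem h.syl hn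
  have k3 : n ^ 2 ∈ Ns ((RR B u).map y) := mem_Ns_iff.2 (by rw [sq, cj_mul, k2, k1])
  have k4 := Cs_le_Ns (h.toES.T_le_Cs k hm)
  rw [pow_succ, pow_mul, mul_mem_cancel_left (pow_mem k3 j)] at k4
  exact absurd ((mem_Ns_iff.1 k4).symm.trans k2) ne

theorem FS.nconj (h : FS φ t y z X U) (k : Fr B U W u γ) {x : M} (hx : B x x = 0) (x0 : x ≠ 0)
    {g : G} (hg : g ∈ X) : g * z (tT B x 1) * g⁻¹ ∉ (VW B W).map y := fun hv => by
  have := Fact.mk Nat.prime_two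
  have m := h.toMo
  have k1 := k.fc h.my
  have k2 := k.fc h.mz
  have hd := h.toES.dU k.syl.isPGroup U
  obtain ⟨l, hl⟩ := m.tT_conj' k.iso k.ne hx x0 (map_one σ) one_ne_zero (map_one σ) one_ne_zero
  have r0 := h.mz.T_ne k.iso k.ne
  have r1 : z (tT B u 1) ∈ (RR B u).map z := mem_map_of_mem _ (k.T_mem m)
  have r2 : U.map y ⊔ U.map z ≤ Cs ((RR B u).map z) := by rw [sup_comm]; exact h.toES.symm.T_le_Cs k
  generalize hr : z (tT B u 1) = r at r0 r1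
  have e : g * z (tT B x 1) * g⁻¹ = g * z l * r * (g * z l)⁻¹ := by
    rw [← hl, map_mul, map_mul, map_inv, hr]; group
  have hg' : g * z l ∈ X := mul_mem hg (h.zX ⟨l, rfl⟩)
  rw [e] at hv
  generalize g * z l = g' at hv hg'
  have s1 : IsSylowIn 2 (U.map y ⊔ U.map z) (X ⊓ C1 r) :=
    h.syl.mono (le_inf h.syl.le (r2.trans (Cs_le_C1 r1))) inf_le_left
  have s2 : (VW B W).map y ⊔ U.map z ≤ U.map y ⊔ U.map z := sup_le_sup_right k1.VU _
  obtain ⟨c, hc, s3⟩ := s1.exists_cj_le (isPGroup_cj (h.syl.isPGroup.to_le s2) g'⁻¹)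
    (le_inf (cj_le_of_mem_of_le (inv_mem hg') (s2.trans h.syl.le)) (by
      rw [cj_inv_le_iff_le_cj, cj_C1]
      exact sup_le ((le_Cs_of_sq k1.el le_rfl).trans (Cs_le_C1 hv))
        ((h.toES.symm.map_Cs _ _).trans (Cs_le_C1 hv))))
  rw [cj_cj] at s3
  rcases h.toES.alpha k s3 with s4 | s4
  · rw [← s4, mem_cj, show (c * g'⁻¹)⁻¹ * r * (c * g'⁻¹) = g' * (c⁻¹ * r * c) * g'⁻¹ by group,
      mul_assoc c⁻¹, ← mem_C1.1 hc.2, inv_mul_cancel_left] at r1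
    exact r0 (by simpa using N0.one hd (k1.VU hv) (k2.VU (k2.RV r1)))
  · have s5 : c * g'⁻¹ * r * (c * g'⁻¹)⁻¹ ∈ (RR B u).map y := s4 ▸ conj_mem_cj.2 r1
    obtain ⟨n, hn, s6⟩ := SG2.burn_fus h.syl
      ⟨mem_sup_right (k2.VU (k2.RV r1)), le_Cs_comm.1 r2 r1⟩ (mul_mem hc.1 (inv_mem hg'))
      ⟨mem_sup_left (k1.VU (k1.RV s5)), le_Cs_comm.1 (h.toES.T_le_Cs k) s5⟩
    rw [← s6] at s5
    have s7 := N0.one hd (k1.VU (k1.RV s5)) (k2.VU (k2.RV (mem_normalizer_conj (h.nT k hn).2 r1)))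
    exact r0 (by simpa using s7)

end Cfsg.Lib.UM
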