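import Cfsg.Agent.UM.N2
import Cfsg.Agent.UM.PN

/-!
# Standard subgroups of type `U_m(2ⁿ)`: involutions of a factor are strongly closed
-/

set_option autoImplicit false
set_option linter.unusedSectionVars false

namespace Cfsg.Lib.UM

open Subgroup Module Cfsg.Lib.Trans Cfsg.Lib.Gold Cfsg.Lib.Class.Form Cfsg.Lib.Class.FAut
open Cfsg.Lib.SG2 (Uq Top Pp)
open Cfsg.Lib.Comp (Tw)
open scoped commutatorElement

variable {G E M : Type*} [Group G] [Finite G] [Field E] [Finite E] [AddCommGroup M] [Module E M]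
  [FiniteDimensional E M] {σ : E →+* E} {B : M →ₛₗ[σ] M →ₗ[E] E} {φ φ' : sIsom B →* G} {t : G}
  {X : Subgroup G} {y z : sIsom B →* G} {P : Subgroup G} {U : Subgroup (sIsom B)}
  {W : Submodule E M} {u : M} {γ : (E ≃+* E) →* MulAut (sIsom B)}

theorem map_Ns {V : Subgroup (sIsom B)} {l : sIsom B} (hl : l ∈ Ns V) : φ l ∈ Ns (V.map φ) :=
  mem_Ns_iff.2 (by rw [← map_cj, mem_Ns_iff.1 hl])

theorem ES.St_Ns (h : ES φ t y z) {l : sIsom B} (hl : l ∈ St B W) :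
    y l ∈ Ns ((VW B W).map y ⊔ (VW B W).map z) :=
  mem_Ns_sup (map_Ns (St_le_Ns hl).1.1) (Cs_le_Ns (h.map_Cs ⊤ _ (mem_map_of_mem _ (mem_top l))))

theorem ES.St_Ns' (h : ES φ t y z) {l : sIsom B} (hl : l ∈ St B W) :
    z l ∈ Ns ((VW B W).map y ⊔ (VW B W).map z) := by
  rw [sup_comm]; exact h.symm.St_Ns hl

theorem ES.T_Ns (h : ES φ t y z) (k : Fr B U W u γ) :
    U.map y ⊔ U.map z ≤ Ns ((VW B W).map y ⊔ (VW B W).map z) :=
  sup_le (map_le_iff_le_comap.2 fun _ hl => h.St_Ns (k.st hl))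
    (map_le_iff_le_comap.2 fun _ hl => h.St_Ns' (k.st hl))

theorem FS.sylJ (h : FS φ t y z X U) (k : Fr B U W u γ) :
    IsSylowIn 2 (U.map y ⊔ U.map z) (X ⊓ Ns ((VW B W).map y ⊔ (VW B W).map z)) :=
  h.syl.mono (le_inf h.syl.le (h.toES.T_Ns k)) inf_le_left

theorem Fr.inv_St (k : Fr B U W u γ) {a : sIsom B} (ha : a ∈ St B W) (a2 : a * a = 1) :
    ∃ l ∈ St B W, ∃ b ∈ U, b * b = 1 ∧ a = l * b * l⁻¹ := by
  have := Fact.mk Nat.prime_two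
  obtain ⟨l, hl, e⟩ := (k.syl.mono k.st le_top).exists_cj_le (Tw.of_sq a2).isPGroup (zpowers_le.2 ha)
  exact ⟨l⁻¹, inv_mem hl, l * a * l⁻¹, cj_le_iff.1 e a (mem_zpowers a), by rw [conj_mul, a2]; simp,
    by group⟩

theorem Fr.inv_V (k : Fr B U W u γ) (h : Mo B) {a : sIsom B} (a2 : a * a = 1) :
    ∃ l, l * a * l⁻¹ ∈ VW B W := by
  obtain ⟨W', k1, k2⟩ := h.inv a2
  obtain ⟨l, hl⟩ := h.trW k1 k.mx
  exact ⟨l, (cj_sub hl).1 ▸ conj_mem_cj.2 k2⟩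

theorem Fr.two_le (k : Fr B U W u γ) (h : Mo B) : 2 ≤ finrank E W := by
  have := h.three_le
  rw [k.mx.dim]; omega

theorem FS.root (h : FS φ t y z X U) (k : Fr B U W u γ) {J : Subgroup G}
    (hJ : J = (VW B W).map y ⊔ (VW B W).map z) {H : Subgroup G} (hH : H ≤ X) :
    ∀ a ∈ U.map z, a * a ∈ Cs J → a ∉ Cs J →
      ∃ v ∈ (VW B W).map z, ∀ g ∈ H, g * ⁅v, a⁆ * g⁻¹ ∉ (VW B W).map y := by
  rintro _ ⟨a, ha, rfl⟩ h1 h2
  have m := h.toMo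
  subst hJ
  have tw := Tw.of_mem k.syl.isPGroup (mul_mem ha ha)
  obtain ⟨v, hv, x, hx, x0, e⟩ := m.rootV k.mx.ti (k.st ha) (m.cV k.mx.ti tw
    (Gold.mem_Cs.2 fun v hv => (h.mz.comm2 tw (by
      rw [map_mul]
      exact (Gold.mem_Cs.1 h1 _ (mem_sup_right (mem_map_of_mem _ hv))).symm)).eq.symm))
    fun e => h2 (le_Cs_comm.1 (sup_le (h.toES.map_Cs _ (zpowers a)) (by
      rintro _ ⟨v, hv, rfl⟩
      refine Gold.mem_Cs.2 ?_
      rintro _ ⟨b, hb, rfl⟩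
      rw [← map_mul, ← map_mul, Gold.mem_Cs.1 (m.Fx_le_Cs (zpowers_le.2 e hb)) v hv]))
      (mem_map_of_mem _ (mem_zpowers a)))
  exact ⟨_, mem_map_of_mem _ hv, fun g hg => by
    rw [← map_commutatorElement, e]; exact h.nconj k (k.mx.ti x hx x hx) x0 (hH hg)⟩

theorem FS.nV (h : FS φ t y z X U) (k : Fr B U W u γ) :
    X ⊓ Ns ((VW B W).map y ⊔ (VW B W).map z) ≤ Ns ((VW B W).map y) := fun n hn => by
  have m := h.toMo
  have k1 := k.fc h.my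
  have k2 := k.fc h.mz
  let S : Set G := {s | ∃ c ∈ X ⊓ Ns ((VW B W).map y ⊔ (VW B W).map z), ∃ b ∈ U.map z,
    b * b = 1 ∧ s = c * b * c⁻¹}
  have c1 : (VW B W).map y ≤ centralizer S := map_le_iff_le_comap.2 (m.gen_VW k.mx.ti fun x hx => by
    obtain ⟨a, ha, a2, v, hv, e⟩ := m.rootSt k.mx.ti (k.two_le m) hx
    obtain ⟨l, hl, b, hb, b2, rfl⟩ := k.inv_St ha a2
    rw [mem_comap, ← e, map_commutatorElement, map_mul, map_mul, map_inv, mem_centralizer_iff]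
    rintro _ ⟨c, hc, d, hd, d2, rfl⟩
    exact (prodn rfl (h.toES.J_sq k) inf_le_right (h.sylJ k) (h.toES.map_Cs _ _)
      (h.toES.dU k.syl.isPGroup U) k1.VU k2.VU
      (map_le_iff_le_comap.2 fun _ hl => map_Ns (St_le_Ns (k.st hl)).1.1)
      (map_le_iff_le_comap.2 fun _ hl => map_Ns (St_le_Ns (k.st hl)).1.1)
      (h.symm.root k (sup_comm _ _) inf_le_left) (h.root k rfl inf_le_left)
      (mem_map_of_mem _ hb) (by rw [← map_mul, b2, map_one]) hd d2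
      ⟨h.yX ⟨l, rfl⟩, h.toES.St_Ns hl⟩ hc (mem_sup_left (mem_map_of_mem _ hv))).eq.symm)
  refine mem_normalizer_of_cj_le (cj_le_iff.2 fun v hv => ?_)
  have c2 : n * v * n⁻¹ ∈ centralizer S := mem_centralizer_iff.2 (by
    rintro _ ⟨c, hc, d, hd, d2, rfl⟩
    have := mem_centralizer_iff.1 (c1 hv) _ ⟨n⁻¹ * c, mul_mem (inv_mem hn) hc, d, hd, d2, rfl⟩
    calc _ = n * (n⁻¹ * c * d * (n⁻¹ * c)⁻¹ * v) * n⁻¹ := by group
      _ = _ := by rw [this]; group)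
  obtain ⟨a, ha, _, ⟨b, hb, rfl⟩, e⟩ := (SG2.mem_sup_Cs (h.toES.map_Cs _ _)).1
    (mem_normalizer_conj hn.2 (mem_sup_left hv))
  rw [← e, mul_mem_cancel_left (c1 ha)] at c2
  rw [← e, m.cVSt k.mx.ti (k.two_le m) hb fun d hd d2 => ?_, map_one, mul_one]
  · exact ha
  obtain ⟨l, hl, c, hc, c3, rfl⟩ := k.inv_St hd d2
  refine h.mz.comm2 (Tw.of_sq (m.sq_VW k.mx.ti hb)) ?_
  rw [map_mul, map_mul, map_inv]
  exact (mem_centralizer_iff.1 c2 _ ⟨z l, ⟨h.zX ⟨l, rfl⟩, h.toES.St_Ns' hl⟩, z c,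
    mem_map_of_mem _ hc, by rw [← map_mul, c3, map_one], rfl⟩).symm

theorem FS.ic0 (h : FS φ t y z X U) (k : Fr B U W u γ) {v g : G} (hv : v ∈ (VW B W).map y)
    (hg : g ∈ X) (hv' : g * v * g⁻¹ ∈ (VW B W).map y ⊔ (VW B W).map z) :
    g * v * g⁻¹ ∈ (VW B W).map y := by
  obtain ⟨n, hn, e⟩ := h.fus_J k (mem_sup_left hv) hg hv'
  exact e ▸ mem_normalizer_conj (h.nV k hn) hv

theorem ES.dec_inv (h : ES φ t y z) {c : G} (hc : c ∈ y.range ⊔ z.range) (c2 : c * c = 1) :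
    ∃ a b, a * a = 1 ∧ b * b = 1 ∧ c = y a * z b := by
  obtain ⟨a, b, ha, hb, rfl⟩ := h.dec2 hc (Tw.of_sq c2)
  have one : Tw (1 : sIsom B) := Tw.of_sq (mul_one 1)
  have sq : ∀ a : sIsom B, Tw a → Tw (a * a) := fun a ⟨n, e⟩ =>
    ⟨n, by rw [← pow_two, ← pow_mul, mul_comm, pow_mul, e, one_pow]⟩
  have := h.eq2 (sq a ha) one (sq b hb) one (by
    rw [map_one, map_one, mul_one, ← c2, map_mul, map_mul, mul_assoc, mul_assoc, ← mul_assoc (z b),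
      ← (h.com a b).eq, mul_assoc])
  exact ⟨a, b, this.1, this.2, rfl⟩

theorem FS.ic (h : FS φ t y z X U) (k : Fr B U W u γ) {v g : G} (hv : v ∈ y.range) (v2 : v * v = 1)
    (hg : g ∈ X) (hv' : g * v * g⁻¹ ∈ y.range ⊔ z.range) : g * v * g⁻¹ ∈ y.range := by
  have m := h.toMo
  obtain ⟨a, b, a2, b2, e⟩ := h.toES.dec_inv hv' (by rw [conj_mul, v2]; simp)
  obtain ⟨v, w2, rfl⟩ := h.my.lift_inv hv v2
  obtain ⟨l, k0⟩ := k.inv_V m w2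
  obtain ⟨p, k1⟩ := k.inv_V m a2
  obtain ⟨n, k2⟩ := k.inv_V m b2
  have e2 : y p * z n * g * (y l)⁻¹ * y (l * v * l⁻¹) * (y p * z n * g * (y l)⁻¹)⁻¹ =
      y (p * a * p⁻¹) * z (n * b * n⁻¹) := by
    have c1 := (h.com a n).eq
    have c2 := (h.com p⁻¹ (n * b * n⁻¹)).eq
    simp only [map_mul, map_inv] at c2 ⊢
    calc _ = y p * (z n * (g * y v * g⁻¹) * (z n)⁻¹) * (y p)⁻¹ := by group
      _ = y p * (z n * y a * z b * (z n)⁻¹) * (y p)⁻¹ := by rw [e]; group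
      _ = y p * y a * (z n * z b * (z n)⁻¹ * (y p)⁻¹) := by rw [← c1]; group
      _ = _ := by rw [← c2]; group
  have k3 := h.ic0 k (mem_map_of_mem _ k0) (mul_mem (mul_mem (mul_mem (h.yX ⟨p, rfl⟩)
    (h.zX ⟨n, rfl⟩)) hg) (inv_mem (h.yX ⟨l, rfl⟩)))
    (e2 ▸ mul_mem (mem_sup_left (mem_map_of_mem _ k1)) (mem_sup_right (mem_map_of_mem _ k2)))
  rw [e2, mul_mem_cancel_left (mem_map_of_mem _ k1)] at k3
  have k4 := h.toES.one_of (map_le_range _ _ k3) ⟨_, rfl⟩ (Tw.of_sq ((k.fc h.my).el _ k3))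
  rw [map_mul, map_mul, map_inv] at k4
  rw [e, show z b = 1 by simpa using k4, mul_one]
  exact ⟨a, rfl⟩

end Cfsg.Lib.UM
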