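import Cfsg.Agent.UM.ES

/-!
# Standard subgroups of type `U_m(2ⁿ)`: pure elements
-/

set_option autoImplicit false
set_option linter.unusedSectionVars false

namespace Cfsg.Lib.UM

open Subgroup Module Cfsg.Lib.Trans Cfsg.Lib.Gold Cfsg.Lib.Class.Form Cfsg.Lib.Class.FAut ESa
open Cfsg.Lib.SG2 (Uq Top Pp)
open Cfsg.Lib.Comp (Tw)
open scoped commutatorElement

variable {G E M : Type*} [Group G] [Finite G] [Field E] [Finite E] [AddCommGroup M] [Module E M]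
  [FiniteDimensional E M] {σ : E →+* E} {B : M →ₛₗ[σ] M →ₗ[E] E} {φ φ' : sIsom B →* G} {t : G}
  {X : Subgroup G} {y z : sIsom B →* G} {P : Subgroup G} {U : Subgroup (sIsom B)} {W : Submodule E M}
  {u : M} {γ : (E ≃+* E) →* MulAut (sIsom B)} {p q : G} {τ₁ τ₂ ρ₁ ρ₂ : E ≃+* E}

theorem Nsw.one : Nsw y z γ 1 1 1 := ⟨map_one γ ▸ Mp.one, map_one γ ▸ Mp.one⟩

theorem Nsw.mul (h : Nsw y z γ p τ₁ τ₂) (h' : Nsw y z γ q ρ₁ ρ₂) :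
    Nsw y z γ (p * q) (τ₁ * ρ₁) (τ₂ * ρ₂) :=
  ⟨map_mul γ _ _ ▸ Mp.mul h.1 h'.1, map_mul γ _ _ ▸ Mp.mul h.2 h'.2⟩

theorem Nsw.mul_swp (h : Nsw y z γ p τ₁ τ₂) (h' : Swp y z γ q ρ₁ ρ₂) :
    Swp y z γ (p * q) (τ₂ * ρ₁) (τ₁ * ρ₂) :=
  ⟨map_mul γ _ _ ▸ Mp.mul h.2 h'.1, map_mul γ _ _ ▸ Mp.mul h.1 h'.2⟩

theorem Swp.mul_nsw (h : Swp y z γ p τ₁ τ₂) (h' : Nsw y z γ q ρ₁ ρ₂) :
    Swp y z γ (p * q) (τ₁ * ρ₁) (τ₂ * ρ₂) :=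
  ⟨map_mul γ _ _ ▸ Mp.mul h.1 h'.1, map_mul γ _ _ ▸ Mp.mul h.2 h'.2⟩

theorem Swp.mul (h : Swp y z γ p τ₁ τ₂) (h' : Swp y z γ q ρ₁ ρ₂) :
    Nsw y z γ (p * q) (τ₂ * ρ₁) (τ₁ * ρ₂) :=
  ⟨map_mul γ _ _ ▸ Mp.mul h.2 h'.1, map_mul γ _ _ ▸ Mp.mul h.1 h'.2⟩

theorem Nsw.inv (h : Nsw y z γ p τ₁ τ₂) : Nsw y z γ p⁻¹ τ₁⁻¹ τ₂⁻¹ :=
  ⟨map_inv γ _ ▸ Mp.inv h.1, map_inv γ _ ▸ Mp.inv h.2⟩

theorem Swp.inv (h : Swp y z γ p τ₁ τ₂) : Swp y z γ p⁻¹ τ₂⁻¹ τ₁⁻¹ :=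
  ⟨map_inv γ _ ▸ Mp.inv h.2, map_inv γ _ ▸ Mp.inv h.1⟩

theorem Nsw.pow (h : Nsw y z γ p τ₁ τ₂) (n : ℕ) : Nsw y z γ (p ^ n) (τ₁ ^ n) (τ₂ ^ n) :=
  ⟨map_pow γ _ _ ▸ Mp.pow h.1 n, map_pow γ _ _ ▸ Mp.pow h.2 n⟩

theorem Nsw.symm (h : Nsw y z γ p τ₁ τ₂) : Nsw z y γ p τ₂ τ₁ := ⟨h.2, h.1⟩

theorem Swp.symm (h : Swp y z γ p τ₁ τ₂) : Swp z y γ p τ₂ τ₁ := ⟨h.2, h.1⟩

theorem Nsw.mem_Ns (h : Nsw y z γ p τ₁ τ₂) : p ∈ Ns y.range ⊓ Ns z.range :=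
  ⟨mem_Ns_iff.2 h.1.cj_range, mem_Ns_iff.2 h.2.cj_range⟩

theorem ES.swp_t (h : ES φ t y z) : Swp y z γ t 1 1 := by
  rw [Swp, map_one]
  exact ⟨h.act, h.symm.act⟩

theorem ES.swp_not (h : ES φ t y z) (hp : Swp y z γ p τ₁ τ₂) : p ∉ Ns y.range := fun e =>
  h.ne ((mem_Ns_iff.1 e).symm.trans hp.1.cj_range)

theorem Fr.γ_inj (k : Fr B U W u γ) (e : γ τ₁ = γ τ₂) : τ₁ = τ₂ := by rw [← k.faγ τ₁, e, k.faγ]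

theorem ES.nsw_uniq (h : ES φ t y z) (k : Fr B U W u γ) (h1 : Nsw y z γ p τ₁ τ₂)
    (h2 : Nsw y z γ p ρ₁ ρ₂) : τ₁ = ρ₁ ∧ τ₂ = ρ₂ :=
  ⟨k.γ_inj (h1.1.uniq h.my h2.1), k.γ_inj (h1.2.uniq h.mz h2.2)⟩

theorem ES.swp_uniq (h : ES φ t y z) (k : Fr B U W u γ) (h1 : Swp y z γ p τ₁ τ₂)
    (h2 : Swp y z γ p ρ₁ ρ₂) : τ₁ = ρ₁ ∧ τ₂ = ρ₂ :=
  ⟨k.γ_inj (h1.1.uniq h.mz h2.1), k.γ_inj (h1.2.uniq h.my h2.2)⟩

theorem ES.nsw_of (h : ES φ t y z) (hP : PC t y z U γ P) (hp : p ∈ P) (hn : p ∈ Ns y.range) :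
    ∃ τ₁ τ₂, Nsw y z γ p τ₁ τ₂ :=
  let ⟨a, b, _, _, e⟩ := hP.pure p hp
  ⟨a, b, e.resolve_right fun e => h.swp_not e hn⟩

theorem PC.swp_of (hP : PC t y z U γ P) (hp : p ∈ P) (hn : p ∉ Ns y.range) :
    ∃ τ₁ τ₂, Swp y z γ p τ₁ τ₂ :=
  let ⟨a, b, _, _, e⟩ := hP.pure p hp
  ⟨a, b, e.resolve_left fun e => hn e.mem_Ns.1⟩

theorem PC.nsw_ext (hP : PC t y z U γ P) (hp : p ∈ P) (hq : q ∈ P) (h1 : Nsw y z γ p τ₁ τ₂)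
    (h2 : Nsw y z γ q τ₁ τ₂) : p = q := by
  have := h1.mul h2.inv
  rw [mul_inv_cancel τ₁, mul_inv_cancel τ₂] at this
  exact mul_inv_eq_one.1 (hP.inj _ (mul_mem hp (inv_mem hq)) this)

theorem PC.swp_ext (hP : PC t y z U γ P) (hp : p ∈ P) (hq : q ∈ P) (h1 : Swp y z γ p τ₁ τ₂)
    (h2 : Swp y z γ q τ₁ τ₂) : p = q := by
  have := h1.mul h2.inv
  rw [mul_inv_cancel τ₁, mul_inv_cancel τ₂] at this
  exact mul_inv_eq_one.1 (hP.inj _ (mul_mem hp (inv_mem hq)) this)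

theorem PC.le_NU (k : Fr B U W u γ) (hP : PC t y z U γ P) : P ≤ Ns (U.map y ⊔ U.map z) :=
  fun p hp => mem_Ns_iff.2 (by
    obtain ⟨a, b, ha, hb, e | e⟩ := hP.pure p hp
    · rw [cj_sup, e.1.cj_map, e.2.cj_map, k.γU a ha, k.γU b hb]
    · rw [cj_sup, e.1.cj_map, e.2.cj_map, k.γU a ha, k.γU b hb, sup_comm])

theorem PC.le_M (hP : PC t y z U γ P) : (U.map y ⊔ U.map z) ⊔ P ≤ Ns (y.range ⊔ z.range) :=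
  sup_le ((sup_le_sup (map_le_range _ _) (map_le_range _ _)).trans le_normalizer)
    fun p hp => mem_Ns_iff.2 (by
      obtain ⟨a, b, -, -, e | e⟩ := hP.pure p hp
      · rw [cj_sup, e.1.cj_range, e.2.cj_range]
      · rw [cj_sup, e.1.cj_range, e.2.cj_range, sup_comm])

theorem PC.symm (hP : PC t y z U γ P) : PC t z y U γ P where
  two := hP.two
  mem := hP.mem
  pure p hp := let ⟨a, b, ha, hb, e⟩ := hP.pure p hp; ⟨b, a, hb, ha, e.imp Nsw.symm Swp.symm⟩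
  inj p hp e := hP.inj p hp e.symm
  syl := by rw [sup_comm (U.map z)]; exact hP.syl

theorem ES.mp_mul (h : ES φ t y z) (a b : sIsom B) :
    Mp y y (y a * z b) (MulAut.conj a) ∧ Mp z z (y a * z b) (MulAut.conj b) :=
  ⟨mul_one (MulAut.conj a) ▸ (Mp.self a).mul (.of_Cs (h.symm.le_Cs ⟨b, rfl⟩)),
    one_mul (MulAut.conj b) ▸ (Mp.of_Cs (h.le_Cs ⟨a, rfl⟩)).mul (.self b)⟩

theorem ES.G0_inf (h : ES φ t y z) (k : Fr B U W u γ) (hP : PC t y z U γ P) :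
    (y.range ⊔ z.range) ⊓ P = ⊥ := le_bot_iff.1 fun p ⟨h1, hp⟩ => by
  obtain ⟨τ₁, τ₂, e⟩ := h.nsw_of hP hp (h.G0_le h1).1
  obtain ⟨a, b, rfl⟩ := h.dec0 h1
  have e1 := congrArg fa (e.1.uniq h.my (h.mp_mul a b).1)
  have e2 := congrArg fa (e.2.uniq h.mz (h.mp_mul a b).2)
  rw [k.faγ, h.my.toMo.fa_conj] at e1 e2
  exact hP.inj _ hp (by rwa [e1, e2] at e)

theorem ES.inf_P (h : ES φ t y z) (k : Fr B U W u γ) (hP : PC t y z U γ P) :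
    (U.map y ⊔ U.map z) ⊓ P = ⊥ := le_bot_iff.1 ((inf_le_inf_right _
  (sup_le_sup (map_le_range _ _) (map_le_range _ _))).trans (h.G0_inf k hP).le)

theorem ES.decomp (h : ES φ t y z) (k : Fr B U W u γ) (hP : PC t y z U γ P) {g : G}
    (hg : g ∈ (U.map y ⊔ U.map z) ⊔ P) : ∃ a ∈ U, ∃ b ∈ U, ∃ p ∈ P, g = y a * z b * p := by
  obtain ⟨p, hp⟩ := SG2.exists_Pp (hP.le_NU k) hg
  obtain ⟨v, hv, rfl⟩ := hp.eq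
  obtain ⟨_, ⟨a, ha, rfl⟩, _, ⟨b, hb, rfl⟩, rfl⟩ := (SG2.mem_sup_Cs (h.map_Cs U U)).1 hv
  exact ⟨a, ha, b, hb, p, hp.1, rfl⟩

theorem ES.mp_nsw (h : ES φ t y z) (hp : Nsw y z γ p τ₁ τ₂) (a b : sIsom B) :
    Mp y y (y a * z b * p) (MulAut.conj a * γ τ₁) ∧ Mp z z (y a * z b * p) (MulAut.conj b * γ τ₂) :=
  ⟨(h.mp_mul a b).1.mul hp.1, (h.mp_mul a b).2.mul hp.2⟩

theorem ES.swap_conj (h : ES φ t y z) (hp : Swp y z γ p τ₁ τ₂) {a b : sIsom B} (ha : Tw a)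
    (hb : Tw b) (e : y a * z b * p * (y a * z b * p) = p * p) :
    (y a)⁻¹ * (y a * z b * p) * y a = p := by
  have e1 : y (a * γ τ₂ b) * z (b * γ τ₁ a) = 1 := by
    rw [map_mul, map_mul, (h.com _ _).mul_mul_mul_comm, (h.com _ _).eq (a := y (γ τ₂ b)), ← hp.1, ← hp.2]
    calc _ = y a * z b * p * (y a * z b * p) * (p * p)⁻¹ := by group
      _ = _ := by rw [e, mul_inv_cancel]
  have e2 := eq_c h.my.toMo (tw_map (γ τ₁) ha) (tw_inv hb) (by rw [inv_inv]; exact (h.cen_of e1).2)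
  calc _ = z b * (p * y a * p⁻¹) * p := by group
    _ = _ := by rw [hp.1, e2, map_inv, mul_inv_cancel, one_mul]

theorem PC.nsw_comm (hP : PC t y z U γ P) (hp : p ∈ P) (hq : q ∈ P) (h1 : Nsw y z γ p τ₁ τ₂)
    (h2 : Nsw y z γ q ρ₁ ρ₂) : p * q = q * p :=
  hP.nsw_ext (mul_mem hp hq) (mul_mem hq hp) (h1.mul h2)
    (aut_comm ρ₁ τ₁ ▸ aut_comm ρ₂ τ₂ ▸ h2.mul h1)

theorem PC.diag_comm (hP : PC t y z U γ P) (hp : p ∈ P) (h1 : Nsw y z γ p τ₁ τ₁) (hq : q ∈ P) :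
    p * q = q * p := by
  obtain ⟨a, b, -, -, e | e⟩ := hP.pure q hq
  · exact hP.nsw_comm hp hq h1 e
  · exact hP.swp_ext (mul_mem hp hq) (mul_mem hq hp) (h1.mul_swp e)
      (aut_comm a τ₁ ▸ aut_comm b τ₁ ▸ e.mul_nsw h1)

theorem ES.diag_of_comm (h : ES φ t y z) (k : Fr B U W u γ) (h1 : Nsw y z γ p τ₁ τ₂)
    (h2 : Swp y z γ q ρ₁ ρ₂) (e : p * q = q * p) : τ₁ = τ₂ := by
  have := (h.swp_uniq k (h1.mul_swp h2) (e ▸ h2.mul_nsw h1)).1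
  rw [aut_comm ρ₁] at this
  exact (mul_right_cancel this).symm

end Cfsg.Lib.UM
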