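import Cfsg.Agent.UM.EMB
import Cfsg.Agent.SU4.SYb

/-!
# Standard subgroups of type `U_m(2ⁿ)`, split case: the Sylow 2-subgroup of the simple group
-/

set_option autoImplicit false
set_option linter.unusedSectionVars false

namespace Cfsg.Lib.UM

open Subgroup Module Cfsg.Lib.Trans Cfsg.Lib.Gold Cfsg.Lib.Class.Form Cfsg.Lib.Class.FAut ESa
open Cfsg.Lib.SG2 (Uq Top Pp exists_Pp thompson_sub)
open Cfsg.Lib.SU4.SYb (mem_zp)
open Cfsg.Lib.Comp (Tw)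
open scoped commutatorElement

variable {G E M : Type*} [Group G] [Finite G] [Field E] [Finite E] [AddCommGroup M] [Module E M]
  [FiniteDimensional E M] {σ : E →+* E} {B : M →ₛₗ[σ] M →ₗ[E] E} {φ φ' : sIsom B →* G} {t : G}
  {X : Subgroup G} {y z : sIsom B →* G} {P : Subgroup G} {U : Subgroup (sIsom B)} {W : Submodule E M}
  {u : M} {γ : (E ≃+* E) →* MulAut (sIsom B)} {s d k r : G}

namespace SYb

variable (h : FS0 φ t y z X) (o : Fr B U W u γ) (hP : PC t y z U γ P)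
include h o hP

omit o in
theorem syl0 : IsSylowIn 2 (((U.map y ⊔ U.map z) ⊔ P) ⊓ X) X :=
  hP.syl.inf_normal_of_le (by have := h.top.normal; rw [normalizer_eq_top]) le_top

omit h o in
theorem hM : P ≤ Ns (y.range ⊔ z.range) := le_sup_right.trans hP.le_M

theorem diag (hd : d ∈ P ⊓ Ns y.range) (c : Commute d t) (d2 : d * d = 1) :
    d = 1 ∨ Nsw y z γ d (sg σ) (sg σ) := by
  obtain ⟨σ₁, σ₂, hσ⟩ := h.toES.nsw_of hP hd.1 hd.2
  obtain rfl := h.toES.diag_of_comm o hσ h.toES.swp_t c.eq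
  rcases (h.toES.nsw_sq o hσ d2).1 with rfl | rfl
  exacts [.inl (hP.inj d hd.1 hσ), .inr hσ]

theorem part (hs : s ∈ P) (hf : Nsw y z γ s (sg σ) (sg σ)) (e : s ∈ zpowers d)
    (hr : Pp (U.map y ⊔ U.map z) P (k * d * k⁻¹) r) : s ∈ zpowers r := by
  obtain ⟨j, rfl⟩ := mem_powers_iff_mem_zpowers.2 e
  have h1 := hr.pow (hP.le_NU o) j
  rw [conj_pow] at h1
  rw [← h1.uniq (h.toES.inf_P o hP) (h.iso o hP hs hf h1.mem)]
  exact pow_mem (mem_zpowers r) j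

theorem ord (hs : s ∈ P) (hf : Nsw y z γ s (sg σ) (sg σ)) (s2 : s * s = 1) (s1 : s ≠ 1) (h2 : Comp.Tw d)
    (e : s ∈ zpowers d) (hr : Pp (U.map y ⊔ U.map z) P (k * d * k⁻¹) r) : orderOf r = orderOf d := by
  refine Nat.dvd_antisymm (orderOf_dvd_of_pow_eq_one (hr.pow_eq_one (hP.le_NU o) (h.toES.inf_P o hP)
    (by rw [conj_pow, pow_orderOf_eq_one, mul_one, mul_inv_cancel])))
    (orderOf_dvd_of_pow_eq_one (by_contra fun c => s1 ?_))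
  have h1 := hr.pow (hP.le_NU o) (orderOf r)
  rw [conj_pow] at h1
  have := part h o hP hs hf (mem_zp h2 e s2 s1 c) h1
  rwa [pow_orderOf_eq_one, zpowers_one_eq_bot, mem_bot] at this

theorem u1 (N : Subgroup G) (hN : N ≤ P ⊓ X) (hc : ∀ a ∈ P ⊓ X, ∀ b ∈ P ⊓ X, ⁅a, b⁆ ∈ N)
    (hs : ∀ a ∈ P, a ∉ P ⊓ X → a * a ∈ N) : P ⊓ X ⊓ C1 t ≤ N := by
  have hn : P ≤ Ns (KP y z) := (hM hP).trans h.KP_Ns
  have ex : ∀ a ∈ Ns (y.range ⊔ z.range), ∃ p, Pp (KP y z) P a p := fun a ha =>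
    exists_Pp hn (h.KP_sup hP ▸ ha)
  have key := SU4.uft (N := KP y z ⊔ N) h.top h.t2 h.nt h.toES.tM h.uq
    (fun a ha b hb => by
      obtain ⟨p, hp⟩ := ex a ha.1
      obtain ⟨q, hq⟩ := ex b hb.1
      exact ((hp.commutator hn hq).mem_iff le_sup_left).2 (mem_sup_right (hc p
        ⟨hp.1, (hp.mem_iff h.KP_le).1 ha.2⟩ q ⟨hq.1, (hq.mem_iff h.KP_le).1 hb.2⟩)))
    (fun a ha hX => by
      obtain ⟨p, hp⟩ := ex a ha
      exact ((hp.mul hn hp).mem_iff le_sup_left).2 (mem_sup_right (hs p hp.1 fun c =>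
        hX ((hp.mem_iff h.KP_le).2 c.2))))
  intro a ha
  obtain ⟨q, hq⟩ := exists_Pp ((hN.trans inf_le_left).trans hn) (key ⟨ha.1.2, ha.2⟩)
  rw [(Pp.of_P ha.1.1).uniq (h.KP_inf o hP) ⟨(hN hq.1).1, hq.2⟩]
  exact hq.1

theorem u2 (hs : s ∈ P) (hf : Nsw y z γ s (sg σ) (sg σ)) (s2 : s * s = 1) (s1 : s ≠ 1) (c : G)
    (hc : c ∈ P ⊓ X) (e : s ∈ zpowers c) (T : Subgroup G) (hT : T ≤ P ⊓ X)
    (h1 : ∀ a ∈ P ⊓ X, ∀ b ∈ P ⊓ X, ⁅a, b⁆ ∈ T)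
    (h2 : ∀ r ∈ P ⊓ X, s ∈ zpowers r → orderOf r < orderOf c → r ∈ T)
    (h3 : ∀ r ∈ P ⊓ X, ∀ r' ∈ P ⊓ X, s ∈ zpowers r → s ∈ zpowers r' → orderOf r = orderOf c →
      orderOf r' = orderOf c → r ∉ T → r' ∉ T → r * r' ∈ T) :
    ∃ r ∈ T, orderOf r = orderOf c := by
  have hn := hP.le_NU o
  have uX : U.map y ⊔ U.map z ≤ X := (sup_le_sup (map_le_range _ _) (map_le_range _ _)).trans h.le
  have tw := Comp.Tw.of_mem hP.two hc.1
  have ex : ∀ a ∈ ((U.map y ⊔ U.map z) ⊔ P) ⊓ X, ∃ p ∈ P ⊓ X, Pp (U.map y ⊔ U.map z) P a p := fun a ha => by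
    obtain ⟨p, hp⟩ := exists_Pp hn ha.1
    exact ⟨p, ⟨hp.1, (hp.mem_iff uX).1 ha.2⟩, hp⟩
  have up : ∀ {a p : G}, Pp (U.map y ⊔ U.map z) P a p → p ∈ T → a ∈ (U.map y ⊔ U.map z) ⊔ T := fun hp m =>
    (hp.mem_iff le_sup_left).2 (mem_sup_right m)
  obtain ⟨k, -, k2, -⟩ := thompson_sub (T := (U.map y ⊔ U.map z) ⊔ T) h.top.perf (syl0 h hP)
    (fun a ha b hb => by
      obtain ⟨p, p1, hp⟩ := ex a ha
      obtain ⟨q, q1, hq⟩ := ex b hb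
      exact up (hp.commutator hn hq) (h1 p p1 q q1)) hc.2 tw
    (fun m hm m1 k hk => by
      by_cases c1 : c ^ m = 1
      · rw [c1, mul_one, mul_inv_cancel]; exact one_mem _
      obtain ⟨p, p1, hp⟩ := ex _ hk
      have e1 := mem_zp tw e s2 s1 c1
      refine up hp (h2 p p1 (part h o hP hs hf e1 hp) ?_)
      rw [ord h o hP hs hf s2 s1 (Comp.Tw.of_mem hP.two (pow_mem hc.1 m)) e1 hp]
      have m0 : m ≠ 0 := fun e => c1 (by rw [e, pow_zero])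
      rw [orderOf_pow_of_dvd m0 hm]
      exact Nat.div_lt_self (orderOf_pos c) (by omega))
    (fun k l a b a' b' => by
      obtain ⟨p, p1, hp⟩ := ex _ a
      obtain ⟨q, q1, hq⟩ := ex _ b
      exact up (hp.mul hn hq) (h3 p p1 q q1 (part h o hP hs hf e hp) (part h o hP hs hf e hq)
        (ord h o hP hs hf s2 s1 tw e hp) (ord h o hP hs hf s2 s1 tw e hq)
        (fun m => a' (up hp m)) fun m => b' (up hq m))) IsPGroup.of_bot bot_le bot_le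
  obtain ⟨q, hq⟩ := exists_Pp ((hT.trans inf_le_left).trans hn) k2
  exact ⟨q, hq.1, ord h o hP hs hf s2 s1 tw e ⟨(hT hq.1).1, hq.2⟩⟩

theorem P_inf (hd : d ∈ P) (hX : d ∈ X) : d = 1 := by
  have t1 := h.toES.swp_not (h.toES.swp_t (γ := γ))
  by_cases hN : P ⊓ Ns y.range = ⊥
  · by_cases c : d ∈ Ns y.range
    · exact mem_bot.1 (hN ▸ mem_inf.2 ⟨hd, c⟩)
    · have := mem_bot.1 (hN ▸ mem_inf.2 ⟨mul_mem hd hP.mem,
        h.toES.idx d (hM hP hd) t (hM hP hP.mem) c t1⟩)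
      exact absurd (eq_inv_of_mul_eq_one_right this ▸ inv_mem hX) h.nt
  obtain ⟨s, a, s1, s2, e, -⟩ := Comp.exists_fix (Comp.Tw.of_sq h.t2).isPGroup
    (hP.two.to_le inf_le_left) (zpowers_le.2 (Comp.mem_Ns_of fun p hp =>
      mem_inf.2 ⟨mul_mem (mul_mem hP.mem hp.1) (inv_mem hP.mem),
        (h.toES.conj_iff (hM hP hP.mem) (hM hP hp.1)).2 hp.2⟩)) hN
  have c : Commute s t := (mem_Cs.1 e t (mem_zpowers t)).symm
  have hf := (diag h o hP a c s2).resolve_left s1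
  obtain ⟨r, r1, r2, r3, r4⟩ := SU4.pz (P₀ := P ⊓ X) (P₁ := P ⊓ Ns y.range) hP.two inf_le_left
    inf_le_left
    (fun a ha b hb na nb => ⟨mul_mem ha hb, h.top.ef_idx h.t2 (fun m => na ⟨ha, m⟩)
      fun m => nb ⟨hb, m⟩⟩)
    (fun a ha b hb na nb => ⟨mul_mem ha hb, h.toES.idx a (hM hP ha) b (hM hP hb)
      (fun m => na ⟨ha, m⟩) fun m => nb ⟨hb, m⟩⟩)
    (fun a ha b hb => by
      obtain ⟨_, _, e1⟩ := h.toES.nsw_of hP ha.1 ha.2
      obtain ⟨_, _, e2⟩ := h.toES.nsw_of hP hb.1 hb.2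
      exact hP.nsw_comm ha.1 hb.1 e1 e2)
    hP.mem h.t2 (fun m => h.nt m.2) (fun m => t1 m.2) a c s2 s1
    (fun b hb cb b2 => (diag h o hP hb cb b2).imp_right fun e1 => hP.nsw_ext hb.1 a.1 e1 hf)
    (u1 h o hP) (u2 h o hP a.1 hf s2 s1)
  exact (h.emb o hP a.1 hf r1 (fun m => r2 ⟨r1.1, m⟩) r3 r4).elim

end SYb

open SYb in
theorem FS0.fs (h : FS0 φ t y z X) (k : Fr B U W u γ) (hP : PC t y z U γ P) : FS φ t y z X U := by
  have uX : U.map y ⊔ U.map z ≤ X := (sup_le_sup (map_le_range _ _) (map_le_range _ _)).trans h.le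
  refine ⟨h, ?_⟩
  have := syl0 h hP
  rwa [le_antisymm (fun g hg => ?_) (le_inf le_sup_left uX)] at this
  obtain ⟨q, hq⟩ := exists_Pp (hP.le_NU k) hg.1
  obtain rfl := P_inf h k hP hq.1 ((hq.mem_iff uX).1 hg.2)
  exact hq.mem_U

end Cfsg.Lib.UM
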